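import Groth.Agent.SemiFact.K793.ChartBlow
import Groth.Agent.Ega2.BlowBasic

/-!
The blow-up of a nodal family over a discrete valuation ring in a non-regular closed point is a nodal family.
-/

set_option autoImplicit false
universe u

open BlowUp CategoryTheory CategoryTheory.Limits AlgebraicGeometry IsLocalRing

namespace K793.Chart

open Groth.Agent.Models.NodeRing Groth.Agent.Models.NodeBlow Groth.Agent.Models.NodeStep
open Groth.Agent.Divis.BlowChart K793.NodeBlow Groth.Agent.Models

/-- Being a nodal family is étale local on the source. -/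
theorem isNodalFamily_of_forall {X S : Scheme.{u}} (f : X ⟶ S)
    (h : ∀ x : X, ∃ (P : Scheme.{u}) (α : P ⟶ X), Etale α ∧ x ∈ Set.range α ∧ Curv2.IsNodalFamily (α ≫ f)) :
    Curv2.IsNodalFamily f := by
  choose P α h1 h2 h3 using h
  exact Groth.Agent.S1593.result f X P α (fun x => ⟨x, h2 x⟩) h3

/-- ideals of a locally noetherian scheme are of finite type -/
theorem isFiniteTypeIdeal {X : Scheme.{u}} [IsLocallyNoetherian X] (I : X.IdealSheafData) :
    BlowUp.IsFiniteTypeIdeal I := by
  intro U
  have := IsLocallyNoetherian.component_noetherian U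
  exact (isNoetherianRing_iff_ideal_fg _).1 inferInstance _

theorem isNodalFamily_blowUp (R : Type u) [CommRing R] [IsDomain R] [IsDiscreteValuationRing R]
    {X X' : Scheme.{u}} (f : X ⟶ Spec (CommRingCat.of R)) [IsLocallyNoetherian X]
    (hf : Curv2.IsNodalFamily f) (x : X) (hx : f x = (closedPoint R : PrimeSpectrum R)) (hxc : IsClosed ({x} : Set X))
    (hreg : ¬ IsRegularLocalRing (X.presheaf.stalk x))
    (b : X' ⟶ X) (hb : BlowUp.IsBlowUp b (Scheme.IdealSheafData.vanishingIdeal ⟨{x}, hxc⟩)) :
    Curv2.IsNodalFamily (b ≫ f) := by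
  obtain ⟨ϖ, hϖ⟩ := IsDiscreteValuationRing.exists_irreducible R
  apply isNodalFamily_of_forall
  intro x'
  by_cases h : b x' = x
  · obtain ⟨C⟩ := exists_nchart hϖ f hf x hx
    obtain ⟨c, hc, -⟩ := C.exists_c hreg
    have htm : algebraMap C.D (W C.D C.a) C.t ∈ (C.g C.y).asIdeal := by
      rw [C.t_mem_iff hϖ, C.hy]
      exact hx
    obtain ⟨B⟩ := exists_bchart C hreg htm c hc hxc b hb x' h
    exact ⟨B.P, B.α, inferInstance, ⟨B.z, B.hz⟩, B.isNodalFamily⟩
  · let I := Scheme.IdealSheafData.vanishingIdeal (X := X) ⟨{x}, hxc⟩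
    obtain ⟨r, hr, hrb⟩ := Groth.Agent.Ega2.BlowBasic.exists_isIso_offSupport hb
    refine ⟨_, (Groth.Agent.Ega2.BlowBasic.offSupport (I.comap b)).ι, inferInstance, ?_, ?_⟩
    · rw [Scheme.Opens.range_ι]
      change x' ∉ (I.comap b).support
      rw [Scheme.IdealSheafData.support_comap]
      change b x' ∉ I.support
      rw [← SetLike.mem_coe, Scheme.IdealSheafData.coe_support_vanishingIdeal]
      exact h
    · rw [← Category.assoc, ← hrb, Category.assoc]
      exact Groth.Agent.S1592.result _ (Groth.Agent.S1592.result f hf _) r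

end K793.Chart
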