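import Groth.Prelude.Def_DualGr
import Groth.Agent.CycB.FiberStalk
import Groth.Agent.Models.DVRGeneric2

/-!
# Schemes over a discrete valuation ring: stalks over the closed point

`DualGr.stalkHom f x : R → O_{X,x}`; when `ϖ` maps to a unit; the ideal of the special fibre on stalks.
-/

set_option autoImplicit false
universe u
open CategoryTheory CategoryTheory.Limits AlgebraicGeometry IsLocalRing

namespace K793.Basic

section General

variable {R : Type u} [CommRing R] {X : Scheme.{u}} (f : X ⟶ Spec (CommRingCat.of R))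

theorem stalkHom_eq_germ (x : X) (r : R) : DualGr.stalkHom f x r =
    X.presheaf.germ ⊤ x trivial (show Γ(X, ⊤) from Coh.toGlobal f r) := rfl

theorem basicOpen_toGlobal (r : R) :
    X.basicOpen (show Γ(X, ⊤) from Coh.toGlobal f r) = f ⁻¹ᵁ (PrimeSpectrum.basicOpen r) := by
  have h1 : (show Γ(X, ⊤) from Coh.toGlobal f r) =
    f.appTop.hom ((Scheme.ΓSpecIso (CommRingCat.of R)).inv.hom r) := rfl
  rw [h1]
  have h2 : X.basicOpen (f.appTop.hom ((Scheme.ΓSpecIso (CommRingCat.of R)).inv.hom r)) =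
    f ⁻¹ᵁ ((Spec (CommRingCat.of R)).basicOpen ((Scheme.ΓSpecIso (CommRingCat.of R)).inv.hom r)) :=
    (Scheme.preimage_basicOpen_top f _).symm
  rw [h2]
  congr 1
  exact basicOpen_eq_of_affine (R := CommRingCat.of R) r

theorem isUnit_stalkHom_iff (x : X) (r : R) :
    IsUnit (DualGr.stalkHom f x r) ↔ r ∉ (f x).asIdeal := by
  have h1 : IsUnit (DualGr.stalkHom f x r) ↔
      x ∈ X.basicOpen (show Γ(X, ⊤) from Coh.toGlobal f r) :=
    (Scheme.mem_basicOpen_top X _ x).symm
  rw [h1, basicOpen_toGlobal]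
  rfl

/-- the stalk map of `f`, seen from the stalk of `Spec R` -/
theorem stalkMap_germ (x : X) (r : R) : (f.stalkMap x).hom
    ((Spec (CommRingCat.of R)).presheaf.germ ⊤ (f x) trivial
      ((Scheme.ΓSpecIso (CommRingCat.of R)).inv.hom r)) = DualGr.stalkHom f x r := by
  exact Scheme.Hom.germ_stalkMap_apply f ⊤ x trivial _

theorem maximalIdeal_stalk (s : Spec (CommRingCat.of R)) :
    IsLocalRing.maximalIdeal ((Spec (CommRingCat.of R)).presheaf.stalk s) =
      Ideal.map (((Spec (CommRingCat.of R)).presheaf.germ ⊤ s trivial).hom.comp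
        (Scheme.ΓSpecIso (CommRingCat.of R)).inv.hom) s.asIdeal := by
  let _alg : Algebra R ((Spec (CommRingCat.of R)).presheaf.stalk s) :=
    (((Spec (CommRingCat.of R)).presheaf.germ ⊤ s trivial).hom.comp
        (Scheme.ΓSpecIso (CommRingCat.of R)).inv.hom).toAlgebra
  have h : IsLocalization.AtPrime ((Spec (CommRingCat.of R)).presheaf.stalk s) s.asIdeal :=
    AlgebraicGeometry.StructureSheaf.IsLocalization.to_stalk R s
  exact (IsLocalization.AtPrime.map_eq_maximalIdeal s.asIdeal _).symm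

theorem fibIdeal_eq (x : X) :
    Groth.Agent.CycB.FiberStalk.fibIdeal f x = Ideal.map (DualGr.stalkHom f x) (f x).asIdeal := by
  unfold Groth.Agent.CycB.FiberStalk.fibIdeal
  rw [maximalIdeal_stalk, Ideal.map_map]
  congr 1
  ext r
  exact stalkMap_germ f x r

end General

section Flat

variable {R : Type u} [CommRing R] {X : Scheme.{u}} (f : X ⟶ Spec (CommRingCat.of R))

theorem flat_stalkHom [Flat f] (x : X) : (DualGr.stalkHom f x).Flat := by
  have h1 : (f.stalkMap x).hom.Flat := Flat.stalkMap f x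
  let φ : R →+* (Spec (CommRingCat.of R)).presheaf.stalk (f x) :=
    ((Spec (CommRingCat.of R)).presheaf.germ ⊤ (f x) trivial).hom.comp
      (Scheme.ΓSpecIso (CommRingCat.of R)).inv.hom
  have h2 : φ.Flat := by
    let alg : Algebra R ((Spec (CommRingCat.of R)).presheaf.stalk (f x)) := φ.toAlgebra
    have h : IsLocalization.AtPrime ((Spec (CommRingCat.of R)).presheaf.stalk (f x)) (f x).asIdeal :=
      AlgebraicGeometry.StructureSheaf.IsLocalization.to_stalk R (f x)
    exact IsLocalization.flat ((Spec (CommRingCat.of R)).presheaf.stalk (f x)) (f x).asIdeal.primeCompl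
  have h3 : DualGr.stalkHom f x = (f.stalkMap x).hom.comp φ := by
    ext r
    exact (stalkMap_germ f x r).symm
  rw [h3]
  exact RingHom.Flat.comp h2 h1

theorem eq_zero_of_stalkHom_mul [IsDomain R] [Flat f] (x : X) {r : R} (hr : r ≠ 0) {s : X.presheaf.stalk x}
    (h : DualGr.stalkHom f x r * s = 0) : s = 0 := by
  let _alg := (DualGr.stalkHom f x).toAlgebra
  have h3 : Module.Flat R (X.presheaf.stalk x) := flat_stalkHom f x
  have h4 : IsSMulRegular R r := by
    rw [isSMulRegular_iff_right_eq_zero_of_smul]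
    intro y hy
    exact (mul_eq_zero.mp hy).resolve_left hr
  have h5 : IsSMulRegular (X.presheaf.stalk x) (algebraMap R (X.presheaf.stalk x) r) := h4.of_flat
  rw [isSMulRegular_iff_right_eq_zero_of_smul] at h5
  exact h5 _ h

theorem stalkHom_mem_nonZeroDivisors [IsDomain R] [Flat f] (x : X) {r : R} (hr : r ≠ 0) :
    DualGr.stalkHom f x r ∈ nonZeroDivisors (X.presheaf.stalk x) := by
  rw [mem_nonZeroDivisors_iff_right]
  intro s hs
  exact eq_zero_of_stalkHom_mul f x hr (by rw [mul_comm]; exact hs)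

/-- the section of `O_X` over `V` given by an element of `R` -/
noncomputable def sec (V : X.Opens) : R →+* Γ(X, V) :=
  (X.presheaf.map (homOfLE (le_top : V ≤ ⊤)).op).hom.comp
    (show R →+* Γ(X, ⊤) from Coh.toGlobal f)

theorem germ_sec (V : X.Opens) (x : X) (hx : x ∈ V) (r : R) :
    X.presheaf.germ V x hx (sec f V r) = DualGr.stalkHom f x r :=
  X.presheaf.germ_res_apply (homOfLE (le_top : V ≤ ⊤)) x hx _

theorem sec_res {V W : X.Opens} (h : W ≤ V) (r : R) :
    X.presheaf.map (homOfLE h).op (sec f V r) = sec f W r := by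
  change (X.presheaf.map (homOfLE (le_top : V ≤ ⊤)).op ≫ X.presheaf.map (homOfLE h).op) _ = _
  rw [← X.presheaf.map_comp]
  rfl

theorem eq_zero_of_sec_mul [IsDomain R] [Flat f] (V : X.Opens) {r : R} (hr : r ≠ 0) {s : Γ(X, V)}
    (h : sec f V r * s = 0) : s = 0 := by
  apply X.IsSheaf.section_ext
  intro x hx
  have h1 : X.presheaf.germ V x hx s = 0 := by
    apply eq_zero_of_stalkHom_mul f x hr
    rw [← germ_sec f V x hx, ← map_mul, h, map_zero]
  rw [← map_zero (X.presheaf.germ V x hx).hom] at h1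
  obtain ⟨W, hW, i, j, hij⟩ := X.presheaf.germ_eq x hx hx s 0 h1
  exact ⟨W, i.le, hW, hij⟩

end Flat

section Dvr

variable {R : Type u} [CommRing R] [IsDomain R] [IsDiscreteValuationRing R] {X : Scheme.{u}}
  (f : X ⟶ Spec (CommRingCat.of R))

theorem eq_closedPoint_iff (s : Spec (CommRingCat.of R)) {ϖ : R} (hϖ : Irreducible ϖ) :
    s = (closedPoint R : PrimeSpectrum R) ↔ ϖ ∈ s.asIdeal := by
  constructor
  · rintro rfl
    change ϖ ∈ maximalIdeal R
    rw [hϖ.maximalIdeal_eq]
    exact Ideal.mem_span_singleton_self ϖ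
  · intro h
    apply PrimeSpectrum.ext
    change s.asIdeal = maximalIdeal R
    symm
    refine (IsLocalRing.maximalIdeal.isMaximal R).eq_of_le s.isPrime.ne_top ?_
    rw [hϖ.maximalIdeal_eq, Ideal.span_singleton_le_iff_mem]
    exact h

theorem isUnit_stalkHom_iff_ne (x : X) {ϖ : R} (hϖ : Irreducible ϖ) :
    IsUnit (DualGr.stalkHom f x ϖ) ↔ f x ≠ (closedPoint R : PrimeSpectrum R) := by
  rw [isUnit_stalkHom_iff, Ne, eq_closedPoint_iff _ hϖ]

theorem fibIdeal_eq_span (x : X) {ϖ : R} (hϖ : Irreducible ϖ) (hx : f x = (closedPoint R : PrimeSpectrum R)) :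
    Groth.Agent.CycB.FiberStalk.fibIdeal f x = Ideal.span {DualGr.stalkHom f x ϖ} := by
  rw [fibIdeal_eq, hx]
  change Ideal.map _ (maximalIdeal R) = _
  rw [hϖ.maximalIdeal_eq, Ideal.map_span, Set.image_singleton]

/-- the local rings of the special fibre -/
noncomputable def fibEquiv (x : X) {ϖ : R} (hϖ : Irreducible ϖ)
    (z : f.fiber (closedPoint R)) (hz : f.fiberι (closedPoint R) z = x) :
    (X.presheaf.stalk x ⧸ Ideal.span {DualGr.stalkHom f x ϖ}) ≃+*
      (f.fiber (closedPoint R)).presheaf.stalk z := by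
  subst hz
  exact (Ideal.quotEquivOfEq (fibIdeal_eq_span f _ hϖ
    (Groth.Agent.CycB.FiberStalk.fiberι_mem f (closedPoint R) z)).symm).trans
    (Groth.Agent.CycB.FiberStalk.stalkEquiv f (closedPoint R) z)

theorem exists_fiber_point (x : X) (hx : f x = (closedPoint R : PrimeSpectrum R)) :
    ∃ z : f.fiber (closedPoint R), f.fiberι (closedPoint R) z = x := by
  have h : x ∈ Set.range (f.fiberι (closedPoint R)) := by
    rw [f.range_fiberι]; exact hx
  exact h

theorem isReduced_quot [IsReduced (f.fiber (closedPoint R))] (x : X) {ϖ : R} (hϖ : Irreducible ϖ)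
    (hx : f x = (closedPoint R : PrimeSpectrum R)) :
    _root_.IsReduced (X.presheaf.stalk x ⧸ Ideal.span {DualGr.stalkHom f x ϖ}) := by
  obtain ⟨z, hz⟩ := exists_fiber_point f x hx
  exact isReduced_of_injective (fibEquiv f x hϖ z hz) (fibEquiv f x hϖ z hz).injective

end Dvr

end K793.Basic
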