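import Groth.Agent.SemiFact.K793.NodeBlow
import Groth.Agent.S2227
import Groth.Agent.S1592
import Groth.Agent.S1593
import Groth.Agent.S1595
import Mathlib.AlgebraicGeometry.Morphisms.QuasiFinite

/-!
Étale charts of nodal families over a discrete valuation ring and the effect of blowing up a non-regular closed point.
-/

set_option autoImplicit false
universe u

open BlowUp CategoryTheory CategoryTheory.Limits AlgebraicGeometry IsLocalRing

namespace K793.Chart

open Groth.Agent.Models.NodeRing Groth.Agent.Models.NodeBlow Groth.Agent.Models.NodeStep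
open Groth.Agent.Divis.BlowChart

/-- An étale chart at `x` of `p : X ⟶ Spec R`: an étale neighbourhood `e : U ⟶ X` of `x`, étale over
`Spec D[u,v]/(uv - a)`, `D` a discrete valuation ring étale over `R` with uniformizer `ϖ`, `a = 0` or a power of `ϖ`. -/
structure NChart (R : Type u) [CommRing R] (ϖ : R) {X : Scheme.{u}} (p : X ⟶ Spec (CommRingCat.of R)) (x : X) where
  D : Type u
  [cr : CommRing D]
  [dom : IsDomain D]
  [dvr : IsDiscreteValuationRing D]
  [alg : Algebra R D]
  [et : Algebra.Etale R D]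
  irr : Irreducible (algebraMap R D ϖ)
  a : D
  ha : a = 0 ∨ ∃ n : ℕ, a = algebraMap R D ϖ ^ n
  U : Scheme.{u}
  e : U ⟶ X
  [ete : Etale e]
  y : U
  hy : e y = x
  g : U ⟶ Spec (CommRingCat.of (W D a))
  [etg : Etale g]
  w : g ≫ str D a ≫ Spec.map (CommRingCat.ofHom (algebraMap R D)) = e ≫ p

attribute [instance] NChart.cr NChart.dom NChart.dvr NChart.alg NChart.et NChart.ete NChart.etg

theorem exists_nchart {R : Type u} [CommRing R] [IsDomain R] [IsDiscreteValuationRing R] {ϖ : R}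
    (hϖ : Irreducible ϖ) {X : Scheme.{u}} (p : X ⟶ Spec (CommRingCat.of R)) (hp : Curv2.IsNodalFamily p) (x : X)
    (hx : p x = closedPoint R) : Nonempty (NChart R ϖ p x) := by
  obtain ⟨D, i1, i2, i3, i4, i5, ht, h, hh, U, e, he, y, hy, g, hg, hge⟩ :=
    Groth.Agent.S2227.result R ϖ hϖ X p hp x hx
  obtain ⟨a, ha, rfl⟩ : ∃ a : D, (a = 0 ∨ ∃ n : ℕ, a = algebraMap R D ϖ ^ n) ∧ h = MvPolynomial.C a := by
    rcases hh with rfl | ⟨n, rfl⟩
    · exact ⟨0, Or.inl rfl, by simp⟩
    · exact ⟨_, Or.inr ⟨n, rfl⟩, rfl⟩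
  refine ⟨{ D := D, irr := ht, a := a, ha := ha, U := U, e := e, y := y, hy := hy, g := g, w := ?_ }⟩
  rw [← hge, ← Spec.map_comp, ← CommRingCat.ofHom_comp]
  rfl

theorem orig_isPrime {D : Type u} [CommRing D] [IsDomain D] [IsDiscreteValuationRing D] {t : D} (ht : Irreducible t)
    {a : D} (ha : t ∣ a) : (orig t a).IsPrime := by
  have htr : IsLocalRing.residue D t = 0 := by
    rw [IsLocalRing.residue_eq_zero_iff, (IsDiscreteValuationRing.irreducible_iff_uniformizer t).1 ht]
    exact Ideal.mem_span_singleton_self t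
  let ψ : W D a →+* IsLocalRing.ResidueField D := Groth.Agent.Models.NodeRing.lift (IsLocalRing.residue D) 0 0 (by
    obtain ⟨c, rfl⟩ := ha
    rw [map_mul, htr, zero_mul, zero_mul])
  have h1 : (RingHom.ker ψ).IsPrime := RingHom.ker_isPrime ψ
  have h2 : RingHom.ker ψ = orig t a := by
    apply eq_span_of_mem D t ht
    · rw [RingHom.mem_ker]; simp [ψ]
    · rw [RingHom.mem_ker]; simp [ψ]
    · rw [RingHom.mem_ker]
      simp only [ψ, lift_algebraMap]
      exact htr
  rw [← h2]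
  exact h1

lemma locallyQuasiFinite_of_etale {X Y : Scheme.{u}} (f : X ⟶ Y) [AlgebraicGeometry.Etale f] :
    LocallyQuasiFinite f where
  quasiFinite_appLE := by
    intro U hU V hV e
    have h1 : (f.appLE U V e).hom.Etale := f.etale_appLE hU hV e
    algebraize [(f.appLE U V e).hom]
    exact inferInstanceAs (Algebra.QuasiFinite _ _)

namespace NChart

variable {R : Type u} [CommRing R] {ϖ : R} {X : Scheme.{u}} {p : X ⟶ Spec (CommRingCat.of R)} {x : X}
  (C : NChart R ϖ p x)

/-- the uniformizer of the chart -/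
noncomputable abbrev t : C.D := algebraMap R C.D ϖ

instance isLocallyNoetherian_W : IsLocallyNoetherian (Spec (CommRingCat.of (W C.D C.a))) := by
  have hN1 : IsNoetherianRing (W C.D C.a) := inferInstance
  have : IsNoetherianRing (CommRingCat.of (W C.D C.a)) := hN1
  infer_instance

theorem isRegular_iff [IsLocallyNoetherian X] (z : C.U) :
    IsRegularLocalRing (X.presheaf.stalk (C.e z)) ↔
      IsRegularLocalRing ((Spec (CommRingCat.of (W C.D C.a))).presheaf.stalk (C.g z)) := by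
  have h1 := Groth.Agent.S0065.result C.e z
  have h2 := Groth.Agent.S0065.result C.g z
  exact h1.symm.trans h2

theorem uu_mem [IsLocallyNoetherian X] (h : ¬ IsRegularLocalRing (X.presheaf.stalk x)) :
    uu C.D C.a ∈ (C.g C.y).asIdeal := by
  by_contra hu
  have hD : IsRegularRing C.D := inferInstance
  have h1 := (stalk_isRegular_iff (C.g C.y)).2 (isRegular_of_uu_notMem C.D C.a _ hu)
  rw [← C.isRegular_iff, C.hy] at h1
  exact h h1

theorem vv_mem [IsLocallyNoetherian X] (h : ¬ IsRegularLocalRing (X.presheaf.stalk x)) :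
    vv C.D C.a ∈ (C.g C.y).asIdeal := by
  by_contra hu
  have hD : IsRegularRing C.D := inferInstance
  have h1 := (stalk_isRegular_iff (C.g C.y)).2 (isRegular_of_vv_notMem C.D C.a _ hu)
  rw [← C.isRegular_iff, C.hy] at h1
  exact h h1

theorem mem_iff (r : R) (z : C.U) :
    algebraMap C.D (W C.D C.a) (algebraMap R C.D r) ∈ (C.g z).asIdeal ↔ r ∈ (p (C.e z)).asIdeal := by
  have h1 : (C.g ≫ str C.D C.a ≫ Spec.map (CommRingCat.ofHom (algebraMap R C.D))) z = (C.e ≫ p) z := by
    rw [C.w]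
  have h2 : p (C.e z) = (Spec.map (CommRingCat.ofHom (algebraMap R C.D)))
    ((Spec.map (CommRingCat.ofHom (algebraMap C.D (W C.D C.a)))) (C.g z)) := h1.symm
  rw [h2]
  rfl

theorem t_mem_iff [IsDomain R] [IsDiscreteValuationRing R] (hϖ : Irreducible ϖ) (z : C.U) :
    algebraMap C.D (W C.D C.a) C.t ∈ (C.g z).asIdeal ↔ p (C.e z) = (closedPoint R : PrimeSpectrum R) := by
  rw [C.mem_iff]
  constructor
  · intro h
    apply PrimeSpectrum.ext
    change (p (C.e z)).asIdeal = maximalIdeal R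
    symm
    refine (IsLocalRing.maximalIdeal.isMaximal R).eq_of_le (p (C.e z)).isPrime.ne_top ?_
    rw [hϖ.maximalIdeal_eq, Ideal.span_singleton_le_iff_mem]
    exact h
  · intro h
    rw [h]
    change ϖ ∈ maximalIdeal R
    rw [hϖ.maximalIdeal_eq]
    exact Ideal.mem_span_singleton_self ϖ

theorem exists_c [IsLocallyNoetherian X] (h : ¬ IsRegularLocalRing (X.presheaf.stalk x)) :
    ∃ c : C.D, C.a = C.t ^ 2 * c ∧ (c = 0 ∨ ∃ n : ℕ, c = C.t ^ n ∧ C.a = C.t ^ (n + 2)) := by
  rcases C.ha with ha | ⟨n, ha⟩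
  · exact ⟨0, by rw [ha, mul_zero], Or.inl rfl⟩
  · by_cases hn : n ≤ 1
    · exfalso
      have h1 := stalk_isRegular_of_le_one C.t C.irr n hn ha (C.g C.y)
      rw [← C.isRegular_iff, C.hy] at h1
      exact h h1
    · obtain ⟨m, rfl⟩ : ∃ m, n = m + 2 := ⟨n - 2, by omega⟩
      exact ⟨C.t ^ m, by rw [ha]; ring, Or.inr ⟨m, rfl, ha⟩⟩

theorem asIdeal_eq_orig [IsLocallyNoetherian X] (h : ¬ IsRegularLocalRing (X.presheaf.stalk x))
    (htm : algebraMap C.D (W C.D C.a) C.t ∈ (C.g C.y).asIdeal) : (C.g C.y).asIdeal = orig C.t C.a :=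
  eq_span_of_mem C.D C.t C.irr _ (C.uu_mem h) (C.vv_mem h) htm

theorem eq_iff_mem_support (w : Spec (CommRingCat.of (W C.D C.a)))
    (hw : w.asIdeal = orig C.t C.a) (w' : Spec (CommRingCat.of (W C.D C.a))) :
    w' ∈ (idl (orig C.t C.a)).support ↔ w' = w := by
  rw [mem_support_idl]
  constructor
  · intro h
    apply PrimeSpectrum.ext
    rw [hw]
    refine eq_span_of_mem C.D C.t C.irr _ (h ?_) (h ?_) (h ?_)
    · exact Ideal.subset_span (by simp)
    · exact Ideal.subset_span (by simp)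
    · exact Ideal.subset_span (by simp)
  · rintro rfl
    exact hw.ge

/-- shrinking the chart so that the points over `x` and over the image of `y` are reduced to `y` -/
theorem exists_shrink : ∃ V : C.U.Opens, C.y ∈ V ∧ (∀ z ∈ V, C.e z = x → z = C.y) ∧
    (∀ z ∈ V, C.g z = C.g C.y → z = C.y) := by
  have q1 : LocallyQuasiFinite C.e := locallyQuasiFinite_of_etale C.e
  have q2 : LocallyQuasiFinite C.g := locallyQuasiFinite_of_etale C.g
  have h1 := C.e.isDiscrete_preimage_singleton x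
  have h2 := C.g.isDiscrete_preimage_singleton (C.g C.y)
  rw [isDiscrete_iff_forall_mem_exists_isOpen] at h1 h2
  obtain ⟨V₁, hV₁, hV₁'⟩ := h1 C.y C.hy
  obtain ⟨V₂, hV₂, hV₂'⟩ := h2 C.y rfl
  have hy1 : C.y ∈ V₁ := by
    have : C.y ∈ V₁ ∩ (C.e ⁻¹' {x}) := by rw [hV₁']; rfl
    exact this.1
  have hy2 : C.y ∈ V₂ := by
    have : C.y ∈ V₂ ∩ (C.g ⁻¹' {C.g C.y}) := by rw [hV₂']; rfl
    exact this.1
  refine ⟨⟨V₁ ∩ V₂, hV₁.inter hV₂⟩, ⟨hy1, hy2⟩, ?_, ?_⟩
  · intro z hz hz'
    have : z ∈ V₁ ∩ (C.e ⁻¹' {x}) := ⟨hz.1, hz'⟩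
    rw [hV₁'] at this
    exact this
  · intro z hz hz'
    have : z ∈ V₂ ∩ (C.g ⁻¹' {C.g C.y}) := ⟨hz.2, hz'⟩
    rw [hV₂'] at this
    exact this

end NChart

end K793.Chart
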