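import Mathlib.RingTheory.Polynomial.ScaleRoots
import Mathlib.RingTheory.IntegralClosure.IsIntegral.Defs
import Mathlib.RingTheory.Ideal.Quotient.Operations
import Mathlib.RingTheory.Nilpotent.Basic

/-!
# An integral extension which is an equality away from a nonzerodivisor with reduced quotient
-/

set_option autoImplicit false
universe u

namespace K793.IntAlg

open Polynomial

theorem mem_span_of_isIntegral {A B : Type*} [CommRing A] [CommRing B] (φ : A →+* B) (hinj : Function.Injective φ)
    (t : A) (hred : ∀ (a : A) (n : ℕ), a ^ n ∈ Ideal.span {t} → a ∈ Ideal.span {t}) (b : B)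
    (hb : φ.IsIntegralElem b) (a : A) (hab : φ t * b = φ a) : a ∈ Ideal.span {t} := by
  obtain ⟨P, hP, hPb⟩ := hb
  have h1 := scaleRoots_eval₂_eq_zero (s := t) φ hPb
  rw [hab] at h1
  have h2 : (P.scaleRoots t).eval a = 0 := by
    apply hinj
    rw [map_zero, ← h1, eval₂_at_apply]
  have h3 : (P.scaleRoots t).map (Ideal.Quotient.mk (Ideal.span {t})) = X ^ P.natDegree := by
    ext i
    rw [coeff_map, coeff_scaleRoots, coeff_X_pow]
    split_ifs with h
    · rw [h]
      have : P.coeff P.natDegree = 1 := hP
      simp [this]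
    · rcases lt_or_gt_of_ne h with h' | h'
      · obtain ⟨k, hk⟩ := Nat.exists_eq_add_of_lt h'
        rw [map_mul, map_pow, Ideal.Quotient.eq_zero_iff_mem.2 (Ideal.mem_span_singleton_self t),
          zero_pow (by omega), mul_zero]
      · rw [coeff_eq_zero_of_natDegree_lt h']
        simp
  apply hred a P.natDegree
  rw [← Ideal.Quotient.eq_zero_iff_mem, map_pow]
  have h4 := congrArg (Ideal.Quotient.mk (Ideal.span {t})) h2
  rw [map_zero, ← eval_map_apply, h3] at h4
  simpa using h4

/-- An integral injective ring map which becomes surjective after inverting a nonzerodivisor `t` of the source which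
stays a nonzerodivisor in the target and has `A/t` reduced is an isomorphism. -/
theorem surjective {A B : Type*} [CommRing A] [CommRing B] (φ : A →+* B) (hinj : Function.Injective φ)
    (hint : φ.IsIntegral) (t : A) (htB : ∀ b : B, φ t * b = 0 → b = 0)
    (hred : ∀ (a : A) (n : ℕ), a ^ n ∈ Ideal.span {t} → a ∈ Ideal.span {t})
    (h : ∀ b : B, ∃ (n : ℕ) (a : A), φ t ^ n * b = φ a) : Function.Surjective φ := by
  have key : ∀ (n : ℕ) (b : B) (a : A), φ t ^ n * b = φ a → ∃ c, φ c = b := by
    intro n
    induction n with
    | zero =>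
      intro b a hab
      exact ⟨a, by rw [← hab, pow_zero, one_mul]⟩
    | succ n ih =>
      intro b a hab
      have h1 : φ t * (φ t ^ n * b) = φ a := by rw [← hab, pow_succ]; ring
      have h2 := mem_span_of_isIntegral φ hinj t hred (φ t ^ n * b) (hint _) a h1
      obtain ⟨c, hc⟩ := Ideal.mem_span_singleton.1 h2
      refine ih b c ?_
      rw [hc, map_mul] at h1
      have h3 : φ t * (φ t ^ n * b - φ c) = 0 := by rw [mul_sub, h1, sub_self]
      exact sub_eq_zero.1 (htB _ h3)
  intro b
  obtain ⟨n, a, hab⟩ := h b
  exact key n b a hab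

end K793.IntAlg
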