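import Groth.Agent.SemiFact.K793.Basic
import Groth.Agent.SemiFact.K793.IntAlg
import Groth.Prelude.Def_Neron
import Groth.Agent.Ega4late.H533.DescScheme

/-!
# `π_* O_Y = O_X` for a proper morphism of flat schemes over a discrete valuation ring which is an isomorphism on
generic fibres, when the special fibre of `X` is reduced.
-/

set_option autoImplicit false
universe u
open CategoryTheory CategoryTheory.Limits AlgebraicGeometry IsLocalRing TopologicalSpace Opposite

namespace K793.PushO

open K793.Basic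

theorem isIso_app_of_affine {X Y : Scheme.{u}} (f : X ⟶ Y)
    (h : ∀ V : Y.Opens, IsAffineOpen V → IsIso (f.app V)) (V : Y.Opens) : IsIso (f.app V) := by
  let φ : Y.sheaf ⟶ (TopCat.Sheaf.pushforward CommRingCat f.base).obj X.sheaf := ⟨f.c⟩
  have hφ : IsIso φ := by
    refine TopCat.Sheaf.isIso_iff_isIso_basis (B := fun V : Y.affineOpens => (V : Y.Opens)) ?_ ?_
    · rw [Subtype.range_coe]
      exact Y.isBasis_affineOpens
    · intro i
      exact h i.1 i.2
  have : IsIso φ.hom := Functor.map_isIso (TopCat.Sheaf.forget CommRingCat _) φ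
  exact (NatTrans.isIso_iff_isIso_app φ.hom).mp this (op V)

theorem isIntegral_app_of_universallyClosed {X Y : Scheme.{u}} (f : X ⟶ Y) [UniversallyClosed f]
    (V : Y.Opens) (hV : IsAffineOpen V) : (f.app V).hom.IsIntegral := by
  have : IsAffine (V : Scheme.{u}) := hV
  have h1 := isIntegral_appTop_of_universallyClosed (f ∣_ V)
  rw [morphismRestrict_appTop] at h1
  have h2 : (f.app (V.ι ''ᵁ ⊤)).hom.IsIntegral := 
    (RingHom.isIntegral_respectsIso.cancel_right_isIso (f.app (V.ι ''ᵁ ⊤)) (X.presheaf.map (eqToHom (image_morphismRestrict_preimage f V ⊤)).op)).mp h1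
  have key : ∀ W : Y.Opens, W = V → (f.app W).hom.IsIntegral → (f.app V).hom.IsIntegral := by
    rintro _ rfl h; exact h
  exact key _ (by simp) h2

/-- If the base change of `π` along an open immersion `j` is an isomorphism, then so is `π.app V` for `V` contained in
the range of `j`. -/
theorem isIso_app_of_isPullback {Y X Y' X' : Scheme.{u}} {j' : Y' ⟶ Y} {g : Y' ⟶ X'} {π : Y ⟶ X} {j : X' ⟶ X}
    (h : IsPullback j' g π j) [IsOpenImmersion j] [IsIso g] (V : X.Opens) (hV : V ≤ j.opensRange) :
    IsIso (π.app V) := by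
  have hj' : IsOpenImmersion j' := MorphismProperty.of_isPullback (P := @IsOpenImmersion) h.flip inferInstance
  have hr : j'.opensRange = π ⁻¹ᵁ j.opensRange := by
    rw [← Scheme.Hom.opensRange_pullbackFst]
    have h1 : j' = h.isoPullback.hom ≫ pullback.fst π j := (h.isoPullback_hom_fst).symm
    ext x
    simp only [Scheme.Hom.coe_opensRange]
    constructor
    · rintro ⟨y, rfl⟩
      refine ⟨h.isoPullback.hom y, ?_⟩
      conv_rhs => rw [h1]
      rfl
    · rintro ⟨y, rfl⟩
      refine ⟨h.isoPullback.inv y, ?_⟩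
      change (h.isoPullback.inv ≫ j') y = _
      rw [h.isoPullback_inv_fst]
  have h1 : IsIso (j.app V) := j.isIso_app V hV
  have h2 : IsIso (j'.app (π ⁻¹ᵁ V)) := by
    apply j'.isIso_app
    rw [hr]
    intro x hx
    exact hV hx
  have h3 : IsIso (g.app (j ⁻¹ᵁ V)) := inferInstance
  have h4 : IsIso ((g ≫ j).app V) := by
    rw [Scheme.Hom.comp_app]
    exact @IsIso.comp_isIso _ _ _ _ _ _ _ h1 h3
  rw [← h.w] at h4
  rw [Scheme.Hom.comp_app] at h4
  exact @IsIso.of_isIso_comp_right _ _ _ _ _ _ (j'.app (π ⁻¹ᵁ V)) h2 h4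

variable {R : Type u} [CommRing R] [IsDomain R] [IsDiscreteValuationRing R]

omit [IsDiscreteValuationRing R] in
theorem isPullback_genericFibre {X Y : Over (Spec (CommRingCat.of R))} (π : Y ⟶ X) :
    IsPullback (pullback.fst Y.hom (Neron.genPt R)) ((Neron.genericFibre R).map π).left π.left
      (pullback.fst X.hom (Neron.genPt R)) := by
  have h1 : IsPullback (pullback.fst Y.hom (Neron.genPt R)) (pullback.snd Y.hom (Neron.genPt R)) Y.hom
    (Neron.genPt R) := IsPullback.of_hasPullback _ _
  have h2 : IsPullback (pullback.fst X.hom (Neron.genPt R)) (pullback.snd X.hom (Neron.genPt R)) X.hom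
    (Neron.genPt R) := IsPullback.of_hasPullback _ _
  have h3 : ((Neron.genericFibre R).map π).left ≫ pullback.fst X.hom (Neron.genPt R) =
      pullback.fst Y.hom (Neron.genPt R) ≫ π.left := pullback.lift_fst _ _ _
  have h4 : ((Neron.genericFibre R).map π).left ≫ pullback.snd X.hom (Neron.genPt R) =
      pullback.snd Y.hom (Neron.genPt R) := pullback.lift_snd _ _ _
  refine (IsPullback.of_right (t := h2.flip) ?_ ?_).flip
  · rw [h4, Over.w π]
    exact h1.flip
  · exact h3

omit [IsDomain R] [IsDiscreteValuationRing R] in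
theorem basicOpen_sec {X : Scheme.{u}} (f : X ⟶ Spec (CommRingCat.of R)) (V : X.Opens) (r : R) :
    X.basicOpen (sec f V r) = V ⊓ f ⁻¹ᵁ (PrimeSpectrum.basicOpen r) := by
  have : sec f V r = X.presheaf.map (homOfLE (le_top : V ≤ ⊤)).op (show Γ(X, ⊤) from Coh.toGlobal f r) := rfl
  rw [this, Scheme.basicOpen_res, basicOpen_toGlobal]

theorem basicOpen_sec_le {X : Scheme.{u}} (f : X ⟶ Spec (CommRingCat.of R)) (V : X.Opens) {ϖ : R}
    (hϖ : Irreducible ϖ) [IsOpenImmersion (pullback.fst f (Neron.genPt R))] :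
    X.basicOpen (sec f V ϖ) ≤ (pullback.fst f (Neron.genPt R)).opensRange := by
  intro x hx
  rw [basicOpen_sec] at hx
  have h1 : f x ≠ (closedPoint R : PrimeSpectrum R) := by
    rw [Ne, eq_closedPoint_iff _ hϖ]
    exact hx.2
  have h2 := Groth.Agent.Models.DVRGeneric.range_generic R (FractionRing R) (f x) h1
  have h3 : x ∈ Set.range (pullback.fst f (Neron.genPt R)) := by
    rw [Scheme.Pullback.range_fst]
    exact h2
  exact h3

theorem mem_span_sec {X : Scheme.{u}} (f : X ⟶ Spec (CommRingCat.of R)) [IsReduced (f.fiber (closedPoint R))]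
    {ϖ : R} (hϖ : Irreducible ϖ) (V : X.affineOpens) (a : Γ(X, V.1)) (n : ℕ)
    (ha : a ^ n ∈ Ideal.span {sec f V.1 ϖ}) : a ∈ Ideal.span {sec f V.1 ϖ} := by
  have h1 : Ideal.span {a} ≤ Ideal.span {sec f V.1 ϖ} := by
    rw [V.2.ideal_le_iff]
    intro x hx
    rw [Ideal.map_span, Ideal.map_span, Set.image_singleton, Set.image_singleton,
      Ideal.span_singleton_le_iff_mem]
    change X.presheaf.germ V.1 x hx a ∈ Ideal.span {X.presheaf.germ V.1 x hx (sec f V.1 ϖ)}
    rw [germ_sec]
    by_cases h : f x = (closedPoint R : PrimeSpectrum R)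
    · have hr := isReduced_quot f x hϖ h
      have h2 : (X.presheaf.germ V.1 x hx a) ^ n ∈ Ideal.span {DualGr.stalkHom f x ϖ} := by
        rw [← germ_sec f V.1 x hx, ← map_pow]
        have := Ideal.mem_map_of_mem (X.presheaf.germ V.1 x hx).hom ha
        rwa [Ideal.map_span, Set.image_singleton] at this
      rw [← Ideal.Quotient.eq_zero_iff_mem, map_pow] at h2
      rw [← Ideal.Quotient.eq_zero_iff_mem]
      exact eq_zero_of_pow_eq_zero h2
    · have h2 := (isUnit_stalkHom_iff_ne f x hϖ).2 h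
      rw [Ideal.span_singleton_eq_top.2 h2]
      trivial
  exact h1 (Ideal.mem_span_singleton_self a)

theorem main {X Y : Over (Spec (CommRingCat.of R))} [Flat X.hom] [Flat Y.hom]
    (π : Y ⟶ X) [IsProper π.left] (hgen : IsIso ((Neron.genericFibre R).map π))
    [IsReduced (X.hom.fiber (closedPoint R))] (V : X.left.Opens) : IsIso (π.left.app V) := by
  obtain ⟨ϖ, hϖ⟩ := IsDiscreteValuationRing.exists_irreducible R
  have hop : IsOpenImmersion (Neron.genPt R) :=
    Groth.Agent.Models.DVRGeneric.isOpenImmersion_generic R (FractionRing R)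
  have hpb := isPullback_genericFibre π
  have hiso : IsIso ((Neron.genericFibre R).map π).left :=
    (Over.forget _).map_isIso ((Neron.genericFibre R).map π)
  revert V
  apply fun h => isIso_app_of_affine π.left h
  intro V hV
  have hw : π.left ≫ X.hom = Y.hom := Over.w π
  have hsec : ∀ (W : X.left.Opens) (r : R), π.left.app W (sec X.hom W r) = sec Y.hom (π.left ⁻¹ᵁ W) r := by
    intro W r
    have key : ∀ (g : Y.left ⟶ Spec (CommRingCat.of R)) (hg : π.left ≫ X.hom = g),
        π.left.app W (sec X.hom W r) = sec g (π.left ⁻¹ᵁ W) r := by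
      rintro g rfl
      have h1 := π.left.naturality (homOfLE (le_top : W ≤ ⊤)).op
      have h2 := congrArg (fun φ => φ.hom (show Γ(X.left, ⊤) from Coh.toGlobal X.hom r)) h1
      exact h2
    exact key Y.hom hw
  have hinjY : ∀ b : Γ(Y.left, π.left ⁻¹ᵁ V), (π.left.app V).hom (sec X.hom V ϖ) * b = 0 → b = 0 := by
    intro b hb
    have h1 := hsec V ϖ
    refine eq_zero_of_sec_mul Y.hom _ hϖ.ne_zero (s := b) ?_
    rw [← h1]
    exact hb
  have hX : IsOpenImmersion (pullback.fst X.hom (Neron.genPt R)) := inferInstance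
  have hbasic : IsIso (π.left.app (X.left.basicOpen (sec X.hom V ϖ))) :=
    isIso_app_of_isPullback hpb _ (basicOpen_sec_le X.hom V hϖ)
  have hbij := ConcreteCategory.bijective_of_isIso (π.left.app (X.left.basicOpen (sec X.hom V ϖ)))
  have hnat : ∀ a : Γ(X.left, V), π.left.app (X.left.basicOpen (sec X.hom V ϖ))
      (X.left.presheaf.map (homOfLE (X.left.basicOpen_le (sec X.hom V ϖ))).op a) =
      Y.left.presheaf.map (homOfLE (π.left.preimage_mono (X.left.basicOpen_le (sec X.hom V ϖ)))).op
        (π.left.app V a) := by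
    intro a
    have h1 := π.left.naturality (homOfLE (X.left.basicOpen_le (sec X.hom V ϖ))).op
    exact congrArg (fun φ => φ.hom a) h1
  have hinj : Function.Injective (π.left.app V).hom := by
    rw [injective_iff_map_eq_zero]
    intro a ha
    have h1 : X.left.presheaf.map (homOfLE (X.left.basicOpen_le (sec X.hom V ϖ))).op a = 0 := by
      apply hbij.1
      rw [hnat, map_zero]
      have : π.left.app V a = 0 := ha
      rw [this, map_zero]
    obtain ⟨n, hn⟩ := exists_pow_mul_eq_zero_of_res_basicOpen_eq_zero_of_isCompact X.left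
      hV.isCompact a (sec X.hom V ϖ) h1
    rw [← map_pow] at hn
    exact eq_zero_of_sec_mul X.hom V (pow_ne_zero n hϖ.ne_zero) hn
  rw [ConcreteCategory.isIso_iff_bijective]
  refine ⟨hinj, ?_⟩
  refine IntAlg.surjective (π.left.app V).hom hinj (isIntegral_app_of_universallyClosed π.left V hV)
    (sec X.hom V ϖ) hinjY (fun a n => mem_span_sec X.hom hϖ ⟨V, hV⟩ a n) ?_
  intro b
  have hpre : π.left ⁻¹ᵁ (X.left.basicOpen (sec X.hom V ϖ)) = Y.left.basicOpen (sec Y.hom (π.left ⁻¹ᵁ V) ϖ) := by
    rw [Scheme.preimage_basicOpen]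
    congr 1
    exact hsec V ϖ
  obtain ⟨a', ha'⟩ := hbij.2 (Y.left.presheaf.map
    (homOfLE (π.left.preimage_mono (X.left.basicOpen_le (sec X.hom V ϖ)))).op b)
  obtain ⟨n, a, han⟩ := exists_eq_pow_mul_of_isAffineOpen X.left V hV (sec X.hom V ϖ) a'
  have h2 := congrArg (π.left.app (X.left.basicOpen (sec X.hom V ϖ))) han
  rw [map_mul, map_pow] at h2
  have hcomp : IsCompact ((π.left ⁻¹ᵁ V : Y.left.Opens) : Set Y.left) :=
    QuasiCompact.isCompact_preimage (f := π.left) _ V.2 hV.isCompact
  have h3 : Y.left.presheaf.map (homOfLE (Y.left.basicOpen_le (sec Y.hom (π.left ⁻¹ᵁ V) ϖ))).op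
      (π.left.app V (sec X.hom V ϖ) ^ n * b - π.left.app V a) = 0 := by
    have h5 : Y.left.presheaf.map (homOfLE (π.left.preimage_mono (X.left.basicOpen_le (sec X.hom V ϖ)))).op
        (π.left.app V (sec X.hom V ϖ) ^ n * b - π.left.app V a) = 0 := by
      rw [map_sub, map_mul, map_pow, ← hnat, ← hnat, sub_eq_zero]
      refine Eq.trans ?_ h2.symm
      rw [ha']
      rfl
    have h6 := congrArg (Y.left.presheaf.map (homOfLE hpre.ge).op) h5
    rw [map_zero] at h6
    have h7 : Y.left.presheaf.map (homOfLE (Y.left.basicOpen_le (sec Y.hom (π.left ⁻¹ᵁ V) ϖ))).op =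
      Y.left.presheaf.map (homOfLE (π.left.preimage_mono (X.left.basicOpen_le (sec X.hom V ϖ)))).op ≫
        Y.left.presheaf.map (homOfLE hpre.ge).op := by
      rw [← Y.left.presheaf.map_comp]
      rfl
    rw [h7]
    exact h6
  obtain ⟨m, hm⟩ := exists_pow_mul_eq_zero_of_res_basicOpen_eq_zero_of_isCompact Y.left
      hcomp _ (sec Y.hom (π.left ⁻¹ᵁ V) ϖ) h3
  rw [← map_pow] at hm
  have h4 := eq_zero_of_sec_mul Y.hom _ (pow_ne_zero m hϖ.ne_zero) hm
  exact ⟨n, a, sub_eq_zero.1 h4⟩

end K793.PushO
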