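import Groth.Agent.SemiFact.K793.NodeThick
import Mathlib.RingTheory.Ideal.GoingDown

/-!
# The two branches of a node
-/

set_option autoImplicit false
universe u

open IsLocalRing

namespace K793.NodeMin

open K793.NodeAlg K793.NodeDesc K793.NodeThick

theorem NodeLike.symm {A : Type u} [CommRing A] [IsLocalRing A] {π₀ : A} {p₁ p₂ : Ideal A} {l : ℕ}
    (h : NodeLike π₀ p₁ p₂ l) : NodeLike π₀ p₂ p₁ l := by
  intro j₀ hd hloc
  obtain ⟨δ, hδ⟩ := h j₀ hd hloc
  refine ⟨-δ, fun j o₁ o₂ h1 h2 h3 h4 hl => hδ j o₂ o₁ h1 h2 h4 h3 ?_⟩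
  have : δ - ((o₂ : ℤ) - o₁) = -(-δ - ((o₁ : ℤ) - o₂)) := by ring
  rw [this]
  exact (dvd_neg).2 hl

/-- The local structure at a node of thickness `l` with branches `p₁, p₂`. -/
structure NodeData {A : Type u} [CommRing A] [IsLocalRing A] (π₀ : A) (l : ℕ) (p₁ p₂ : Ideal A) : Prop where
  prime₁ : p₁.IsPrime
  prime₂ : p₂.IsPrime
  min : (Ideal.span {π₀}).minimalPrimes = {p₁, p₂}
  nodeLike : NodeLike π₀ p₁ p₂ l
  ord_sub : ∀ (u v : A) (N n₁ n₂ : ℕ), u * v = π₀ ^ N → Ord p₁ π₀ u n₁ → Ord p₂ π₀ u n₂ → (l : ℤ) ∣ (n₁ : ℤ) - n₂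

theorem NodeData.symm {A : Type u} [CommRing A] [IsLocalRing A] {π₀ : A} {l : ℕ} {p₁ p₂ : Ideal A} (h : NodeData π₀ l p₁ p₂) :
    NodeData π₀ l p₂ p₁ where
  prime₁ := h.prime₂
  prime₂ := h.prime₁
  min := by rw [h.min, Set.pair_comm]
  nodeLike := NodeLike.symm h.nodeLike
  ord_sub := fun u v N n₁ n₂ huv h1 h2 => by
    have := h.ord_sub u v N n₂ n₁ huv h2 h1
    rw [← dvd_neg, neg_sub] at this
    exact this

section

variable {S A B : Type u} [CommRing S] [CommRing A] [CommRing B] [IsLocalRing A] [IsLocalRing B] [Algebra S B]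
    [Algebra A B] [IsNoetherianRing A] [IsNoetherianRing B] [IsLocalHom (algebraMap A B)] [Module.FaithfullyFlat A B]
    {ϖ : S} {x y : B} {a : S} (h : IsNode ϖ x y a) {π₀ : A} (hπ : algebraMap A B π₀ = algebraMap S B ϖ)

include h

omit [IsLocalRing A] [IsNoetherianRing A] [IsNoetherianRing B] [Algebra A B] [IsLocalHom (algebraMap A B)]
  [Module.FaithfullyFlat A B] in
theorem le_of_π_mem {Q : Ideal B} (hQ : Q.IsPrime) (hπQ : algebraMap S B ϖ ∈ Q) :
    Ideal.span {x, algebraMap S B ϖ} ≤ Q ∨ Ideal.span {y, algebraMap S B ϖ} ≤ Q := by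
  have h1 : Ideal.span {x, algebraMap S B ϖ} * Ideal.span {y, algebraMap S B ϖ} ≤ Q :=
    (Ideal.mul_le_inf.trans h.inf).trans ((Ideal.span_singleton_le_iff_mem _).2 hπQ)
  exact (hQ.mul_le).1 h1

omit [IsLocalRing A] [IsNoetherianRing A] [IsNoetherianRing B] [Algebra A B] [IsLocalHom (algebraMap A B)]
  [Module.FaithfullyFlat A B] in
theorem eq_of_le {Q : Ideal B} (hQ : Q.IsPrime) (hπQ : algebraMap S B ϖ ∈ Q) (hle : Q ≤ Ideal.span {x, algebraMap S B ϖ}) :
    Q = Ideal.span {x, algebraMap S B ϖ} := by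
  rcases le_of_π_mem h hQ hπQ with h1 | h1
  · exact le_antisymm hle h1
  · exact (h.notMem₁ (hle (h1 (Ideal.subset_span (by simp))))).elim

include hπ

omit [IsLocalRing A] [IsNoetherianRing A] [IsNoetherianRing B] [IsLocalHom (algebraMap A B)] in
theorem comap_mem_minimalPrimes :
    (Ideal.span {x, algebraMap S B ϖ}).comap (algebraMap A B) ∈ (Ideal.span {π₀}).minimalPrimes := by
  have hp := h.prime₁
  refine ⟨⟨hp.comap _, ?_⟩, ?_⟩
  · rw [Ideal.span_singleton_le_iff_mem, Ideal.mem_comap, hπ]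
    exact Ideal.subset_span (by simp)
  · rintro q ⟨hq, hqπ⟩ hle
    rw [Ideal.span_singleton_le_iff_mem] at hqπ
    have : (Ideal.span {x, algebraMap S B ϖ}).LiesOver ((Ideal.span {x, algebraMap S B ϖ}).comap (algebraMap A B)) := ⟨rfl⟩
    have hpc : ((Ideal.span {x, algebraMap S B ϖ}).comap (algebraMap A B)).IsPrime := hp.comap _
    obtain ⟨Q, hQle, hQ, hQq⟩ := Ideal.exists_ideal_le_liesOver_of_le (R := A) (S := B) (p := q)
      (q := (Ideal.span {x, algebraMap S B ϖ}).comap (algebraMap A B)) (Ideal.span {x, algebraMap S B ϖ}) hle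
    have h1 : algebraMap S B ϖ ∈ Q := by
      rw [← hπ]
      have := hQq.over
      rw [this] at hqπ
      exact hqπ
    rw [eq_of_le h hQ h1 hQle] at hQq
    exact (hQq.over).ge

omit [IsNoetherianRing A] [IsNoetherianRing B] [IsLocalHom (algebraMap A B)] in
theorem minimalPrimes_eq : (Ideal.span {π₀}).minimalPrimes =
    {(Ideal.span {x, algebraMap S B ϖ}).comap (algebraMap A B), (Ideal.span {y, algebraMap S B ϖ}).comap (algebraMap A B)} := by
  ext q
  constructor
  · intro hq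
    have hqp : q.IsPrime := hq.1.1
    obtain ⟨Q, hQ⟩ := PrimeSpectrum.comap_surjective_of_faithfullyFlat (A := A) (B := B) ⟨q, hqp⟩
    have hQq : Q.asIdeal.comap (algebraMap A B) = q := congrArg PrimeSpectrum.asIdeal hQ
    have h1 : algebraMap S B ϖ ∈ Q.asIdeal := by
      rw [← hπ, ← Ideal.mem_comap, hQq]
      exact hq.1.2 (Ideal.mem_span_singleton_self _)
    rcases le_of_π_mem h Q.2 h1 with h2 | h2
    · left
      have h3 := Ideal.comap_mono (f := algebraMap A B) h2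
      rw [hQq] at h3
      exact le_antisymm (hq.2 (comap_mem_minimalPrimes h hπ).1 h3) h3
    · right
      have h3 := Ideal.comap_mono (f := algebraMap A B) h2
      rw [hQq] at h3
      exact le_antisymm (hq.2 (comap_mem_minimalPrimes h.symm hπ).1 h3) h3
  · rintro (rfl | rfl)
    · exact comap_mem_minimalPrimes h hπ
    · exact comap_mem_minimalPrimes h.symm hπ

omit [IsLocalRing A] [IsNoetherianRing A] [IsNoetherianRing B] [IsLocalHom (algebraMap A B)] h [Module.FaithfullyFlat A B] in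
theorem ord_map {P : Ideal B} {p : Ideal A} (hp : P.comap (algebraMap A B) = p) {g : A} {n : ℕ} (ho : Ord p π₀ g n) :
    Ord P (algebraMap S B ϖ) (algebraMap A B g) n := by
  subst hp
  obtain ⟨s, t, hs, ht, hst⟩ := ho
  exact ⟨algebraMap A B s, algebraMap A B t, hs, ht, by rw [← map_mul, hst, map_mul, map_pow, hπ]⟩

theorem nodeData_of_isNode [IsDomain S] [IsDiscreteValuationRing S] (hϖ : Irreducible ϖ) [IsAdicComplete (Ideal.span {ϖ}) S]
    {l : ℕ} (ha : algebraMap S B a = if l = 0 then 0 else algebraMap S B ϖ ^ l) :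
    NodeData π₀ l ((Ideal.span {x, algebraMap S B ϖ}).comap (algebraMap A B))
      ((Ideal.span {y, algebraMap S B ϖ}).comap (algebraMap A B)) where
  prime₁ := h.prime₁.comap _
  prime₂ := h.prime₂.comap _
  min := minimalPrimes_eq h hπ
  nodeLike := nodeLike_of_isNode hϖ h hπ ha rfl rfl
  ord_sub := fun u v N n₁ n₂ huv h1 h2 => by
    refine h.dvd_ord_sub ha (u := algebraMap A B u) (v := algebraMap A B v) (N := N) ?_ (ord_map hπ rfl h1) (ord_map hπ rfl h2)
    rw [← map_mul, huv, map_pow, hπ]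

end

theorem exists_nodeData (R A : Type u) [CommRing R] [IsDomain R] [IsDiscreteValuationRing R] [CommRing A] [IsLocalRing A]
    [IsNoetherianRing A] (φ : R →+* A) {ϖ : R} (hϖ : Irreducible ϖ) (l : ℕ)
    (h : DualGr.IsThickNode φ (if l = 0 then 0 else ϖ ^ l)) : ∃ p₁ p₂ : Ideal A, NodeData (φ ϖ) l p₁ p₂ := by
  obtain ⟨alg, x, y, a, ha, hπ, hn⟩ := exists_isNode R A φ hϖ l h
  obtain ⟨hd, hdvr⟩ := isDiscreteValuationRing_cpl R
  have hN : IsNoetherianRing (Curv2.cpl A) := Groth.Agent.Ega4A.CplQuot.isNoetherianRing_cpl A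
  have hF : Module.FaithfullyFlat A (Curv2.cpl A) := Groth.Agent.Ega4A.CplQuot.faithfullyFlat_cpl A
  have hϖ' := irreducible_cpl R hϖ
  have hc : IsAdicComplete (Ideal.span {algebraMap R (Curv2.cpl R) ϖ}) (Curv2.cpl R) := by
    rw [← hϖ'.maximalIdeal_eq]
    infer_instance
  exact ⟨_, _, nodeData_of_isNode hn hπ.symm hϖ' ha⟩

end K793.NodeMin
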