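import Groth.Agent.SemiFact.K793.NodeApprox
import Groth.Agent.SemiFact.K793.NodeMin

/-!
# The nonregular points of the blow-up of a split node are split nodes
-/

set_option autoImplicit false
universe u

open IsLocalRing

namespace K793.BlCross

open K793.NodeAlg K793.NodeDef K793.BlAlg K793.NodeMin

theorem span_isPrime {Q : Type u} [CommRing Q] [IsLocalRing Q] [IsNoetherianRing Q] {u v : Q} (hmax : maximalIdeal Q = Ideal.span {u, v})
    (h : ∀ n : ℕ, v ^ n ∉ Ideal.span {u}) : (Ideal.span {u}).IsPrime := by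
  have hdisj : Disjoint ((Ideal.span {u} : Ideal Q) : Set Q) (Submonoid.powers v : Set Q) := by
    rw [Set.disjoint_left]
    rintro _ ha ⟨n, rfl⟩
    exact h n ha
  obtain ⟨P, hP, hle, hd⟩ := Ideal.exists_le_prime_disjoint _ _ hdisj
  have hvP : v ∉ P := fun hv => Set.disjoint_left.1 hd hv ⟨1, pow_one v⟩
  have h1 : P ≤ Ideal.span {u} ⊔ maximalIdeal Q • P := by
    intro p hp
    have h2 : p ∈ maximalIdeal Q := IsLocalRing.le_maximalIdeal hP.ne_top hp
    rw [hmax] at h2
    obtain ⟨α, β, rfl⟩ := Ideal.mem_span_pair.1 h2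
    have hu : α * u ∈ P := P.mul_mem_left _ (hle (Ideal.mem_span_singleton_self u))
    have h3 : β * v ∈ P := by
      have := sub_mem hp hu
      rwa [add_sub_cancel_left] at this
    have h4 : β ∈ P := (hP.mem_or_mem h3).resolve_right hvP
    refine add_mem (Ideal.mem_sup_left (Ideal.mul_mem_left _ _ (Ideal.mem_span_singleton_self u))) (Ideal.mem_sup_right ?_)
    rw [mul_comm]
    exact Submodule.smul_mem_smul (by rw [hmax]; exact Ideal.subset_span (by simp)) h4
  have h5 : P ≤ Ideal.span {u} :=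
    Submodule.le_of_le_smul_of_le_jacobson_bot (I := maximalIdeal Q) (IsNoetherian.noetherian P)
      (by rw [IsLocalRing.jacobson_eq_maximalIdeal ⊥ bot_ne_top]) h1
  rwa [le_antisymm hle h5]

theorem isCross_of_isOrigin {A A' Ā K : Type u} [CommRing A] [IsLocalRing A] [CommRing A'] [IsLocalRing A'] [IsNoetherianRing A']
    [CommRing Ā] [IsLocalRing Ā] [Field K] [Algebra K Ā] (ψ : A →+* A') {x y ϖ : A} {x' y' : A'} (h : IsOrigin ψ x y ϖ x' y')
    (hreg : ψ ϖ ∈ nonZeroDivisors A') (hnreg : ¬ IsRegularLocalRing A') (χ : A' →+* Ā) (hχ : Function.Surjective χ)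
    (hχk : RingHom.ker χ = Ideal.span {ψ ϖ}) (hred : _root_.IsReduced Ā) (hsurj : ∀ q : Ā, ∃ c : K, q - algebraMap K Ā c ∈ maximalIdeal Ā) :
    IsCross K (χ x') (χ y') := by
  have hNĀ : IsNoetherianRing Ā := isNoetherianRing_of_surjective A' Ā χ hχ
  have hloc : IsLocalHom χ := IsLocalHom.of_surjective χ hχ
  have hπ : χ (ψ ϖ) = 0 := by
    rw [← RingHom.mem_ker, hχk]
    exact Ideal.mem_span_singleton_self _
  have hrad : (Ideal.span {ψ ϖ}).IsRadical := by
    intro z ⟨n, hz⟩
    rw [← hχk, RingHom.mem_ker, map_pow] at hz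
    rw [← hχk, RingHom.mem_ker]
    exact eq_zero_of_pow_eq_zero hz
  have hmap : (maximalIdeal A').map χ = maximalIdeal Ā := by
    apply le_antisymm
    · exact ((IsLocalRing.local_hom_TFAE χ).out 0 2 rfl rfl).mp hloc
    · intro z hz
      obtain ⟨z, rfl⟩ := hχ z
      exact Ideal.mem_map_of_mem _ fun hu => hz (hu.map _)
  have hmax : maximalIdeal Ā = Ideal.span {χ x', χ y'} := by
    rw [← hmap]
    refine (congrArg (Ideal.map χ) h.max).trans ?_
    rw [Ideal.map_span, Set.image_insert_eq, Set.image_pair, hπ]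
    apply le_antisymm
    · rw [Ideal.span_le]
      rintro _ (rfl | rfl | rfl)
      · exact Ideal.subset_span (by simp)
      · exact Ideal.subset_span (by simp)
      · exact Ideal.zero_mem _
    · exact Ideal.span_mono (by intro z; simp only [Set.mem_insert_iff, Set.mem_singleton_iff]; tauto)
  have hmul : χ x' * χ y' = 0 := by
    rw [← map_mul, ← RingHom.mem_ker, hχk]
    exact h.mul
  have hpow : ∀ {a b : A'}, χ a * χ b = 0 → maximalIdeal A' = Ideal.span {a, b, ψ ϖ} → ∀ n : ℕ, (χ b) ^ n ∉ Ideal.span {χ a} := by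
    intro a b hab hm n hn
    obtain ⟨w, hw⟩ := Ideal.mem_span_singleton'.1 hn
    have h1 : χ b ^ (n + 1) = 0 := by
      rw [pow_succ, ← hw, mul_assoc, hab, mul_zero]
    have h2 : χ b = 0 := eq_zero_of_pow_eq_zero h1
    have h3 : b ∈ Ideal.span {ψ ϖ} := by rw [← hχk]; exact h2
    apply hnreg
    refine isRegular_of_radical (h := a) hreg hrad ?_
    rw [hm]
    apply le_antisymm
    · rw [Ideal.span_le]
      rintro _ (rfl | rfl | rfl)
      · exact Ideal.subset_span (by simp)
      · exact Ideal.span_mono (by simp) h3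
      · exact Ideal.subset_span (by simp)
    · exact Ideal.span_mono (by intro z; simp only [Set.mem_insert_iff, Set.mem_singleton_iff]; tauto)
  have hp1 := hpow hmul h.max
  have hp2 := hpow (a := y') (b := x') (by rw [mul_comm]; exact hmul) (h.max.trans (by rw [Set.insert_comm]))
  refine ⟨hmul, hmax, hsurj, span_isPrime hmax hp1, span_isPrime (hmax.trans (by rw [Set.pair_comm])) hp2,
    fun hm => hp1 1 (by rwa [pow_one]), fun hm => hp2 1 (by rwa [pow_one]), ?_⟩
  rintro w ⟨h1, h2⟩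
  obtain ⟨a, rfl⟩ := Ideal.mem_span_singleton'.1 h1
  obtain ⟨b, hb⟩ := Ideal.mem_span_singleton'.1 h2
  have h3 : (a * χ x') ^ 2 = 0 := by
    calc (a * χ x') ^ 2 = (a * χ x') * (a * χ x') := pow_two _
      _ = (b * χ y') * (a * χ x') := by rw [hb]
      _ = a * b * (χ x' * χ y') := by ring
      _ = 0 := by rw [hmul, mul_zero]
  rw [Ideal.mem_bot]
  exact eq_zero_of_pow_eq_zero h3

theorem ne_of_isCross {A Ā K : Type u} [CommRing A] [IsLocalRing A] [CommRing Ā] [IsLocalRing Ā] [Field K] [Algebra K Ā] {π₀ : A} {l : ℕ} {p₁ p₂ : Ideal A}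
    (hd : NodeData π₀ l p₁ p₂) (χ : A →+* Ā) (hχ : Function.Surjective χ) (hχk : RingHom.ker χ = Ideal.span {π₀}) {u v : Ā}
    (hc : IsCross K u v) : p₁ ≠ p₂ := by
  intro he
  have hall : ∀ P : Ideal A, P.IsPrime → π₀ ∈ P → p₁ ≤ P := by
    intro P hP hπ
    obtain ⟨q, hq, hqP⟩ := Ideal.exists_minimalPrimes_le ((Ideal.span_singleton_le_iff_mem P).2 hπ)
    rw [hd.min, ← he] at hq
    simp only [Set.mem_insert_iff, Set.mem_singleton_iff, or_self] at hq
    exact hq ▸ hqP
  have hmem : ∀ w : Ā, π₀ ∈ (Ideal.span {w}).comap χ := by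
    intro w
    have h1 : χ π₀ = 0 := by
      rw [← RingHom.mem_ker, hχk]
      exact Ideal.mem_span_singleton_self _
    rw [Ideal.mem_comap, h1]
    exact Ideal.zero_mem _
  have hP1 := hc.prime₁
  have hP2 := hc.prime₂
  have h1 := hall ((Ideal.span {u}).comap χ) (hP1.comap χ) (hmem u)
  have h2 := hall ((Ideal.span {v}).comap χ) (hP2.comap χ) (hmem v)
  have h3 : p₁ ≤ RingHom.ker χ := by
    intro z hz
    have := hc.inf ⟨h1 hz, h2 hz⟩
    exact this
  have hprime := hd.prime₁
  have hπ1 : π₀ ∈ p₁ := by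
    have h4 : p₁ ∈ (Ideal.span {π₀}).minimalPrimes := by rw [hd.min]; simp
    exact h4.1.2 (Ideal.mem_span_singleton_self _)
  have h5 : RingHom.ker χ = p₁ := le_antisymm (hχk ▸ (Ideal.span_singleton_le_iff_mem p₁).2 hπ1) h3
  obtain ⟨a, rfl⟩ := hχ u
  obtain ⟨b, rfl⟩ := hχ v
  have h6 : a * b ∈ p₁ := by rw [← h5, RingHom.mem_ker, map_mul, hc.mul]
  rcases hprime.mem_or_mem h6 with h7 | h7
  · rw [← h5, RingHom.mem_ker] at h7
    apply hc.notMem₂
    rw [h7]
    exact Ideal.zero_mem _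
  · rw [← h5, RingHom.mem_ker] at h7
    apply hc.notMem₁
    rw [h7]
    exact Ideal.zero_mem _

end K793.BlCross
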