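import Groth.Agent.S1589
import Mathlib.AlgebraicGeometry.Geometrically.Reduced

/-!
Fibres of nodal families are reduced; connectedness of the special fibre.
-/

set_option autoImplicit false
universe u

open CategoryTheory CategoryTheory.Limits AlgebraicGeometry IsLocalRing

namespace K793.NodalFib

theorem isReduced_fiber {X S : Scheme.{u}} (f : X ⟶ S) (hf : Curv2.IsNodalFamily f) (s : S) : IsReduced (f.fiber s) := by
  obtain ⟨hflat, hlfp, h⟩ := hf
  obtain ⟨hdim, hawn⟩ := h s
  have hlfp' : LocallyOfFiniteType (f.fiberToSpecResidueField s) :=
    MorphismProperty.pullback_snd _ _ inferInstance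
  have hgr : GeometricallyReduced (f.fiberToSpecResidueField s) :=
    (@Groth.Agent.S1589.result (S.residueField s) _ (f.fiber s) ⟨f.fiberToSpecResidueField s⟩
      (inferInstanceAs (LocallyOfFiniteType (f.fiberToSpecResidueField s))) hdim hawn).2
  have hN : IsLocallyNoetherian (Spec (S.residueField s)) := inferInstance
  have hR : IsReduced (Spec (S.residueField s)) := inferInstance
  have hfl : Flat (f.fiberToSpecResidueField s) := inferInstance
  exact GeometricallyReduced.isReduced_of_flat_of_isLocallyNoetherian (f.fiberToSpecResidueField s)

end K793.NodalFib
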