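import Groth.Agent.SemiFact.K793.Extend
import Groth.Agent.SemiFact.K793.NodalFib
import Groth.Agent.Models.H71.Comps
import Groth.Agent.Dual.H341.CMSch
import Groth.Agent.CalgB.ProjField
import Groth.Agent.Smoothlim.SmoothLocusBC
import Groth.Agent.Fga.DVRGeom
import Groth.Agent.S2821

/-!
# Geometry of the special fibre of a nodal family over a discrete valuation ring
-/

set_option autoImplicit false
universe u
open CategoryTheory CategoryTheory.Limits AlgebraicGeometry IsLocalRing

namespace K793.FibGeom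

open Groth.Agent.Divis.CartierBasic Groth.Agent.CycB.LocQuot
open K793.NodeAlg K793.NodeDesc K793.NodeMin

theorem exists_dvr {A : Type*} [CommRing A] [IsLocalRing A] [IsNoetherianRing A] {π : A} (hm : maximalIdeal A = Ideal.span {π})
    (hπ : π ∈ nonZeroDivisors A) : ∃ _ : IsDomain A, IsDiscreteValuationRing A := by
  have key : ∀ a : A, a ≠ 0 → ∃ (n : ℕ) (u : A), IsUnit u ∧ a = u * π ^ n := by
    intro a ha
    have h1 : ∃ n : ℕ, a ∉ Ideal.span {π ^ n} := by
      by_contra hcon
      push Not at hcon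
      have h2 := Ideal.iInf_pow_eq_bot_of_isLocalRing (maximalIdeal A) (Ideal.IsPrime.ne_top inferInstance)
      apply ha
      rw [← Ideal.mem_bot, ← h2, Submodule.mem_iInf]
      intro n
      rw [hm, Ideal.span_singleton_pow]
      exact hcon n
    classical
    obtain ⟨n, hn, hmin⟩ : ∃ n : ℕ, a ∉ Ideal.span {π ^ n} ∧ ∀ m < n, a ∈ Ideal.span {π ^ m} :=
      ⟨Nat.find h1, Nat.find_spec h1, fun m hm => not_not.1 (Nat.find_min h1 hm)⟩
    rcases n with _ | n
    · exact (hn (by simp)).elim
    obtain ⟨u, hu⟩ := Ideal.mem_span_singleton'.1 (hmin n (Nat.lt_succ_self n))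
    refine ⟨n, u, ?_, hu.symm⟩
    by_contra hnu
    have h3 : u ∈ maximalIdeal A := hnu
    rw [hm] at h3
    obtain ⟨w, hw⟩ := Ideal.mem_span_singleton'.1 h3
    exact hn (Ideal.mem_span_singleton'.2 ⟨w, by rw [← hu, ← hw]; ring⟩)
  have hnt : Nontrivial A := inferInstance
  have hdom : IsDomain A := by
    have : NoZeroDivisors A := ⟨by
      intro a b hab
      by_contra hcon
      push Not at hcon
      obtain ⟨n, u, hu, rfl⟩ := key a hcon.1
      obtain ⟨m, v, hv, rfl⟩ := key b hcon.2
      have h1 : (u * v) * π ^ (n + m) = 0 := by rw [← hab]; ring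
      have h2 := (mul_right_mem_nonZeroDivisors_eq_zero_iff (pow_mem hπ _)).1 h1
      exact (hu.mul hv).ne_zero h2⟩
    exact NoZeroDivisors.to_isDomain A
  refine ⟨hdom, ?_⟩
  have hπ0 : π ≠ 0 := nonZeroDivisors.ne_zero hπ
  have hirr : Irreducible π := by
    have hp : Prime π := by
      rw [← Ideal.span_singleton_prime hπ0, ← hm]
      infer_instance
    exact hp.irreducible
  refine IsDiscreteValuationRing.ofHasUnitMulPowIrreducibleFactorization ⟨π, hirr, ?_⟩
  intro x hx
  obtain ⟨n, u, hu, rfl⟩ := key x hx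
  exact ⟨n, ⟨hu.unit, by rw [mul_comm]; rfl⟩⟩

variable {R : Type u} [CommRing R] [IsDomain R] [IsDiscreteValuationRing R] {X : Scheme.{u}}
  (f : X ⟶ Spec (CommRingCat.of R))

/-- the generic points of the special fibre, without repetition -/
structure IsGenPts {V : Type} (η : V → X) : Prop where
  closed : ∀ v, f (η v) = (closedPoint R : PrimeSpectrum R)
  cover : ∀ x, f x = (closedPoint R : PrimeSpectrum R) → ∃ v, η v ⤳ x
  inj : ∀ v w, η v ⤳ η w → v = w

theorem mem_range_iff (x : X) : x ∈ Set.range (pullback.fst f (Neron.genPt R)) ↔ f x ≠ (closedPoint R : PrimeSpectrum R) := by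
  have h := Groth.Agent.Models.H71.Comps.range_generic_eq_compl (R := R) (p := f) (IsPullback.of_hasPullback f (Neron.genPt R))
  rw [h]
  rfl

theorem isOpenImmersion_fst : IsOpenImmersion (pullback.fst f (Neron.genPt R)) := by
  have h1 := Groth.Agent.Models.DVRGeneric.isOpenImmersion_generic R (FractionRing R)
  exact Groth.Agent.Models.DVRGeneric.isOpenImmersion_of_isPullback (IsPullback.of_hasPullback f (Neron.genPt R))

variable {f}

theorem asIdeal_mem_iff {ϖ : R} (hϖ : Irreducible ϖ) {x ξ : X} (h : ξ ⤳ x) :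
    DualGr.stalkHom f x ϖ ∈ (primeOf h).asIdeal ↔ f ξ = (closedPoint R : PrimeSpectrum R) := by
  rw [primeOf_asIdeal, mem_ker_specMap_iff, Extend.stalkSpecializes_stalkHom, Basic.isUnit_stalkHom_iff_ne f ξ hϖ, not_not]

theorem IsGenPts.minimalPrimes_eq {V : Type} {η : V → X} (hη : IsGenPts f η) {ϖ : R} (hϖ : Irreducible ϖ) (x : X) :
    (Ideal.span {DualGr.stalkHom f x ϖ}).minimalPrimes = {q | ∃ (v : V) (h : η v ⤳ x), q = (primeOf h).asIdeal} := by
  ext q
  constructor
  · intro hq
    have hqp : q.IsPrime := hq.1.1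
    have hπ : DualGr.stalkHom f x ϖ ∈ q := hq.1.2 (Ideal.mem_span_singleton_self _)
    have hy := ptOf_specializes (⟨q, hqp⟩ : PrimeSpectrum (X.presheaf.stalk x))
    have h1 : f (ptOf (⟨q, hqp⟩ : PrimeSpectrum (X.presheaf.stalk x))) = (closedPoint R : PrimeSpectrum R) := by
      rw [← asIdeal_mem_iff hϖ hy, primeOf_ptOf]
      exact hπ
    obtain ⟨v, hv⟩ := hη.cover _ h1
    have hvx : η v ⤳ x := hv.trans hy
    have h2 : (primeOf hvx).asIdeal ≤ q := by
      have h3 := (primeOf_le_iff hvx hy).2 hv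
      rw [primeOf_ptOf] at h3
      exact h3
    refine ⟨v, hvx, le_antisymm (hq.2 ⟨(primeOf hvx).2, ?_⟩ h2) h2⟩
    rw [Ideal.span_singleton_le_iff_mem, asIdeal_mem_iff hϖ]
    exact hη.closed v
  · rintro ⟨v, hv, rfl⟩
    refine ⟨⟨(primeOf hv).2, ?_⟩, ?_⟩
    · rw [Ideal.span_singleton_le_iff_mem, asIdeal_mem_iff hϖ]
      exact hη.closed v
    · rintro q ⟨hqp, hqπ⟩ hle
      rw [Ideal.span_singleton_le_iff_mem] at hqπ
      have hy := ptOf_specializes (⟨q, hqp⟩ : PrimeSpectrum (X.presheaf.stalk x))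
      have h1 : f (ptOf (⟨q, hqp⟩ : PrimeSpectrum (X.presheaf.stalk x))) = (closedPoint R : PrimeSpectrum R) := by
        rw [← asIdeal_mem_iff hϖ hy, primeOf_ptOf]
        exact hqπ
      obtain ⟨w, hw⟩ := hη.cover _ h1
      have h2 : ptOf (⟨q, hqp⟩ : PrimeSpectrum (X.presheaf.stalk x)) ⤳ η v := by
        rw [← primeOf_le_iff hy hv, primeOf_ptOf]
        exact hle
      have h3 := hη.inj w v (hw.trans h2)
      subst h3
      have h4 : (primeOf hv) ≤ primeOf hy := (primeOf_le_iff hv hy).2 hw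
      rw [primeOf_ptOf] at h4
      exact h4

theorem IsGenPts.maximalIdeal_eq {V : Type} {η : V → X} (hη : IsGenPts f η) {ϖ : R} (hϖ : Irreducible ϖ)
    [IsReduced (f.fiber (closedPoint R))] (v : V) :
    maximalIdeal (X.presheaf.stalk (η v)) = Ideal.span {DualGr.stalkHom f (η v) ϖ} := by
  have hr := Basic.isReduced_quot f (η v) hϖ (hη.closed v)
  have hrad : (Ideal.span {DualGr.stalkHom f (η v) ϖ}).IsRadical := Ideal.isRadical_iff_quotient_reduced _ |>.2 hr
  have h1 := hη.minimalPrimes_eq hϖ (η v)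
  apply le_antisymm
  · rw [← hrad.radical, ← Ideal.sInf_minimalPrimes]
    refine le_sInf ?_
    intro q hq
    rw [h1] at hq
    obtain ⟨w, hw, rfl⟩ := hq
    have h2 := hη.inj w v hw
    subst h2
    rw [primeOf_refl]
    exact le_refl _
  · rw [Ideal.span_singleton_le_iff_mem]
    intro hu
    exact (Basic.isUnit_stalkHom_iff_ne f _ hϖ).1 hu (hη.closed v)

theorem IsGenPts.isDiscreteValuationRing [IsLocallyNoetherian X] [Flat f] {V : Type} {η : V → X} (hη : IsGenPts f η)
    [IsReduced (f.fiber (closedPoint R))] (v : V) :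
    ∃ _ : IsDomain (X.presheaf.stalk (η v)), IsDiscreteValuationRing (X.presheaf.stalk (η v)) := by
  obtain ⟨ϖ, hϖ⟩ := IsDiscreteValuationRing.exists_irreducible R
  have h1 := hη.maximalIdeal_eq hϖ v
  have h2 := Basic.stalkHom_mem_nonZeroDivisors f (η v) hϖ.ne_zero
  exact exists_dvr h1 h2

/-- the generic points of the components in a dual graph -/
theorem exists_genPts {V E : Type} {cv : V → Set ↥(f.fiber (closedPoint R))} {ce : E → ↥(f.fiber (closedPoint R))}
    {ends : E → V × V} (h : DualGr.IsDualGraph (f.fiberToSpecResidueField (closedPoint R)) cv ce ends) :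
    ∃ η : V → X, IsGenPts f η ∧ ∀ (v : V) (z : f.fiber (closedPoint R)), z ∈ cv v ↔ η v ⤳ f.fiberι (closedPoint R) z := by
  have hemb := (f.fiberι (closedPoint R)).isEmbedding
  have hcl : ∀ v, IsClosed (cv v) := fun v => isClosed_of_mem_irreducibleComponents _ (h.comp_mem v)
  have hgp : ∀ v, ∃ z, closure {z} = cv v := fun v => by
    obtain ⟨z, hz⟩ := QuasiSober.sober (h.comp_mem v).1 (hcl v)
    exact ⟨z, hz⟩
  choose ζ hζ using hgp
  have hkey : ∀ (v : V) (z : f.fiber (closedPoint R)), z ∈ cv v ↔ f.fiberι (closedPoint R) (ζ v) ⤳ f.fiberι (closedPoint R) z := by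
    intro v z
    rw [hemb.isInducing.specializes_iff, specializes_iff_mem_closure, hζ]
  refine ⟨fun v => f.fiberι (closedPoint R) (ζ v), ⟨?_, ?_, ?_⟩, hkey⟩
  · intro v
    exact Groth.Agent.CycB.FiberStalk.fiberι_mem f (closedPoint R) (ζ v)
  · intro x hx
    obtain ⟨z, rfl⟩ := Basic.exists_fiber_point f x hx
    obtain ⟨v, hv⟩ := h.comp_surjective _ (irreducibleComponent_mem_irreducibleComponents z)
    refine ⟨v, (hkey v z).1 ?_⟩
    rw [hv]
    exact mem_irreducibleComponent
  · intro v w hvw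
    have h1 : ζ w ∈ cv v := (hkey v (ζ w)).2 hvw
    have h2 : cv w ⊆ cv v := by
      rw [← hζ w]
      exact closure_minimal (Set.singleton_subset_iff.2 h1) (hcl v)
    have h3 : cv v ⊆ cv w := (h.comp_mem w).2 (h.comp_mem v).1 h2
    exact h.comp_injective (subset_antisymm h3 h2)

/-- the branches at a point are given by the components through it -/
theorem nodeLike_of_nodeData {V : Type} {η : V → X} (hη : IsGenPts f η) {ϖ : R} (hϖ : Irreducible ϖ) {x : X} {l : ℕ}
    {p₁ p₂ : Ideal (X.presheaf.stalk x)} (hd : NodeData (DualGr.stalkHom f x ϖ) l p₁ p₂) {a b : V} (ha : η a ⤳ x) (hb : η b ⤳ x)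
    (hab : ∀ v, η v ⤳ x → v = a ∨ v = b) :
    NodeData (DualGr.stalkHom f x ϖ) l (primeOf ha).asIdeal (primeOf hb).asIdeal := by
  have h1 := hη.minimalPrimes_eq hϖ x
  rw [hd.min] at h1
  have h2 : ({p₁, p₂} : Set (Ideal (X.presheaf.stalk x))) = {(primeOf ha).asIdeal, (primeOf hb).asIdeal} := by
    rw [h1]
    ext q
    constructor
    · rintro ⟨v, hv, rfl⟩
      rcases hab v hv with rfl | rfl
      · left; rfl
      · right; rfl
    · rintro (rfl | rfl)
      · exact ⟨a, ha, rfl⟩
      · exact ⟨b, hb, rfl⟩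
  rcases Set.pair_eq_pair_iff.1 h2 with ⟨rfl, rfl⟩ | ⟨rfl, rfl⟩
  · exact hd
  · exact hd.symm

/-- local rings at smooth points of the special fibre are regular -/
theorem isRegularLocalRing_of_smooth [LocallyOfFinitePresentation f] [Flat f] (z : f.fiber (closedPoint R))
    (hz : z ∉ DualGr.nonsmoothPts (f.fiberToSpecResidueField (closedPoint R))) :
    IsRegularLocalRing (X.presheaf.stalk (f.fiberι (closedPoint R) z)) := by
  have hlfp : LocallyOfFinitePresentation (f.fiberToSpecResidueField (closedPoint R)) :=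
    MorphismProperty.pullback_snd _ _ inferInstance
  have h1 : z ∈ (f.fiberToSpecResidueField (closedPoint R)).smoothLocus := not_not.1 hz
  have h2 := (Groth.Agent.Smoothlim.SmoothLocusBC.mem_smoothLocus_iff_of_isPullback
    (IsPullback.of_hasPullback f ((Spec (CommRingCat.of R)).fromSpecResidueField (closedPoint R))) z (Or.inl (Flat.stalkMap f _))).1 h1
  let U := f.smoothLocus
  have hsm : Smooth (U.ι ≫ f) := by
    rw [← Scheme.Hom.smoothLocus_eq_top_iff, ← Scheme.Hom.preimage_smoothLocus_eq]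
    ext y
    simp only [Scheme.Opens.ι_preimage_self, U]
  have h3 := Groth.Agent.Fga.DVRGeom.isRegularLocalRing_stalk (p := U.ι ≫ f) ⟨_, h2⟩
  exact IsRegularLocalRing.of_ringEquiv ((asIso (U.ι.stalkMap ⟨_, h2⟩)).commRingCatIsoToRingEquiv.symm)

/-- the generic fibre of a proper nodal family carries an ample invertible module -/
theorem exists_isAmple [IsProper f] (hf : Curv2.IsNodalFamily f) :
    ∃ L : (pullback f (Neron.genPt R)).Modules, CohB1.IsAmple L := by
  have hoi := isOpenImmersion_fst f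
  let s : Spec (CommRingCat.of R) := Neron.genPt R (closedPoint (FractionRing R))
  have hs : ∀ x : X, x ∈ Set.range (pullback.fst f (Neron.genPt R)) ↔ f x = s := by
    intro x
    constructor
    · rintro ⟨w, rfl⟩
      rw [← Scheme.Hom.comp_apply, pullback.condition, Scheme.Hom.comp_apply]
      exact congrArg _ (Subsingleton.elim _ _)
    · intro hx
      rw [mem_range_iff, hx]
      intro h
      obtain ⟨ϖ, hϖ⟩ := IsDiscreteValuationRing.exists_irreducible R
      have h1 := (Basic.eq_closedPoint_iff s hϖ).1 h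
      have h2 : ϖ ∈ (maximalIdeal (FractionRing R)).comap (algebraMap R (FractionRing R)) := h1
      rw [Ideal.mem_comap, IsLocalRing.mem_maximalIdeal, mem_nonunits_iff] at h2
      refine h2 (IsUnit.mk0 _ ?_)
      rw [Ne, map_eq_zero_iff _ (IsFractionRing.injective R (FractionRing R))]
      exact hϖ.ne_zero
  have hrange : Set.range (pullback.fst f (Neron.genPt R)) = Set.range (f.fiberι s) := by
    ext x
    rw [hs, f.range_fiberι]
    rfl
  have hdim : topologicalKrullDim ↥(pullback f (Neron.genPt R)) ≤ 1 := by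
    let e1 := (pullback.fst f (Neron.genPt R)).isOpenEmbedding.isEmbedding.toHomeomorph
    let e2 := (f.fiberι s).isEmbedding.toHomeomorph
    let e3 : Set.range (pullback.fst f (Neron.genPt R)) ≃ₜ Set.range (f.fiberι s) := Homeomorph.setCongr hrange
    have h1 : topologicalKrullDim ↥(pullback f (Neron.genPt R)) = topologicalKrullDim ↥(f.fiber s) :=
      IsHomeomorph.topologicalKrullDim_eq _ ((e1.trans e3).trans e2.symm).isHomeomorph
    rw [h1]
    exact Groth.Agent.Dual.H341.CMSch.topologicalKrullDim_le_of_components _ 1 (hf.2.2 s).1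
  exact Groth.Agent.CalgB.ProjField.exists_isAmple_of_dim_le_one (pullback.snd f (Neron.genPt R)) hdim

end K793.FibGeom
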