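import Mathlib.RingTheory.RegularLocalRing.Defs
import Mathlib.RingTheory.Ideal.KrullsHeightTheorem
import Mathlib.RingTheory.Ideal.MinimalPrime.Localization

/-!
# The local rings of the blow-up of a split node
-/

set_option autoImplicit false
universe u
open IsLocalRing

namespace K793.BlAlg

section Reg

variable {A : Type u} [CommRing A] [IsLocalRing A]

theorem one_le_ringKrullDim {g : A} (hg : g ∈ nonZeroDivisors A)
    (p : Ideal A) [p.IsPrime] (hgp : g ∈ p) : (1 : WithBot ℕ∞) ≤ ringKrullDim A := by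
  obtain ⟨q, hq, hqp⟩ := Ideal.exists_minimalPrimes_le (bot_le : (⊥ : Ideal A) ≤ p)
  have hqprime : q.IsPrime := hq.1.1
  have hgq : g ∉ q := fun h => notMem_nonZeroDivisors_of_mem_mem_minimalPrimes h hq hg
  have h1 : (⟨q, hqprime⟩ : PrimeSpectrum A) < ⟨p, inferInstance⟩ :=
    lt_of_le_of_ne hqp fun h => hgq (by
      have h' : q = p := congrArg PrimeSpectrum.asIdeal h
      rw [h']; exact hgp)
  let l : LTSeries (PrimeSpectrum A) := (RelSeries.singleton _ ⟨p, inferInstance⟩).cons ⟨q, hqprime⟩ (by simpa using h1)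
  exact Order.LTSeries.length_le_krullDim l

theorem two_le_ringKrullDim {g : A} (hg : g ∈ nonZeroDivisors A)
    (p : Ideal A) [p.IsPrime] (hgp : g ∈ p) (hp : p ≠ maximalIdeal A) : (2 : WithBot ℕ∞) ≤ ringKrullDim A := by
  obtain ⟨q, hq, hqp⟩ := Ideal.exists_minimalPrimes_le (bot_le : (⊥ : Ideal A) ≤ p)
  have hqprime : q.IsPrime := hq.1.1
  have hgq : g ∉ q := fun h => notMem_nonZeroDivisors_of_mem_mem_minimalPrimes h hq hg
  have h1 : (⟨q, hqprime⟩ : PrimeSpectrum A) < ⟨p, inferInstance⟩ :=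
    lt_of_le_of_ne hqp fun h => hgq (by
      have h' : q = p := congrArg PrimeSpectrum.asIdeal h
      rw [h']; exact hgp)
  have h2 : (⟨p, inferInstance⟩ : PrimeSpectrum A) < ⟨maximalIdeal A, inferInstance⟩ :=
    lt_of_le_of_ne (IsLocalRing.le_maximalIdeal Ideal.IsPrime.ne_top') fun h => hp (congrArg PrimeSpectrum.asIdeal h)
  let l : LTSeries (PrimeSpectrum A) := ((RelSeries.singleton _ ⟨maximalIdeal A, inferInstance⟩).cons ⟨p, inferInstance⟩ (by simpa using h2)).cons ⟨q, hqprime⟩ (by simpa using h1)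
  exact Order.LTSeries.length_le_krullDim l

theorem isRegular_of_span_pair [IsNoetherianRing A] {g h : A} (hmax : maximalIdeal A = Ideal.span {g, h})
    (hdim : (2 : WithBot ℕ∞) ≤ ringKrullDim A) : IsRegularLocalRing A := by
  apply IsRegularLocalRing.of_spanFinrank_maximalIdeal_le
  refine le_trans ?_ hdim
  rw [hmax]
  have h1 := Submodule.spanFinrank_span_le_ncard_of_finite (R := A) (Set.toFinite ({g, h} : Set A))
  have h2 : ({g, h} : Set A).ncard ≤ 2 := (Set.ncard_insert_le g {h}).trans (by rw [Set.ncard_singleton])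
  exact_mod_cast h1.trans h2

theorem isRegular_of_span_singleton [IsNoetherianRing A] {g : A} (hmax : maximalIdeal A = Ideal.span {g})
    (hdim : (1 : WithBot ℕ∞) ≤ ringKrullDim A) : IsRegularLocalRing A := by
  apply IsRegularLocalRing.of_spanFinrank_maximalIdeal_le
  refine le_trans ?_ hdim
  rw [hmax]
  have h1 := Submodule.spanFinrank_span_le_ncard_of_finite (R := A) (Set.toFinite ({g} : Set A))
  rw [Set.ncard_singleton] at h1
  exact_mod_cast h1

theorem isRegular_of_radical [IsNoetherianRing A] {π h : A} (hπ : π ∈ nonZeroDivisors A) (hred : (Ideal.span {π}).IsRadical)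
    (hmax : maximalIdeal A = Ideal.span {π, h}) : IsRegularLocalRing A := by
  have hπm : π ∈ maximalIdeal A := by rw [hmax]; exact Ideal.subset_span (by simp)
  by_cases hh : h ∈ Ideal.span {π}
  · refine isRegular_of_span_singleton (g := π) ?_ (one_le_ringKrullDim hπ (maximalIdeal A) hπm)
    rw [hmax]
    apply le_antisymm
    · rw [Ideal.span_le]
      rintro _ (rfl | rfl)
      · exact Ideal.mem_span_singleton_self _
      · exact hh
    · exact Ideal.span_mono (by simp)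
  · have hdisj : Disjoint ((Ideal.span {π} : Ideal A) : Set A) (Submonoid.powers h : Set A) := by
      rw [Set.disjoint_left]
      rintro _ ha ⟨n, rfl⟩
      exact hh (hred ⟨n, ha⟩)
    obtain ⟨p, hp, hle, hd⟩ := Ideal.exists_le_prime_disjoint _ _ hdisj
    refine isRegular_of_span_pair hmax (two_le_ringKrullDim hπ p (hle (Ideal.mem_span_singleton_self π)) ?_)
    rintro rfl
    exact Set.disjoint_left.1 hd (show h ∈ maximalIdeal A by rw [hmax]; exact Ideal.subset_span (by simp)) ⟨1, pow_one h⟩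

theorem isRegular_of_radical_mul [IsNoetherianRing A] {x t : A} (hπ : x * t ∈ nonZeroDivisors A) (hred : (Ideal.span {x * t}).IsRadical)
    (hmax : maximalIdeal A = Ideal.span {x, t}) : IsRegularLocalRing A := by
  have hxm : x ∈ maximalIdeal A := by rw [hmax]; exact Ideal.subset_span (by simp)
  have hx0 : x ∈ nonZeroDivisors A := by
    rw [mem_nonZeroDivisors_iff_right] at hπ ⊢
    intro z hz
    exact hπ z (by rw [← mul_assoc, hz, zero_mul])
  have hdisj : Disjoint ((Ideal.span {x} : Ideal A) : Set A) (Submonoid.powers t : Set A) := by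
    rw [Set.disjoint_left]
    rintro _ ha ⟨n, rfl⟩
    obtain ⟨w, hw⟩ := Ideal.mem_span_singleton'.1 ha
    have h1 : t ∈ Ideal.span {x * t} := hred ⟨n + 1, by
      have hw' : w * x = t ^ n := hw
      rw [pow_succ, ← hw', Ideal.mem_span_singleton']
      exact ⟨w, by ring⟩⟩
    obtain ⟨v, hv⟩ := Ideal.mem_span_singleton'.1 h1
    have h2 : t * (1 - v * x) = 0 := by linear_combination -hv
    have h3 : IsUnit (1 - v * x) := by
      apply isUnit_of_mem_nonunits_one_sub_self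
      rw [sub_sub_cancel]
      exact (maximalIdeal A).mul_mem_left v hxm
    have h4 : t = 0 := h3.mul_left_eq_zero.1 h2
    rw [h4, mul_zero] at hπ
    exact zero_notMem_nonZeroDivisors hπ
  obtain ⟨p, hp, hle, hd⟩ := Ideal.exists_le_prime_disjoint _ _ hdisj
  refine isRegular_of_span_pair hmax (two_le_ringKrullDim hx0 p (hle (Ideal.mem_span_singleton_self x)) ?_)
  rintro rfl
  exact Set.disjoint_left.1 hd (show t ∈ maximalIdeal A by rw [hmax]; exact Ideal.subset_span (by simp)) ⟨1, pow_one t⟩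

end Reg

section Bl

variable {A A' : Type u} [CommRing A] [CommRing A']

/-- the subring generated by `A` and the fractions `j/g` -/
def sub (ψ : A →+* A') (I : Ideal A) (g : A) : Subring A' :=
  Subring.closure (Set.range ψ ∪ {s | ∃ j ∈ I, s * ψ g = ψ j})

/-- the shape of the local rings of the blow-up of an ideal -/
structure IsBlStalk (ψ : A →+* A') (I : Ideal A) : Prop where
  inv : ∃ g ∈ nonZeroDivisors A', I.map ψ = Ideal.span {g}
  frac : ∀ g ∈ I, I.map ψ = Ideal.span {ψ g} → ∀ s : A', ∃ q ∈ sub ψ I g, IsUnit q ∧ s * q ∈ sub ψ I g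

theorem exists_sub_mem {ψ : A →+* A'} {I : Ideal A} {g : A} (N : Ideal A')
    (h : ∀ (s : A') (j : A), j ∈ I → s * ψ g = ψ j → ∃ a, s - ψ a ∈ N) {s : A'} (hs : s ∈ sub ψ I g) : ∃ a, s - ψ a ∈ N := by
  induction hs using Subring.closure_induction with
  | mem x hx =>
    rcases hx with ⟨a, rfl⟩ | ⟨j, hj, hx⟩
    · exact ⟨a, by simp⟩
    · exact h x j hj hx
  | zero => exact ⟨0, by simp⟩
  | one => exact ⟨1, by simp⟩
  | add x y _ _ hx hy =>
    obtain ⟨a, ha⟩ := hx
    obtain ⟨b, hb⟩ := hy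
    refine ⟨a + b, ?_⟩
    rw [map_add, add_sub_add_comm]
    exact N.add_mem ha hb
  | neg x _ hx =>
    obtain ⟨a, ha⟩ := hx
    refine ⟨-a, ?_⟩
    rw [map_neg, neg_sub_neg, ← neg_sub]
    exact N.neg_mem ha
  | mul x y _ _ hx hy =>
    obtain ⟨a, ha⟩ := hx
    obtain ⟨b, hb⟩ := hy
    refine ⟨a * b, ?_⟩
    rw [map_mul, show x * y - ψ a * ψ b = (x - ψ a) * y + ψ a * (y - ψ b) by ring]
    exact N.add_mem (N.mul_mem_right _ ha) (N.mul_mem_left _ hb)

variable [IsLocalRing A] [IsLocalRing A']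

theorem maximalIdeal_le_of {ψ : A →+* A'} [IsLocalHom ψ] {g : A} (hg : g ∈ maximalIdeal A)
    (hgen : (maximalIdeal A).map ψ = Ideal.span {ψ g}) (hbl : IsBlStalk ψ (maximalIdeal A)) (N : Ideal A')
    (hN : N ≤ maximalIdeal A') (hgN : ψ g ∈ N)
    (h : ∀ (s : A') (j : A), j ∈ maximalIdeal A → s * ψ g = ψ j → ∃ a, s - ψ a ∈ N) :
    maximalIdeal A' = N ∧ ∀ s : A', ∃ a, s - ψ a ∈ N := by
  have hmN : ∀ a ∈ maximalIdeal A, ψ a ∈ N := by
    intro a ha
    have h1 : ψ a ∈ Ideal.span {ψ g} := hgen ▸ Ideal.mem_map_of_mem ψ ha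
    exact (Ideal.span_singleton_le_iff_mem N).2 hgN h1
  have key : ∀ s : A', ∃ a, s - ψ a ∈ N := by
    intro s
    obtain ⟨q, hq, hqu, hsq⟩ := hbl.frac g hg hgen s
    obtain ⟨a, ha⟩ := exists_sub_mem N h hsq
    obtain ⟨b, hb⟩ := exists_sub_mem N h hq
    have hbu : IsUnit b := by
      by_contra hb'
      have h1 : ψ b ∈ N := hmN b hb'
      have h2 : q ∈ N := by
        have := N.add_mem hb h1
        rwa [sub_add_cancel] at this
      exact hN h2 hqu
    obtain ⟨c, hc⟩ := hbu.exists_left_inv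
    refine ⟨a * c, ?_⟩
    have hc' : ψ c * ψ b = 1 := by rw [← map_mul, hc, map_one]
    have h3 : s - ψ (a * c) = ψ c * ((s * q - ψ a) - s * (q - ψ b)) := by
      rw [map_mul]
      linear_combination -s * hc'
    rw [h3]
    exact N.mul_mem_left _ (N.sub_mem ha (N.mul_mem_left _ hb))
  refine ⟨le_antisymm ?_ hN, key⟩
  intro s hs
  obtain ⟨a, ha⟩ := key s
  have h1 : ψ a ∈ maximalIdeal A' := by
    have := (maximalIdeal A').sub_mem hs (hN ha)
    rwa [sub_sub_cancel] at this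
  have h2 : a ∈ maximalIdeal A := by
    intro hu
    exact h1 (hu.map ψ)
  have := N.add_mem ha (hmN a h2)
  rwa [sub_add_cancel] at this

theorem exists_coeff {x y ϖ : A} (hm : maximalIdeal A = Ideal.span {x, y, ϖ}) {j : A} (hj : j ∈ maximalIdeal A) :
    ∃ α β γ, j = α * x + β * y + γ * ϖ := by
  rw [hm, Ideal.mem_span_insert] at hj
  obtain ⟨α, z, hz, rfl⟩ := hj
  rw [Ideal.mem_span_pair] at hz
  obtain ⟨β, γ, rfl⟩ := hz
  exact ⟨α, β, γ, by ring⟩

/-- in a chart where a coordinate generates, the blow-up is regular -/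
theorem isRegular_of_coord [IsNoetherianRing A'] {ψ : A →+* A'} [IsLocalHom ψ] (hbl : IsBlStalk ψ (maximalIdeal A)) {x y ϖ ε : A}
    (hm : maximalIdeal A = Ideal.span {x, y, ϖ}) (hxy : x * y - ε * ϖ ^ 2 ∈ maximalIdeal A ^ 3)
    (hπ : ψ ϖ ∈ nonZeroDivisors A') (hred : (Ideal.span {ψ ϖ}).IsRadical)
    (hgen : (maximalIdeal A).map ψ = Ideal.span {ψ x}) (hne : (maximalIdeal A).map ψ ≠ Ideal.span {ψ ϖ}) :
    IsRegularLocalRing A' := by
  have hxm : x ∈ maximalIdeal A := by rw [hm]; exact Ideal.subset_span (by simp)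
  have hym : y ∈ maximalIdeal A := by rw [hm]; exact Ideal.subset_span (by simp)
  have hϖm : ϖ ∈ maximalIdeal A := by rw [hm]; exact Ideal.subset_span (by simp)
  have hdiv : ∀ j ∈ maximalIdeal A, ∃ w, w * ψ x = ψ j := fun j hj =>
    Ideal.mem_span_singleton'.1 (hgen ▸ Ideal.mem_map_of_mem ψ hj)
  obtain ⟨y', hy'⟩ := hdiv y hym
  obtain ⟨t, ht⟩ := hdiv ϖ hϖm
  have hx0 : ψ x ∈ nonZeroDivisors A' := by
    rw [← ht] at hπ
    rw [mem_nonZeroDivisors_iff_right] at hπ ⊢
    intro z hz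
    exact hπ z (by rw [mul_comm t, ← mul_assoc, hz, zero_mul])
  have h3 : ψ (x * y - ε * ϖ ^ 2) ∈ Ideal.span {ψ x ^ 3} := by
    have := Ideal.mem_map_of_mem ψ hxy
    rwa [Ideal.map_pow, hgen, Ideal.span_singleton_pow] at this
  obtain ⟨w, hw⟩ := Ideal.mem_span_singleton'.1 h3
  have h4 : y' = ψ ε * t ^ 2 + w * ψ x := by
    have h5 : (y' - (ψ ε * t ^ 2 + w * ψ x)) * (ψ x ^ 2) = 0 := by
      simp only [map_sub, map_mul, map_pow] at hw
      rw [← hy', ← ht] at hw
      linear_combination -hw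
    exact sub_eq_zero.1 ((mem_nonZeroDivisors_iff_right.1 (pow_mem hx0 2)) _ h5)
  have htm : t ∈ maximalIdeal A' := by
    intro hu
    apply hne
    rw [hgen, ← ht]
    exact (Ideal.span_singleton_mul_left_unit hu _).symm
  have hxm' : ψ x ∈ maximalIdeal A' := fun hu => hxm (isUnit_of_map_unit ψ x hu)
  have hxN : ψ x ∈ Ideal.span {ψ x, t} := Ideal.subset_span (by simp)
  have htN : t ∈ Ideal.span {ψ x, t} := Ideal.subset_span (by simp)
  have hyN : y' ∈ Ideal.span {ψ x, t} := by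
    rw [h4]
    refine Ideal.add_mem _ (Ideal.mul_mem_left _ _ ?_) (Ideal.mul_mem_left _ _ hxN)
    rw [pow_two]
    exact Ideal.mul_mem_left _ _ htN
  have h6 := (maximalIdeal_le_of hxm hgen hbl (Ideal.span {ψ x, t}) (by
    rw [Ideal.span_le]
    rintro _ (rfl | rfl)
    · exact hxm'
    · exact htm) hxN (fun s j hj hs => by
      obtain ⟨α, β, γ, rfl⟩ := exists_coeff hm hj
      refine ⟨α, ?_⟩
      have h7 : s = ψ α + ψ β * y' + ψ γ * t := by
        have h8 : (s - (ψ α + ψ β * y' + ψ γ * t)) * ψ x = 0 := by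
          simp only [map_add, map_mul] at hs
          rw [← hy', ← ht] at hs
          linear_combination hs
        exact sub_eq_zero.1 ((mem_nonZeroDivisors_iff_right.1 hx0) _ h8)
      rw [h7, show ψ α + ψ β * y' + ψ γ * t - ψ α = ψ β * y' + ψ γ * t by ring]
      exact Ideal.add_mem _ (Ideal.mul_mem_left _ _ hyN) (Ideal.mul_mem_left _ _ htN))).1
  rw [← ht, mul_comm t] at hπ hred
  exact isRegular_of_radical_mul hπ hred h6

omit [IsLocalRing A'] [IsLocalRing A] in
theorem exists_poly_of_mem_sub {ψ : A →+* A'} {I : Ideal A} {g : A} {y' : A'}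
    (h : ∀ (s : A') (j : A), j ∈ I → s * ψ g = ψ j → ∃ (n : ℕ) (f : Polynomial A), s * y' ^ n - f.eval₂ ψ y' ∈ Ideal.span {ψ g}) {s : A'}
    (hs : s ∈ sub ψ I g) : ∃ (n : ℕ) (f : Polynomial A), s * y' ^ n - f.eval₂ ψ y' ∈ Ideal.span {ψ g} := by
  induction hs using Subring.closure_induction with
  | mem x hx =>
    rcases hx with ⟨a, rfl⟩ | ⟨j, hj, hx⟩
    · exact ⟨0, Polynomial.C a, by simp⟩
    · exact h x j hj hx
  | zero => exact ⟨0, 0, by simp⟩
  | one => exact ⟨0, 1, by simp⟩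
  | add x y _ _ hx hy =>
    obtain ⟨n, f, hf⟩ := hx
    obtain ⟨m, g', hg⟩ := hy
    refine ⟨n + m, f * Polynomial.X ^ m + g' * Polynomial.X ^ n, ?_⟩
    have : (x + y) * y' ^ (n + m) - (f * Polynomial.X ^ m + g' * Polynomial.X ^ n).eval₂ ψ y' =
      (x * y' ^ n - f.eval₂ ψ y') * y' ^ m + (y * y' ^ m - g'.eval₂ ψ y') * y' ^ n := by
      simp only [Polynomial.eval₂_add, Polynomial.eval₂_mul, Polynomial.eval₂_X_pow]
      ring
    rw [this]
    exact Ideal.add_mem _ (Ideal.mul_mem_right _ _ hf) (Ideal.mul_mem_right _ _ hg)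
  | neg x _ hx =>
    obtain ⟨n, f, hf⟩ := hx
    refine ⟨n, -f, ?_⟩
    rw [Polynomial.eval₂_neg, show -x * y' ^ n - -f.eval₂ ψ y' = -(x * y' ^ n - f.eval₂ ψ y') by ring]
    exact neg_mem hf
  | mul x y _ _ hx hy =>
    obtain ⟨n, f, hf⟩ := hx
    obtain ⟨m, g', hg⟩ := hy
    refine ⟨n + m, f * g', ?_⟩
    rw [Polynomial.eval₂_mul, show x * y * y' ^ (n + m) - f.eval₂ ψ y' * g'.eval₂ ψ y' =
      (x * y' ^ n - f.eval₂ ψ y') * (y * y' ^ m) + f.eval₂ ψ y' * (y * y' ^ m - g'.eval₂ ψ y') by ring]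
    exact Ideal.add_mem _ (Ideal.mul_mem_right _ _ hf) (Ideal.mul_mem_left _ _ hg)

theorem exists_generator_comap (A' : Type u) [CommRing A'] [IsLocalRing A'] (ρ : Polynomial A →+* A') (J : Ideal A')
    (hJ : ∀ a ∈ maximalIdeal A, ρ (Polynomial.C a) ∈ J) :
    ∃ h ∈ (maximalIdeal A').comap ρ, ∀ f ∈ (maximalIdeal A').comap ρ, ρ f ∈ J ⊔ Ideal.span {ρ h} := by
  let P := (maximalIdeal A').comap ρ
  let r : Polynomial A →+* Polynomial (ResidueField A) := Polynomial.mapRingHom (residue A)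
  have hr : Function.Surjective r := Polynomial.map_surjective _ residue_surjective
  obtain ⟨hb, hhb⟩ := (IsPrincipalIdealRing.principal (P.map r)).principal
  have h1 : hb ∈ P.map r := by rw [hhb]; exact Submodule.mem_span_singleton_self hb
  obtain ⟨h, hhP, hh⟩ := (Ideal.mem_map_iff_of_surjective r hr).1 h1
  refine ⟨h, hhP, fun f hf => ?_⟩
  have h2 : r f ∈ P.map r := Ideal.mem_map_of_mem r hf
  rw [hhb] at h2
  obtain ⟨gb, hgb⟩ := Ideal.mem_span_singleton'.1 h2
  obtain ⟨g, rfl⟩ := hr gb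
  have h3 : r (f - g * h) = 0 := by rw [map_sub, map_mul, hh, hgb, sub_self]
  have h4 : f - g * h ∈ (maximalIdeal A).map Polynomial.C := by
    rw [Ideal.mem_map_C_iff]
    intro n
    have h5 : (r (f - g * h)).coeff n = 0 := by rw [h3]; simp
    have h6 : residue A ((f - g * h).coeff n) = 0 := by
      rw [← h5]
      exact (Polynomial.coeff_map _ _).symm
    exact (residue_eq_zero_iff _).1 h6
  have h7 : ρ (f - g * h) ∈ J := by
    have h8 : ((maximalIdeal A).map Polynomial.C).map ρ ≤ J := by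
      rw [Ideal.map_le_iff_le_comap, Ideal.map_le_iff_le_comap]
      exact fun a ha => hJ a ha
    exact h8 (Ideal.mem_map_of_mem ρ h4)
  have h9 : ρ f = ρ (f - g * h) + ρ g * ρ h := by rw [map_sub, map_mul]; ring
  rw [h9]
  exact Ideal.add_mem _ (Ideal.mem_sup_left h7) (Ideal.mem_sup_right (Ideal.mul_mem_left _ _ (Ideal.mem_span_singleton_self _)))

/-- in the last chart, away from the origin, the blow-up is regular -/
theorem isRegular_of_isUnit [IsNoetherianRing A'] {ψ : A →+* A'} [IsLocalHom ψ] (hbl : IsBlStalk ψ (maximalIdeal A)) {x y ϖ ε : A}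
    (hm : maximalIdeal A = Ideal.span {x, y, ϖ}) (hπ : ψ ϖ ∈ nonZeroDivisors A') (hred : (Ideal.span {ψ ϖ}).IsRadical)
    (hgen : (maximalIdeal A).map ψ = Ideal.span {ψ ϖ}) {x' y' : A'} (hx' : x' * ψ ϖ = ψ x) (hy' : y' * ψ ϖ = ψ y)
    (hxy' : x' * y' - ψ ε ∈ Ideal.span {ψ ϖ}) (hu : IsUnit y') : IsRegularLocalRing A' := by
  have hϖm : ϖ ∈ maximalIdeal A := by rw [hm]; exact Ideal.subset_span (by simp)
  have hϖm' : ψ ϖ ∈ maximalIdeal A' := fun hu => hϖm (isUnit_of_map_unit ψ ϖ hu)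
  obtain ⟨h, hh, hP⟩ := exists_generator_comap A' (Polynomial.eval₂RingHom ψ y') (Ideal.span {ψ ϖ}) (fun a ha => by
    rw [Polynomial.coe_eval₂RingHom, Polynomial.eval₂_C, ← hgen]
    exact Ideal.mem_map_of_mem ψ ha)
  rw [Polynomial.coe_eval₂RingHom] at hP
  refine isRegular_of_radical (h := h.eval₂ ψ y') hπ hred (le_antisymm ?_ ?_)
  · intro s hs
    obtain ⟨q, hq, hqu, hsq⟩ := hbl.frac ϖ hϖm hgen s
    obtain ⟨n, f, hf⟩ := exists_poly_of_mem_sub (y' := y') (fun s j hj hs => by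
      obtain ⟨α, β, γ, rfl⟩ := exists_coeff hm hj
      refine ⟨1, Polynomial.C (α * ε) + Polynomial.C β * Polynomial.X ^ 2 + Polynomial.C γ * Polynomial.X, ?_⟩
      have h7 : s = ψ α * x' + ψ β * y' + ψ γ := by
        have h8 : (s - (ψ α * x' + ψ β * y' + ψ γ)) * ψ ϖ = 0 := by
          simp only [map_add, map_mul] at hs
          rw [← hy', ← hx'] at hs
          linear_combination hs
        exact sub_eq_zero.1 ((mem_nonZeroDivisors_iff_right.1 hπ) _ h8)
      have h9 : s * y' ^ 1 - (Polynomial.C (α * ε) + Polynomial.C β * Polynomial.X ^ 2 + Polynomial.C γ * Polynomial.X).eval₂ ψ y' =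
        ψ α * (x' * y' - ψ ε) := by
        rw [h7]
        simp only [Polynomial.eval₂_add, Polynomial.eval₂_mul, Polynomial.eval₂_C, Polynomial.eval₂_X, Polynomial.eval₂_X_pow, map_mul]
        ring
      rw [h9]
      exact Ideal.mul_mem_left _ _ hxy') hsq
    have h1 : f.eval₂ ψ y' ∈ maximalIdeal A' := by
      have h2 : s * q * y' ^ n ∈ maximalIdeal A' := Ideal.mul_mem_right _ _ (Ideal.mul_mem_right _ _ hs)
      have h3 := (maximalIdeal A').sub_mem h2 ((Ideal.span_singleton_le_iff_mem _).2 hϖm' hf)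
      rwa [sub_sub_cancel] at h3
    have h2 := hP f h1
    have h3 : s * (q * y' ^ n) ∈ Ideal.span {ψ ϖ} ⊔ Ideal.span {h.eval₂ ψ y'} := by
      have := Ideal.add_mem _ (Ideal.mem_sup_left (T := Ideal.span {h.eval₂ ψ y'}) hf) h2
      rwa [sub_add_cancel, mul_assoc] at this
    rw [Ideal.mul_unit_mem_iff_mem _ (hqu.mul (hu.pow n)), ← Ideal.span_insert] at h3
    exact h3
  · rw [Ideal.span_le]
    rintro _ (rfl | rfl)
    · exact hϖm'
    · exact hh

/-- the structure of a nonregular point of the blow-up -/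
structure IsOrigin (ψ : A →+* A') (x y ϖ : A) (x' y' : A') : Prop where
  gen : (maximalIdeal A).map ψ = Ideal.span {ψ ϖ}
  hx : x' * ψ ϖ = ψ x
  hy : y' * ψ ϖ = ψ y
  hxm : x' ∈ maximalIdeal A'
  hym : y' ∈ maximalIdeal A'
  max : maximalIdeal A' = Ideal.span {x', y', ψ ϖ}
  surj : ∀ s : A', ∃ a, s - ψ a ∈ maximalIdeal A'
  mul : x' * y' ∈ Ideal.span {ψ ϖ}

theorem isUnit_of_span_eq {g x y z : A'} (hg : g ∈ nonZeroDivisors A') (h : Ideal.span {x, y, z} = Ideal.span {g}) :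
    Ideal.span {x, y, z} = Ideal.span {x} ∨ Ideal.span {x, y, z} = Ideal.span {y} ∨ Ideal.span {x, y, z} = Ideal.span {z} := by
  have hx : x ∈ Ideal.span {g} := h ▸ Ideal.subset_span (by simp)
  have hy : y ∈ Ideal.span {g} := h ▸ Ideal.subset_span (by simp)
  have hz : z ∈ Ideal.span {g} := h ▸ Ideal.subset_span (by simp)
  obtain ⟨a, rfl⟩ := Ideal.mem_span_singleton'.1 hx
  obtain ⟨b, rfl⟩ := Ideal.mem_span_singleton'.1 hy
  obtain ⟨c, rfl⟩ := Ideal.mem_span_singleton'.1 hz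
  have h1 : g ∈ Ideal.span {a * g, b * g, c * g} := h ▸ Ideal.mem_span_singleton_self g
  rw [Ideal.mem_span_insert] at h1
  obtain ⟨α, w, hw, h1⟩ := h1
  rw [Ideal.mem_span_pair] at hw
  obtain ⟨β, γ, rfl⟩ := hw
  have h2 : α * a + β * b + γ * c = 1 := by
    have h3 : (1 - (α * a + β * b + γ * c)) * g = 0 := by linear_combination h1
    exact (sub_eq_zero.1 ((mem_nonZeroDivisors_iff_right.1 hg) _ h3)).symm
  have key : ∀ {u : A'}, IsUnit u → Ideal.span {g} = Ideal.span {u * g} := fun {u} hu =>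
    (Ideal.span_singleton_mul_left_unit hu g).symm
  by_cases ha : IsUnit a
  · exact Or.inl (h.trans (key ha))
  by_cases hb : IsUnit b
  · exact Or.inr (Or.inl (h.trans (key hb)))
  by_cases hc : IsUnit c
  · exact Or.inr (Or.inr (h.trans (key hc)))
  exfalso
  have h3 : (1 : A') ∈ maximalIdeal A' := by
    rw [← h2]
    exact Ideal.add_mem _ (Ideal.add_mem _ (Ideal.mul_mem_left _ _ ha) (Ideal.mul_mem_left _ _ hb)) (Ideal.mul_mem_left _ _ hc)
  exact (Ideal.ne_top_iff_one _).1 (maximalIdeal.isMaximal A').ne_top h3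

theorem exists_isOrigin [IsNoetherianRing A'] {ψ : A →+* A'} [IsLocalHom ψ] (hbl : IsBlStalk ψ (maximalIdeal A)) {x y ϖ ε : A}
    (hm : maximalIdeal A = Ideal.span {x, y, ϖ}) (hxy : x * y - ε * ϖ ^ 2 ∈ maximalIdeal A ^ 3)
    (hπ : ψ ϖ ∈ nonZeroDivisors A') (hred : (Ideal.span {ψ ϖ}).IsRadical) (hnreg : ¬ IsRegularLocalRing A') :
    ∃ x' y' : A', IsOrigin ψ x y ϖ x' y' := by
  have hϖm : ϖ ∈ maximalIdeal A := by rw [hm]; exact Ideal.subset_span (by simp)
  have hxm : x ∈ maximalIdeal A := by rw [hm]; exact Ideal.subset_span (by simp)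
  have hym : y ∈ maximalIdeal A := by rw [hm]; exact Ideal.subset_span (by simp)
  have hϖm' : ψ ϖ ∈ maximalIdeal A' := fun hu => hϖm (isUnit_of_map_unit ψ ϖ hu)
  have hgen : (maximalIdeal A).map ψ = Ideal.span {ψ ϖ} := by
    by_contra hne
    apply hnreg
    obtain ⟨g, hg, hgm⟩ := hbl.inv
    have h1 : (maximalIdeal A).map ψ = Ideal.span {ψ x, ψ y, ψ ϖ} := by
      conv_lhs => rw [hm]
      rw [Ideal.map_span, Set.image_insert_eq, Set.image_pair]
    rcases isUnit_of_span_eq hg (h1 ▸ hgm) with h | h | h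
    · exact isRegular_of_coord hbl hm hxy hπ hred (h1.trans h) hne
    · exact isRegular_of_coord (x := y) (y := x) hbl (hm.trans (by rw [Set.insert_comm])) (by rw [mul_comm]; exact hxy) hπ hred (h1.trans h) hne
    · exact absurd (h1.trans h) hne
  obtain ⟨x', hx'⟩ := Ideal.mem_span_singleton'.1 (hgen ▸ Ideal.mem_map_of_mem ψ hxm)
  obtain ⟨y', hy'⟩ := Ideal.mem_span_singleton'.1 (hgen ▸ Ideal.mem_map_of_mem ψ hym)
  have h3 : ψ (x * y - ε * ϖ ^ 2) ∈ Ideal.span {ψ ϖ ^ 3} := by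
    have := Ideal.mem_map_of_mem ψ hxy
    rwa [Ideal.map_pow, hgen, Ideal.span_singleton_pow] at this
  obtain ⟨w, hw⟩ := Ideal.mem_span_singleton'.1 h3
  have hxy' : x' * y' - ψ ε ∈ Ideal.span {ψ ϖ} := by
    rw [Ideal.mem_span_singleton']
    refine ⟨w, ?_⟩
    have h5 : (w * ψ ϖ - (x' * y' - ψ ε)) * (ψ ϖ ^ 2) = 0 := by
      simp only [map_sub, map_mul, map_pow] at hw
      rw [← hy', ← hx'] at hw
      linear_combination hw
    exact sub_eq_zero.1 ((mem_nonZeroDivisors_iff_right.1 (pow_mem hπ 2)) _ h5)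
  have hym' : y' ∈ maximalIdeal A' := by
    intro hu
    exact hnreg (isRegular_of_isUnit hbl hm hπ hred hgen hx' hy' hxy' hu)
  have hxm' : x' ∈ maximalIdeal A' := by
    intro hu
    exact hnreg (isRegular_of_isUnit (x := y) (y := x) hbl (hm.trans (by rw [Set.insert_comm])) hπ hred hgen hy' hx'
      (by rw [mul_comm]; exact hxy') hu)
  have hxN : x' ∈ Ideal.span {x', y', ψ ϖ} := Ideal.subset_span (by simp)
  have hyN : y' ∈ Ideal.span {x', y', ψ ϖ} := Ideal.subset_span (by simp)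
  have hϖN : ψ ϖ ∈ Ideal.span {x', y', ψ ϖ} := Ideal.subset_span (by simp)
  obtain ⟨h6, h7⟩ := maximalIdeal_le_of hϖm hgen hbl (Ideal.span {x', y', ψ ϖ}) (by
    rw [Ideal.span_le]
    rintro _ (rfl | rfl | rfl)
    · exact hxm'
    · exact hym'
    · exact hϖm') hϖN (fun s j hj hs => by
      obtain ⟨α, β, γ, rfl⟩ := exists_coeff hm hj
      refine ⟨γ, ?_⟩
      have h7 : s = ψ α * x' + ψ β * y' + ψ γ := by
        have h8 : (s - (ψ α * x' + ψ β * y' + ψ γ)) * ψ ϖ = 0 := by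
          simp only [map_add, map_mul] at hs
          rw [← hy', ← hx'] at hs
          linear_combination hs
        exact sub_eq_zero.1 ((mem_nonZeroDivisors_iff_right.1 hπ) _ h8)
      rw [h7, add_sub_cancel_right]
      exact Ideal.add_mem _ (Ideal.mul_mem_left _ _ hxN) (Ideal.mul_mem_left _ _ hyN))
  have hε : ε ∈ maximalIdeal A := by
    intro hu
    have h8 : ψ ε ∈ maximalIdeal A' := by
      have h9 := (maximalIdeal A').sub_mem (Ideal.mul_mem_right y' _ hxm') ((Ideal.span_singleton_le_iff_mem _).2 hϖm' hxy')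
      rwa [sub_sub_cancel] at h9
    exact h8 (hu.map ψ)
  refine ⟨x', y', hgen, hx', hy', hxm', hym', h6, fun s => ?_, ?_⟩
  · obtain ⟨a, ha⟩ := h7 s
    exact ⟨a, h6 ▸ ha⟩
  · have h8 : ψ ε ∈ Ideal.span {ψ ϖ} := hgen ▸ Ideal.mem_map_of_mem ψ hε
    have := Ideal.add_mem _ hxy' h8
    rwa [sub_add_cancel] at this

end Bl

end K793.BlAlg
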