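import Groth.Agent.SemiFact.K793.NodeDef
import Groth.Agent.SemiFact.K793.BlAlg
import Groth.Agent.S0548

/-!
# Approximate node coordinates in the local ring
-/

set_option autoImplicit false
universe u

open IsLocalRing

namespace K793.NodeApprox

open K793.NodeAlg K793.NodeDef K793.BlAlg

theorem exists_approx {A S : Type u} [CommRing A] [IsLocalRing A] [IsNoetherianRing A] [CommRing S] [Algebra S (Curv2.cpl A)]
    [IsLocalRing (Curv2.cpl A)] {ϖ : S} {x y : Curv2.cpl A} {a : S} {π₀ : A} (h : IsNode ϖ x y a)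
    (hπ : algebraMap S (Curv2.cpl A) ϖ = algebraMap A (Curv2.cpl A) π₀) {l : ℕ}
    (ha : algebraMap S (Curv2.cpl A) a = if l = 0 then 0 else algebraMap S (Curv2.cpl A) ϖ ^ l) (hnreg : ¬ IsRegularLocalRing A) :
    ∃ x y ε : A, maximalIdeal A = Ideal.span {x, y, π₀} ∧ x * y - ε * π₀ ^ 2 ∈ maximalIdeal A ^ 3 := by
  have hN : IsNoetherianRing (Curv2.cpl A) := Groth.Agent.Ega4A.CplQuot.isNoetherianRing_cpl A
  have hF : Module.FaithfullyFlat A (Curv2.cpl A) := Groth.Agent.Ega4A.CplQuot.faithfullyFlat_cpl A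
  have hmaxc : maximalIdeal (Curv2.cpl A) = (maximalIdeal A).map (algebraMap A (Curv2.cpl A)) :=
    AdicCompletion.maximalIdeal_eq_map
  have hxm : x ∈ maximalIdeal (Curv2.cpl A) := by rw [h.max]; exact Ideal.subset_span (by simp)
  have hym : y ∈ maximalIdeal (Curv2.cpl A) := by rw [h.max]; exact Ideal.subset_span (by simp)
  have hϖm : algebraMap S (Curv2.cpl A) ϖ ∈ maximalIdeal (Curv2.cpl A) := by rw [h.max]; exact Ideal.subset_span (by simp)
  have hl1 : l ≠ 1 := by
    rintro rfl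
    apply hnreg
    rw [if_neg one_ne_zero, pow_one] at ha
    have hreg : IsRegularLocalRing (Curv2.cpl A) := by
      have := h.prime₁
      refine isRegular_of_span_pair (g := x) (h := y) ?_ (two_le_ringKrullDim h.reg (Ideal.span {x, algebraMap S (Curv2.cpl A) ϖ}) (Ideal.subset_span (Set.mem_insert_of_mem _ rfl)) ?_)
      · apply le_antisymm
        · rw [h.max, Ideal.span_le]
          rintro _ (rfl | rfl | rfl)
          · exact Ideal.subset_span (by simp)
          · exact Ideal.subset_span (by simp)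
          · rw [← ha, ← h.mul]
            exact Ideal.mul_mem_left _ _ (Ideal.subset_span (by simp))
        · rw [Ideal.span_le]
          rintro _ (rfl | rfl)
          · exact hxm
          · exact hym
      · intro he
        exact h.notMem₁ (he ▸ hym)
    exact (Groth.Agent.S0548.result A).2 hreg
  obtain ⟨x₀, hx₀⟩ := exists_sub_mem_pow A 2 x
  obtain ⟨y₀, hy₀⟩ := exists_sub_mem_pow A 2 y
  have hpow : ∀ (n : ℕ) (z : A), algebraMap A (Curv2.cpl A) z ∈ maximalIdeal (Curv2.cpl A) ^ n → z ∈ maximalIdeal A ^ n := by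
    intro n z hz
    rw [hmaxc, ← Ideal.map_pow, ← Ideal.mem_comap, Ideal.comap_map_eq_self_of_faithfullyFlat] at hz
    exact hz
  have hsq : maximalIdeal (Curv2.cpl A) ^ 2 ≤ maximalIdeal (Curv2.cpl A) := Ideal.pow_le_self two_ne_zero
  have hx₀m : x₀ ∈ maximalIdeal A := by
    have := hpow 1 x₀ (by
      rw [pow_one]
      have h1 := sub_mem hxm (hsq hx₀)
      rwa [sub_sub_cancel] at h1)
    rwa [pow_one] at this
  have hy₀m : y₀ ∈ maximalIdeal A := by
    have := hpow 1 y₀ (by
      rw [pow_one]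
      have h1 := sub_mem hym (hsq hy₀)
      rwa [sub_sub_cancel] at h1)
    rwa [pow_one] at this
  have hπ₀m : π₀ ∈ maximalIdeal A := by
    have := hpow 1 π₀ (by rw [pow_one, ← hπ]; exact hϖm)
    rwa [pow_one] at this
  refine ⟨x₀, y₀, if l = 2 then 1 else 0, ?_, ?_⟩
  · have hle : Ideal.span {x₀, y₀, π₀} ≤ maximalIdeal A := by
      rw [Ideal.span_le]
      rintro _ (rfl | rfl | rfl)
      · exact hx₀m
      · exact hy₀m
      · exact hπ₀m
    refine le_antisymm ?_ hle
    have h2 : maximalIdeal A ≤ Ideal.span {x₀, y₀, π₀} ⊔ maximalIdeal A ^ 2 := by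
      have h3 : (maximalIdeal A).map (algebraMap A (Curv2.cpl A)) ≤ (Ideal.span {x₀, y₀, π₀} ⊔ maximalIdeal A ^ 2).map (algebraMap A (Curv2.cpl A)) := by
        rw [← hmaxc, h.max, Ideal.map_sup, Ideal.map_pow, ← hmaxc, Ideal.span_le]
        have h4 : ∀ z ∈ ({x₀, y₀, π₀} : Set A), algebraMap A (Curv2.cpl A) z ∈ (Ideal.span {x₀, y₀, π₀}).map (algebraMap A (Curv2.cpl A)) :=
          fun z hz => Ideal.mem_map_of_mem _ (Ideal.subset_span hz)
        rintro _ (rfl | rfl | rfl)
        · have h5 := add_mem (Ideal.mem_sup_right hx₀) (Ideal.mem_sup_left (T := maximalIdeal (Curv2.cpl A) ^ 2) (h4 x₀ (by simp)))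
          rwa [sub_add_cancel] at h5
        · have h5 := add_mem (Ideal.mem_sup_right hy₀) (Ideal.mem_sup_left (T := maximalIdeal (Curv2.cpl A) ^ 2) (h4 y₀ (by simp)))
          rwa [sub_add_cancel] at h5
        · rw [hπ]
          exact Ideal.mem_sup_left (h4 π₀ (by simp))
      rw [Ideal.map_le_iff_le_comap, Ideal.comap_map_eq_self_of_faithfullyFlat] at h3
      exact h3
    have hfg : (maximalIdeal A).FG := IsNoetherian.noetherian _
    refine Submodule.le_of_le_smul_of_le_jacobson_bot (I := maximalIdeal A) hfg ?_ ?_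
    · rw [IsLocalRing.jacobson_eq_maximalIdeal ⊥ bot_ne_top]
    · rw [smul_eq_mul, ← pow_two]
      exact h2
  · apply hpow 3
    rw [map_sub, map_mul, map_mul, map_pow, ← hπ]
    have h3 : maximalIdeal (Curv2.cpl A) ^ 2 * maximalIdeal (Curv2.cpl A) = maximalIdeal (Curv2.cpl A) ^ 3 := (pow_succ _ 2).symm
    have h4 : (x - algebraMap A (Curv2.cpl A) x₀) * y ∈ maximalIdeal (Curv2.cpl A) ^ 3 := h3 ▸ Ideal.mul_mem_mul hx₀ hym
    have h5 : (y - algebraMap A (Curv2.cpl A) y₀) * algebraMap A (Curv2.cpl A) x₀ ∈ maximalIdeal (Curv2.cpl A) ^ 3 :=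
      h3 ▸ Ideal.mul_mem_mul hy₀ (by rw [hmaxc]; exact Ideal.mem_map_of_mem _ hx₀m)
    have h6 : x * y - algebraMap A (Curv2.cpl A) (if l = 2 then 1 else 0) * algebraMap S (Curv2.cpl A) ϖ ^ 2 ∈ maximalIdeal (Curv2.cpl A) ^ 3 := by
      rw [h.mul, ha]
      by_cases hl0 : l = 0
      · rw [if_pos hl0, if_neg (by omega), map_zero, zero_mul, sub_zero]
        exact Ideal.zero_mem _
      by_cases hl2 : l = 2
      · rw [if_neg hl0, if_pos hl2, map_one, one_mul, hl2, sub_self]
        exact Ideal.zero_mem _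
      · rw [if_neg hl0, if_neg hl2, map_zero, zero_mul, sub_zero]
        exact Ideal.pow_le_pow_right (by omega : 3 ≤ l) (Ideal.pow_mem_pow hϖm l)
    have h7 : algebraMap A (Curv2.cpl A) x₀ * algebraMap A (Curv2.cpl A) y₀ -
        algebraMap A (Curv2.cpl A) (if l = 2 then 1 else 0) * algebraMap S (Curv2.cpl A) ϖ ^ 2 =
        (x * y - algebraMap A (Curv2.cpl A) (if l = 2 then 1 else 0) * algebraMap S (Curv2.cpl A) ϖ ^ 2) -
        (x - algebraMap A (Curv2.cpl A) x₀) * y - (y - algebraMap A (Curv2.cpl A) y₀) * algebraMap A (Curv2.cpl A) x₀ := by ring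
    rw [h7]
    exact sub_mem (sub_mem h6 h4) h5

end K793.NodeApprox
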