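import Groth.Agent.SemiFact.K793.NodeDef
import Groth.Agent.SemiFact.K793.NodeApprox
import Groth.Agent.SemiFact.K793.FibGeom
import Groth.Agent.SemiFact.K793.NodalFib
import Groth.Agent.Sga4h.RegPushFin539
import Groth.Agent.VarietyA.GeomRedSch
import Groth.Agent.Dual.H341.CMSch
import Groth.Agent.CurvesB.DimPts

/-!
# Nodal families over a discrete valuation ring with split singularities: the local rings at nodes
-/

set_option autoImplicit false
universe u

open CategoryTheory CategoryTheory.Limits AlgebraicGeometry IsLocalRing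

namespace K793.NodeFam

section Res

variable (R : Type u) [CommRing R]

theorem stalkHom_comp {X Y : Scheme.{u}} (g : X ⟶ Y) (f : Y ⟶ Spec (CommRingCat.of R)) (z : X) (r : R) :
    DualGr.stalkHom (g ≫ f) z r = (g.stalkMap z).hom (DualGr.stalkHom f (g z) r) := by
  rw [K793.Basic.stalkHom_eq_germ, K793.Basic.stalkHom_eq_germ]
  have h1 := Scheme.Hom.germ_stalkMap_apply g ⊤ z trivial (show Γ(Y, ⊤) from Coh.toGlobal f r)
  refine Eq.trans ?_ h1.symm
  rfl

/-- the map to the residue field at the closed point -/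
noncomputable def resPt [IsLocalRing R] : R →+* (Spec (CommRingCat.of R)).residueField (closedPoint R) :=
  (Scheme.ΓSpecIso ((Spec (CommRingCat.of R)).residueField (closedPoint R))).hom.hom.comp
    (Coh.toGlobal ((Spec (CommRingCat.of R)).fromSpecResidueField (closedPoint R)))

theorem resPt_surjective [IsLocalRing R] : Function.Surjective (resPt R) := by
  have h1 : IsClosed ({(closedPoint R : PrimeSpectrum R)} : Set (PrimeSpectrum R)) := (PrimeSpectrum.isClosed_singleton_iff_isMaximal _).2 (inferInstanceAs (maximalIdeal R).IsMaximal)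
  have h2 : IsClosedImmersion ((Spec (CommRingCat.of R)).fromSpecResidueField (closedPoint R)) :=
    isClosed_singleton_iff_isClosedImmersion.1 h1
  have h3 := (IsClosedImmersion.isAffine_surjective_of_isAffine ((Spec (CommRingCat.of R)).fromSpecResidueField (closedPoint R))).2
  intro c
  obtain ⟨b, hb⟩ := h3 ((Scheme.ΓSpecIso ((Spec (CommRingCat.of R)).residueField (closedPoint R))).inv.hom c)
  refine ⟨(Scheme.ΓSpecIso (CommRingCat.of R)).hom.hom b, ?_⟩
  have h4 : (Scheme.ΓSpecIso (CommRingCat.of R)).inv.hom ((Scheme.ΓSpecIso (CommRingCat.of R)).hom.hom b) = b := by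
    have := ConcreteCategory.congr_hom (Scheme.ΓSpecIso (CommRingCat.of R)).hom_inv_id b
    exact this
  have h5 : (Scheme.ΓSpecIso ((Spec (CommRingCat.of R)).residueField (closedPoint R))).hom.hom
      ((Scheme.ΓSpecIso ((Spec (CommRingCat.of R)).residueField (closedPoint R))).inv.hom c) = c := by
    have := ConcreteCategory.congr_hom (Scheme.ΓSpecIso ((Spec (CommRingCat.of R)).residueField (closedPoint R))).inv_hom_id c
    exact this
  change (Scheme.ΓSpecIso ((Spec (CommRingCat.of R)).residueField (closedPoint R))).hom.hom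
    (((Spec (CommRingCat.of R)).fromSpecResidueField (closedPoint R)).appTop.hom
      ((Scheme.ΓSpecIso (CommRingCat.of R)).inv.hom ((Scheme.ΓSpecIso (CommRingCat.of R)).hom.hom b))) = c
  rw [h4]
  exact (congrArg _ hb).trans h5

theorem toGlobal_fromSpecResidueField [IsLocalRing R] (r : R) :
    Coh.toGlobal ((Spec (CommRingCat.of R)).fromSpecResidueField (closedPoint R)) r =
      (Scheme.ΓSpecIso ((Spec (CommRingCat.of R)).residueField (closedPoint R))).inv.hom (resPt R r) := by
  have := ConcreteCategory.congr_hom (Scheme.ΓSpecIso ((Spec (CommRingCat.of R)).residueField (closedPoint R))).hom_inv_id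
    (Coh.toGlobal ((Spec (CommRingCat.of R)).fromSpecResidueField (closedPoint R)) r)
  exact this.symm

theorem stalkMap_resPt [IsLocalRing R] {F : Scheme.{u}} (g : F ⟶ Spec ((Spec (CommRingCat.of R)).residueField (closedPoint R))) (z : F) (r : R) :
    @Curv2.stalkMap ((Spec (CommRingCat.of R)).residueField (closedPoint R)) _ F ⟨g⟩ z (resPt R r) =
      DualGr.stalkHom (g ≫ (Spec (CommRingCat.of R)).fromSpecResidueField (closedPoint R)) z r := by
  rw [K793.Basic.stalkHom_eq_germ]
  change F.presheaf.germ ⊤ z trivial _ = _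
  congr 1
  change g.appTop.hom ((Scheme.ΓSpecIso ((Spec (CommRingCat.of R)).residueField (closedPoint R))).inv.hom (resPt R r)) =
    (g ≫ (Spec (CommRingCat.of R)).fromSpecResidueField (closedPoint R)).appTop.hom ((Scheme.ΓSpecIso (CommRingCat.of R)).inv.hom r)
  rw [← toGlobal_fromSpecResidueField, Scheme.Hom.comp_appTop]
  rfl

theorem stalkMap_fiberι_stalkHom [IsLocalRing R] {X : Scheme.{u}} (f : X ⟶ Spec (CommRingCat.of R)) (z : f.fiber (closedPoint R)) (r : R) :
    ((f.fiberι (closedPoint R)).stalkMap z).hom (DualGr.stalkHom f (f.fiberι (closedPoint R) z) r) =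
    @Curv2.stalkMap ((Spec (CommRingCat.of R)).residueField (closedPoint R)) _ (f.fiber (closedPoint R)) ⟨f.fiberToSpecResidueField (closedPoint R)⟩ z (resPt R r) := by
  rw [stalkMap_resPt, ← stalkHom_comp, f.fiber_fac (closedPoint R)]

end Res

section Main

variable {R : Type u} [CommRing R] [IsDomain R] [IsDiscreteValuationRing R] {X : Scheme.{u}} (f : X ⟶ Spec (CommRingCat.of R))

theorem isClosed_nonsmooth (hf : Curv2.IsNodalFamily f) (z : f.fiber (closedPoint R))
    (hz : z ∈ DualGr.nonsmoothPts (f.fiberToSpecResidueField (closedPoint R))) : IsClosed ({z} : Set ↥(f.fiber (closedPoint R))) := by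
  obtain ⟨hflat, hlfp, h⟩ := hf
  obtain ⟨hdim, hawn⟩ := h (closedPoint R)
  have hlfp' : LocallyOfFiniteType (f.fiberToSpecResidueField (closedPoint R)) :=
    MorphismProperty.pullback_snd _ _ inferInstance
  have hlfp2 : LocallyOfFinitePresentation (f.fiberToSpecResidueField (closedPoint R)) :=
    MorphismProperty.pullback_snd _ _ inferInstance
  have hgr : GeometricallyReduced (f.fiberToSpecResidueField (closedPoint R)) :=
    (@Groth.Agent.S1589.result ((Spec (CommRingCat.of R)).residueField (closedPoint R)) _ (f.fiber (closedPoint R))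
      ⟨f.fiberToSpecResidueField (closedPoint R)⟩
      (inferInstanceAs (LocallyOfFiniteType (f.fiberToSpecResidueField (closedPoint R)))) hdim hawn).2
  have hN : IsLocallyNoetherian (f.fiber (closedPoint R)) := LocallyOfFiniteType.isLocallyNoetherian (f.fiberToSpecResidueField (closedPoint R))
  have hdense : Dense ((f.fiberToSpecResidueField (closedPoint R)).smoothLocus : Set ↥(f.fiber (closedPoint R))) :=
    Groth.Agent.VarietyA.GeomRedSch.dense_smoothLocus ((Spec (CommRingCat.of R)).residueField (closedPoint R)) (f.fiberToSpecResidueField (closedPoint R))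
  refine Groth.Agent.Sga4h.RegPushFin539.isClosed_singleton (fun s => ?_) (f.fiberToSpecResidueField (closedPoint R)).smoothLocus.ι ?_ z ?_
  · have h1 := Groth.Agent.Dual.H341.CMSch.topologicalKrullDim_le_of_components ↥(f.fiber (closedPoint R)) 1 hdim
    exact (Groth.Agent.CurvesB.DimPts.ringKrullDim_stalk_le s).trans h1
  · have h1 := Scheme.Opens.range_ι (f.fiberToSpecResidueField (closedPoint R)).smoothLocus
    rw [show Set.range (f.fiberToSpecResidueField (closedPoint R)).smoothLocus.ι.base =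
      ((f.fiberToSpecResidueField (closedPoint R)).smoothLocus : Set ↥(f.fiber (closedPoint R))) from h1]
    exact hdense
  · intro h1
    rw [Scheme.Opens.range_ι (f.fiberToSpecResidueField (closedPoint R)).smoothLocus] at h1
    exact hz h1

theorem not_smooth_nhd [LocallyOfFinitePresentation f] (z : f.fiber (closedPoint R))
    (hz : z ∈ DualGr.nonsmoothPts (f.fiberToSpecResidueField (closedPoint R))) :
    ¬ ∃ W : (f.fiber (closedPoint R)).Opens, z ∈ W ∧ Smooth (W.ι ≫ f.fiberToSpecResidueField (closedPoint R)) := by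
  rintro ⟨W, hW, hs⟩
  have hlfp2 : LocallyOfFinitePresentation (f.fiberToSpecResidueField (closedPoint R)) :=
    MorphismProperty.pullback_snd _ _ inferInstance
  have h1 := Scheme.Hom.preimage_smoothLocus_eq W.ι (f.fiberToSpecResidueField (closedPoint R))
  rw [Scheme.Hom.smoothLocus_eq_top (W.ι ≫ f.fiberToSpecResidueField (closedPoint R))] at h1
  have h2 : (⟨z, hW⟩ : W) ∈ W.ι ⁻¹ᵁ (f.fiberToSpecResidueField (closedPoint R)).smoothLocus := by
    rw [h1]; trivial
  exact hz h2

theorem exists_isNode (hf : Curv2.IsNodalFamily f) {ϖ : R} (hϖ : Irreducible ϖ) (z : f.fiber (closedPoint R))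
    (hz : z ∈ DualGr.nonsmoothPts (f.fiberToSpecResidueField (closedPoint R)))
    (hsplit : ∀ y : ↥(f.fiber (IsLocalRing.closedPoint R)), IsClosed ({y} : Set ↥(f.fiber (IsLocalRing.closedPoint R))) →
        (∃ W : (f.fiber (IsLocalRing.closedPoint R)).Opens, y ∈ W ∧ Smooth (W.ι ≫ f.fiberToSpecResidueField (IsLocalRing.closedPoint R))) ∨
        @Curv2.IsOrdDoublePt ((Spec (CommRingCat.of R)).residueField (IsLocalRing.closedPoint R)) _ ((f.fiber (IsLocalRing.closedPoint R)).presheaf.stalk y) _ (@Curv2.stalkAlgebra ((Spec (CommRingCat.of R)).residueField (IsLocalRing.closedPoint R)) _ (f.fiber (IsLocalRing.closedPoint R)) ⟨f.fiberToSpecResidueField (IsLocalRing.closedPoint R)⟩ y) _) :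
    ∃ (_ : IsLocallyNoetherian X) (_ : Algebra (Curv2.cpl R) (Curv2.cpl (X.presheaf.stalk (f.fiberι (closedPoint R) z))))
      (x y : Curv2.cpl (X.presheaf.stalk (f.fiberι (closedPoint R) z))) (a : Curv2.cpl R) (l : ℕ),
      algebraMap (Curv2.cpl R) (Curv2.cpl (X.presheaf.stalk (f.fiberι (closedPoint R) z))) a =
        (if l = 0 then 0 else algebraMap (Curv2.cpl R) (Curv2.cpl (X.presheaf.stalk (f.fiberι (closedPoint R) z))) (algebraMap R (Curv2.cpl R) ϖ) ^ l) ∧
      (∀ r : R, algebraMap (Curv2.cpl R) (Curv2.cpl (X.presheaf.stalk (f.fiberι (closedPoint R) z))) (algebraMap R (Curv2.cpl R) r) =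
        algebraMap (X.presheaf.stalk (f.fiberι (closedPoint R) z)) (Curv2.cpl (X.presheaf.stalk (f.fiberι (closedPoint R) z)))
          (DualGr.stalkHom f (f.fiberι (closedPoint R) z) r)) ∧
      K793.NodeAlg.IsNode (algebraMap R (Curv2.cpl R) ϖ) x y a := by
  have hflat : Flat f := hf.1
  have hlfp : LocallyOfFinitePresentation f := hf.2.1
  have hN : IsLocallyNoetherian X := LocallyOfFiniteType.isLocallyNoetherian f
  refine ⟨hN, ?_⟩
  have h1 := (hsplit z (isClosed_nonsmooth f hf z hz)).resolve_left (not_smooth_nhd f z hz)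
  have hlft : LocallyOfFiniteType (f.fiberToSpecResidueField (closedPoint R)) :=
    MorphismProperty.pullback_snd _ _ inferInstance
  have hNF : IsLocallyNoetherian (f.fiber (closedPoint R)) := LocallyOfFiniteType.isLocallyNoetherian (f.fiberToSpecResidueField (closedPoint R))
  let _alg : Algebra ((Spec (CommRingCat.of R)).residueField (IsLocalRing.closedPoint R)) ((f.fiber (IsLocalRing.closedPoint R)).presheaf.stalk z) :=
    (@Curv2.stalkAlgebra ((Spec (CommRingCat.of R)).residueField (IsLocalRing.closedPoint R)) _ (f.fiber (IsLocalRing.closedPoint R)) ⟨f.fiberToSpecResidueField (IsLocalRing.closedPoint R)⟩ z)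
  refine K793.NodeDef.exists_isNode_of_fibre R (X.presheaf.stalk (f.fiberι (closedPoint R) z)) ((f.fiber (IsLocalRing.closedPoint R)).presheaf.stalk z)
    ((Spec (CommRingCat.of R)).residueField (IsLocalRing.closedPoint R)) (DualGr.stalkHom f (f.fiberι (closedPoint R) z)) hϖ
    (K793.Basic.stalkHom_mem_nonZeroDivisors f _ hϖ.ne_zero) (resPt R) (resPt_surjective R)
    ((f.fiberι (closedPoint R)).stalkMap z).hom (Groth.Agent.CycB.FiberStalk.stalkMap_fiberι_surjective f _ z) ?_ (stalkMap_fiberι_stalkHom R f z)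
    (K793.NodeDef.isCplCross_of_isOrdDoublePt _ _ h1)
  rw [Groth.Agent.CycB.FiberStalk.ker_stalkMap_fiberι, K793.Basic.fibIdeal_eq_span f _ hϖ (Groth.Agent.CycB.FiberStalk.fiberι_mem f _ z)]

theorem exists_nodeData (hf : Curv2.IsNodalFamily f) {ϖ : R} (hϖ : Irreducible ϖ) (z : f.fiber (closedPoint R))
    (hz : z ∈ DualGr.nonsmoothPts (f.fiberToSpecResidueField (closedPoint R)))
    (hsplit : ∀ y : ↥(f.fiber (IsLocalRing.closedPoint R)), IsClosed ({y} : Set ↥(f.fiber (IsLocalRing.closedPoint R))) →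
        (∃ W : (f.fiber (IsLocalRing.closedPoint R)).Opens, y ∈ W ∧ Smooth (W.ι ≫ f.fiberToSpecResidueField (IsLocalRing.closedPoint R))) ∨
        @Curv2.IsOrdDoublePt ((Spec (CommRingCat.of R)).residueField (IsLocalRing.closedPoint R)) _ ((f.fiber (IsLocalRing.closedPoint R)).presheaf.stalk y) _ (@Curv2.stalkAlgebra ((Spec (CommRingCat.of R)).residueField (IsLocalRing.closedPoint R)) _ (f.fiber (IsLocalRing.closedPoint R)) ⟨f.fiberToSpecResidueField (IsLocalRing.closedPoint R)⟩ y) _) :
    ∃ (l : ℕ) (p₁ p₂ : Ideal (X.presheaf.stalk (f.fiberι (closedPoint R) z))),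
      K793.NodeMin.NodeData (DualGr.stalkHom f (f.fiberι (closedPoint R) z) ϖ) l p₁ p₂ := by
  obtain ⟨hN, alg, x, y, a, l, ha, hπ, hn⟩ := exists_isNode f hf hϖ z hz hsplit
  obtain ⟨hd, hdvr⟩ := K793.NodeThick.isDiscreteValuationRing_cpl R
  have hN' : IsNoetherianRing (Curv2.cpl (X.presheaf.stalk (f.fiberι (closedPoint R) z))) := Groth.Agent.Ega4A.CplQuot.isNoetherianRing_cpl _
  have hF : Module.FaithfullyFlat (X.presheaf.stalk (f.fiberι (closedPoint R) z)) (Curv2.cpl (X.presheaf.stalk (f.fiberι (closedPoint R) z))) :=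
    Groth.Agent.Ega4A.CplQuot.faithfullyFlat_cpl _
  have hϖ' := K793.NodeThick.irreducible_cpl R hϖ
  have hc : IsAdicComplete (Ideal.span {algebraMap R (Curv2.cpl R) ϖ}) (Curv2.cpl R) := by
    rw [← hϖ'.maximalIdeal_eq]
    infer_instance
  exact ⟨l, _, _, K793.NodeMin.nodeData_of_isNode hn (hπ ϖ).symm hϖ' ha⟩

theorem exists_approx (hf : Curv2.IsNodalFamily f) {ϖ : R} (hϖ : Irreducible ϖ) (z : f.fiber (closedPoint R))
    (hreg : ¬ IsRegularLocalRing (X.presheaf.stalk (f.fiberι (closedPoint R) z)))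
    (hsplit : ∀ y : ↥(f.fiber (IsLocalRing.closedPoint R)), IsClosed ({y} : Set ↥(f.fiber (IsLocalRing.closedPoint R))) →
        (∃ W : (f.fiber (IsLocalRing.closedPoint R)).Opens, y ∈ W ∧ Smooth (W.ι ≫ f.fiberToSpecResidueField (IsLocalRing.closedPoint R))) ∨
        @Curv2.IsOrdDoublePt ((Spec (CommRingCat.of R)).residueField (IsLocalRing.closedPoint R)) _ ((f.fiber (IsLocalRing.closedPoint R)).presheaf.stalk y) _ (@Curv2.stalkAlgebra ((Spec (CommRingCat.of R)).residueField (IsLocalRing.closedPoint R)) _ (f.fiber (IsLocalRing.closedPoint R)) ⟨f.fiberToSpecResidueField (IsLocalRing.closedPoint R)⟩ y) _) :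
    (∃ x y ε : X.presheaf.stalk (f.fiberι (closedPoint R) z), maximalIdeal (X.presheaf.stalk (f.fiberι (closedPoint R) z)) =
        Ideal.span {x, y, DualGr.stalkHom f (f.fiberι (closedPoint R) z) ϖ} ∧
      x * y - ε * DualGr.stalkHom f (f.fiberι (closedPoint R) z) ϖ ^ 2 ∈ maximalIdeal (X.presheaf.stalk (f.fiberι (closedPoint R) z)) ^ 3) ∧
    ∀ a : X.presheaf.stalk (f.fiberι (closedPoint R) z), ∃ r : R,
      a - DualGr.stalkHom f (f.fiberι (closedPoint R) z) r ∈ maximalIdeal (X.presheaf.stalk (f.fiberι (closedPoint R) z)) := by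
  have hflat : Flat f := hf.1
  have hlfp : LocallyOfFinitePresentation f := hf.2.1
  have hz : z ∈ DualGr.nonsmoothPts (f.fiberToSpecResidueField (closedPoint R)) := by
    by_contra hz
    exact hreg (K793.FibGeom.isRegularLocalRing_of_smooth z hz)
  obtain ⟨hN, alg, x, y, a, l, ha, hπ, hn⟩ := exists_isNode f hf hϖ z hz hsplit
  have hF : Module.FaithfullyFlat (X.presheaf.stalk (f.fiberι (closedPoint R) z)) (Curv2.cpl (X.presheaf.stalk (f.fiberι (closedPoint R) z))) :=
    Groth.Agent.Ega4A.CplQuot.faithfullyFlat_cpl _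
  obtain ⟨hd, hdvr⟩ := K793.NodeThick.isDiscreteValuationRing_cpl R
  refine ⟨K793.NodeApprox.exists_approx hn (hπ ϖ) ha hreg, fun t => ?_⟩
  obtain ⟨s, hs⟩ := hn.surj (algebraMap _ _ t)
  obtain ⟨r, hr⟩ := K793.NodeDef.exists_sub_mem_pow R 1 s
  rw [pow_one, (K793.NodeThick.irreducible_cpl R hϖ).maximalIdeal_eq] at hr
  refine ⟨r, ?_⟩
  obtain ⟨w, hw⟩ := Ideal.mem_span_singleton'.1 hr
  have h1 : algebraMap (Curv2.cpl R) (Curv2.cpl (X.presheaf.stalk (f.fiberι (closedPoint R) z))) (s - algebraMap R (Curv2.cpl R) r) ∈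
      maximalIdeal (Curv2.cpl (X.presheaf.stalk (f.fiberι (closedPoint R) z))) := by
    rw [← hw, map_mul]
    apply Ideal.mul_mem_left
    rw [hn.max]
    exact Ideal.subset_span (by simp)
  have h2 := add_mem hs h1
  rw [map_sub, sub_add_sub_cancel, hπ, ← map_sub] at h2
  intro hu
  exact h2 (hu.map _)

end Main

end K793.NodeFam
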