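import Groth.Agent.S1658
import Groth.Agent.CalgB.ProjField
import Groth.Agent.Grpsch.PicGrp
import Groth.Agent.Dix.IdealModCartier
import Groth.Prelude.Def_Formal2

/-!
# Surjectivity of the restriction on Picard groups from the extension of effective Cartier divisors
-/

set_option autoImplicit false
universe u
open CategoryTheory CategoryTheory.Limits AlgebraicGeometry

namespace K793.PicSurj

open Groth.Agent.Grpsch.PicGrp Groth.Agent.Dix.IdealModCartier

theorem exists_mk_eq {Y : Scheme.{u}} [IsNoetherian Y] (hample : ∃ L : Y.Modules, CohB1.IsAmple L) (c : Pic Y) (E : Set Y) (hE : E.Finite) :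
    ∃ (D D' : Y.IdealSheafData) (hD : BlowUp.IsEffCartierIdeal D) (hD' : BlowUp.IsEffCartierIdeal D'),
      Disjoint E (D.support : Set Y) ∧ Disjoint E (D'.support : Set Y) ∧
      c = mk (ClSub.idealMod D') (isInvertible_idealMod hD') * (mk (ClSub.idealMod D) (isInvertible_idealMod hD))⁻¹ := by
  obtain ⟨L, hL⟩ := hample
  obtain ⟨N, hN, rfl⟩ := exists_mk c
  obtain ⟨D, D', hD, hD', h1, h2, ⟨e⟩⟩ := Groth.Agent.S1658.result Y L hL N hN E hE
  refine ⟨D, D', hD, hD', h1, h2, ?_⟩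
  rw [eq_mul_inv_iff_mul_eq, mk_mul_mk]
  exact mk_congr e

theorem surjective_of_pull {X Y : Scheme.{u}} (j : Y ⟶ X) (h : ∀ c : Pic Y, ∃ d : Pic X, pull j d = c) :
    Formal2.PicPullbackSurjective j := by
  intro L' hL'
  obtain ⟨d, hd⟩ := h (mk L' hL')
  obtain ⟨L, hL, rfl⟩ := exists_mk d
  rw [pull_mk, mk_eq_iff] at hd
  exact ⟨L, hL, hd⟩

theorem pull_idealMod {X Y : Scheme.{u}} (j : Y ⟶ X) {J : X.IdealSheafData} (hJ : BlowUp.IsEffCartierIdeal J)
    {D : Y.IdealSheafData} (hD : BlowUp.IsEffCartierIdeal D) (h : J.comap j = D) :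
    pull j (mk (ClSub.idealMod J) (isInvertible_idealMod hJ)) = mk (ClSub.idealMod D) (isInvertible_idealMod hD) := by
  subst h
  obtain ⟨e⟩ := pullback_idealMod j hJ hD
  rw [pull_mk]
  exact mk_congr e

theorem picPullbackSurjective {X Y : Scheme.{u}} [IsNoetherian Y] (j : Y ⟶ X) (hample : ∃ L : Y.Modules, CohB1.IsAmple L)
    (h : ∀ D : Y.IdealSheafData, BlowUp.IsEffCartierIdeal D → ∃ J : X.IdealSheafData, BlowUp.IsEffCartierIdeal J ∧ J.comap j = D) :
    Formal2.PicPullbackSurjective j := by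
  refine surjective_of_pull j fun c => ?_
  obtain ⟨D, D', hD, hD', -, -, rfl⟩ := exists_mk_eq hample c ∅ Set.finite_empty
  obtain ⟨J, hJ, hJD⟩ := h D hD
  obtain ⟨J', hJ', hJD'⟩ := h D' hD'
  refine ⟨mk (ClSub.idealMod J') (isInvertible_idealMod hJ') * (mk (ClSub.idealMod J) (isInvertible_idealMod hJ))⁻¹, ?_⟩
  rw [map_mul, map_inv, pull_idealMod j hJ hD hJD, pull_idealMod j hJ' hD' hJD']

end K793.PicSurj
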