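import Groth.Agent.SemiFact.K793.BlGeom
import Groth.Agent.SemiFact.K793.BlCross
import Groth.Agent.SemiFact.K793.BlowNodal
import Groth.Agent.SemiFact.K793.NodeFam
import Groth.Agent.CohqB.DiscSupp
import Groth.Agent.SemiFact.K793.PicSurj
import Groth.Agent.S2821

/-!
# Blowing up the nonregular points of the special fibre
-/

set_option autoImplicit false
universe u

open CategoryTheory CategoryTheory.Limits AlgebraicGeometry IsLocalRing BlowUp Opposite TopologicalSpace

namespace K793.BlMain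

open Groth.Agent.Divis.CartierBasic Groth.Agent.Divis.CartierStalk K793.BlAlg K793.BlGeom

section Van

variable {X : Scheme.{u}} {Z : Set X} (hfin : Z.Finite) (hcl : ∀ z ∈ Z, IsClosed ({z} : Set X)) (hZ : IsClosed Z)

include hfin hcl in
theorem isClosed_diff (z : X) : IsClosed (Z \ {z}) := by
  rw [← Set.biUnion_of_singleton (Z \ {z})]
  exact (hfin.subset Set.sdiff_subset).isClosed_biUnion fun w hw => hcl w hw.1

include hfin hcl in
theorem stalkIdeal_vanishingIdeal (z : X) (hz : z ∈ Z) :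
    stalkIdeal (Scheme.IdealSheafData.vanishingIdeal ⟨Z, hZ⟩) z = maximalIdeal (X.presheaf.stalk z) := by
  obtain ⟨U, hU, hzU, hle⟩ := exists_isAffineOpen_mem_and_subset (X := X) (x := z)
    (U := ⟨(Z \ {z})ᶜ, (isClosed_diff hfin hcl z).isOpen_compl⟩) (fun h => h.2 rfl)
  have hUZ : ∀ w ∈ U, w ∈ Z → w = z := by
    intro w hw hwZ
    by_contra hne
    exact hle hw ⟨hwZ, hne⟩
  let _alg := X.presheaf.algebra_section_stalk (⟨z, hzU⟩ : U)
  have hloc := hU.isLocalization_stalk ⟨z, hzU⟩
  have h1 : (hU.fromSpec ⁻¹' Z : Set (PrimeSpectrum Γ(X, U))) = {hU.primeIdealOf ⟨z, hzU⟩} := by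
    ext (q : Spec Γ(X, U))
    change hU.fromSpec q ∈ Z ↔ q = hU.primeIdealOf ⟨z, hzU⟩
    constructor
    · intro hq
      apply hU.fromSpec.isOpenEmbedding.injective
      rw [hU.fromSpec_primeIdealOf]
      refine hUZ _ ?_ hq
      have h2 : hU.fromSpec q ∈ Set.range hU.fromSpec := ⟨q, rfl⟩
      rw [hU.range_fromSpec] at h2
      exact h2
    · rintro rfl
      rw [hU.fromSpec_primeIdealOf]
      exact hz
  rw [stalkIdeal_eq _ ⟨U, hU⟩ hzU, Scheme.IdealSheafData.vanishingIdeal_ideal]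
  refine (congrArg (fun S => Ideal.map (algebraMap Γ(X, U) (X.presheaf.stalk z)) (PrimeSpectrum.vanishingIdeal S)) h1).trans ?_
  rw [PrimeSpectrum.vanishingIdeal_singleton]
  exact IsLocalization.AtPrime.map_eq_maximalIdeal (hU.primeIdealOf ⟨z, hzU⟩).asIdeal _

theorem stalkIdeal_vanishingIdeal_notMem (z : X) (hz : z ∉ Z) :
    stalkIdeal (Scheme.IdealSheafData.vanishingIdeal ⟨Z, hZ⟩) z = ⊤ := by
  rw [← notMem_support_iff_stalkIdeal_eq_top, ← SetLike.mem_coe, Scheme.IdealSheafData.coe_support_vanishingIdeal]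
  exact hz

end Van

section Nodal

variable (R : Type u) [CommRing R] [IsDomain R] [IsDiscreteValuationRing R] {X X' : Scheme.{u}}

theorem isNodalFamily_blowUp (f : X ⟶ Spec (CommRingCat.of R)) [IsLocallyNoetherian X]
    (hf : Curv2.IsNodalFamily f) {Z : Set X} (hfin : Z.Finite) (hcl : ∀ z ∈ Z, IsClosed ({z} : Set X)) (hZ : IsClosed Z)
    (hx : ∀ z ∈ Z, f z = (closedPoint R : PrimeSpectrum R)) (hreg : ∀ z ∈ Z, ¬ IsRegularLocalRing (X.presheaf.stalk z))
    (b : X' ⟶ X) (hb : BlowUp.IsBlowUp b (Scheme.IdealSheafData.vanishingIdeal ⟨Z, hZ⟩)) :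
    Curv2.IsNodalFamily (b ≫ f) := by
  apply K793.Chart.isNodalFamily_of_forall
  intro x'
  by_cases h : b x' ∈ Z
  · let U : X.Opens := ⟨(Z \ {b x'})ᶜ, (isClosed_diff hfin hcl (b x')).isOpen_compl⟩
    have hxU : b x' ∈ U := fun h => h.2 rfl
    let z' : U.toScheme := ⟨b x', hxU⟩
    have hz' : U.ι z' = b x' := rfl
    have hzc : IsClosed ({z'} : Set U.toScheme) := by
      have h1 : ({z'} : Set U.toScheme) = U.ι ⁻¹' {b x'} := by
        ext w
        simp only [Set.mem_singleton_iff, Set.mem_preimage]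
        rw [← hz']
        exact ⟨fun h => h ▸ rfl, fun h => U.ι.isOpenEmbedding.injective h⟩
      rw [h1]
      exact (hcl _ h).preimage U.ι.continuous
    have hbU := Groth.Agent.Divis.BlowUpFormal.isBlowUp_morphismRestrict hb U
    have hid : (Scheme.IdealSheafData.vanishingIdeal ⟨Z, hZ⟩).comap U.ι = Scheme.IdealSheafData.vanishingIdeal ⟨{z'}, hzc⟩ := by
      apply ext_stalkIdeal
      intro w
      rw [stalkIdeal_comap]
      by_cases hw : w = z'
      · subst hw
        rw [stalkIdeal_vanishingIdeal hfin hcl hZ (U.ι z') h, stalkIdeal_vanishingIdeal (Set.finite_singleton z')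
          (fun t ht => by rw [Set.mem_singleton_iff.1 ht]; exact hzc) hzc z' rfl]
        have hbij : Function.Bijective (U.ι.stalkMap z').hom := (asIso (U.ι.stalkMap z')).commRingCatIsoToRingEquiv.bijective
        exact IsLocalRing.map_ringEquiv_maximalIdeal (RingEquiv.ofBijective _ hbij)
      · rw [stalkIdeal_vanishingIdeal_notMem hZ, stalkIdeal_vanishingIdeal_notMem hzc _ hw, Ideal.map_top]
        intro hwZ
        apply hw
        apply U.ι.isOpenEmbedding.injective
        by_contra hne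
        exact w.2 ⟨hwZ, hne⟩
    rw [hid] at hbU
    have hN : IsLocallyNoetherian U.toScheme := isLocallyNoetherian_of_isOpenImmersion U.ι
    have hn := K793.Chart.isNodalFamily_blowUp R (U.ι ≫ f) (Groth.Agent.S1592.result f hf U.ι) z' (by
      rw [Scheme.Hom.comp_apply, hz']
      exact hx _ h) hzc (fun hr => hreg _ h (IsRegularLocalRing.of_ringEquiv (asIso (U.ι.stalkMap z')).commRingCatIsoToRingEquiv.symm))
      (b ∣_ U) hbU
    refine ⟨_, (b ⁻¹ᵁ U).ι, inferInstance, ?_, ?_⟩
    · rw [Scheme.Opens.range_ι]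
      exact hxU
    · rw [← Category.assoc, ← morphismRestrict_ι, Category.assoc]
      exact hn
  · let I := Scheme.IdealSheafData.vanishingIdeal (X := X) ⟨Z, hZ⟩
    obtain ⟨r, hr, hrb⟩ := Groth.Agent.Ega2.BlowBasic.exists_isIso_offSupport hb
    refine ⟨_, (Groth.Agent.Ega2.BlowBasic.offSupport (I.comap b)).ι, inferInstance, ?_, ?_⟩
    · rw [Scheme.Opens.range_ι]
      change x' ∉ (I.comap b).support
      rw [Scheme.IdealSheafData.support_comap]
      change b x' ∉ I.support
      rw [← SetLike.mem_coe, Scheme.IdealSheafData.coe_support_vanishingIdeal]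
      exact h
    · rw [← Category.assoc, ← hrb, Category.assoc]
      exact Groth.Agent.S1592.result _ (Groth.Agent.S1592.result f hf _) r

end Nodal

section Fib

variable {R : Type u} [CommRing R] [IsDomain R] [IsDiscreteValuationRing R] {X : Scheme.{u}} (f : X ⟶ Spec (CommRingCat.of R))

theorem isClosedImmersion_fiberι : IsClosedImmersion (f.fiberι (closedPoint R)) := by
  have h1 : IsClosed ({(closedPoint R : PrimeSpectrum R)} : Set (PrimeSpectrum R)) :=
    (PrimeSpectrum.isClosed_singleton_iff_isMaximal _).2 (inferInstanceAs (maximalIdeal R).IsMaximal)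
  have h2 : IsClosedImmersion ((Spec (CommRingCat.of R)).fromSpecResidueField (closedPoint R)) :=
    isClosed_singleton_iff_isClosedImmersion.1 h1
  exact MorphismProperty.pullback_fst _ _ h2

theorem noetherianSpace_fiber [LocallyOfFiniteType f] [QuasiCompact f] : TopologicalSpace.NoetherianSpace ↥(f.fiber (closedPoint R)) := by
  have hlft : LocallyOfFiniteType (f.fiberToSpecResidueField (closedPoint R)) :=
    MorphismProperty.pullback_snd _ _ inferInstance
  have hqc : QuasiCompact (f.fiberToSpecResidueField (closedPoint R)) :=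
    MorphismProperty.pullback_snd _ _ inferInstance
  have hNF : IsLocallyNoetherian (f.fiber (closedPoint R)) := LocallyOfFiniteType.isLocallyNoetherian (f.fiberToSpecResidueField (closedPoint R))
  have hc : CompactSpace ↥(f.fiber (closedPoint R)) := QuasiCompact.compactSpace_of_compactSpace (f.fiberToSpecResidueField (closedPoint R))
  have : IsNoetherian (f.fiber (closedPoint R)) := { }
  infer_instance

theorem exists_genPts_fin [LocallyOfFiniteType f] [QuasiCompact f] : ∃ (n : ℕ) (η : Fin n → X), K793.FibGeom.IsGenPts f η := by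
  have hN := noetherianSpace_fiber f
  have hemb := (f.fiberι (closedPoint R)).isEmbedding
  have hfin : (irreducibleComponents ↥(f.fiber (closedPoint R))).Finite := TopologicalSpace.NoetherianSpace.finite_irreducibleComponents
  have hF : Finite (irreducibleComponents ↥(f.fiber (closedPoint R))) := hfin
  obtain ⟨n, ⟨e⟩⟩ := Finite.exists_equiv_fin (irreducibleComponents ↥(f.fiber (closedPoint R)))
  let cv : Fin n → Set ↥(f.fiber (closedPoint R)) := fun i => (e.symm i).1
  have hcm : ∀ v, cv v ∈ irreducibleComponents ↥(f.fiber (closedPoint R)) := fun v => (e.symm v).2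
  have hcl : ∀ v, IsClosed (cv v) := fun v => isClosed_of_mem_irreducibleComponents _ (hcm v)
  have hgp : ∀ v, ∃ z, closure {z} = cv v := fun v => by
    obtain ⟨z, hz⟩ := QuasiSober.sober (hcm v).1 (hcl v)
    exact ⟨z, hz⟩
  choose ζ hζ using hgp
  have hkey : ∀ (v) (z : f.fiber (closedPoint R)), z ∈ cv v ↔ f.fiberι (closedPoint R) (ζ v) ⤳ f.fiberι (closedPoint R) z := by
    intro v z
    rw [hemb.isInducing.specializes_iff, specializes_iff_mem_closure, hζ]
  refine ⟨n, fun v => f.fiberι (closedPoint R) (ζ v), ⟨?_, ?_, ?_⟩⟩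
  · intro v
    exact Groth.Agent.CycB.FiberStalk.fiberι_mem f (closedPoint R) (ζ v)
  · intro x hx
    obtain ⟨z, rfl⟩ := Basic.exists_fiber_point f x hx
    refine ⟨e ⟨_, irreducibleComponent_mem_irreducibleComponents z⟩, (hkey _ z).1 ?_⟩
    change z ∈ (e.symm (e _)).1
    rw [Equiv.symm_apply_apply]
    exact mem_irreducibleComponent
  · intro v w hvw
    have h1 : ζ w ∈ cv v := (hkey v (ζ w)).2 hvw
    have h2 : cv w ⊆ cv v := by
      rw [← hζ w]
      exact closure_minimal (Set.singleton_subset_iff.2 h1) (hcl v)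
    have h3 : cv v ⊆ cv w := (hcm w).2 (hcm v).1 h2
    exact e.symm.injective (Subtype.ext (subset_antisymm h3 h2))

variable {f}

theorem exists_ends {V : Type} {η : V → X} (hη : K793.FibGeom.IsGenPts f η) {ϖ : R} (hϖ : Irreducible ϖ) {x : X} {l : ℕ}
    {p₁ p₂ : Ideal (X.presheaf.stalk x)} (hd : K793.NodeMin.NodeData (DualGr.stalkHom f x ϖ) l p₁ p₂) :
    ∃ (a b : V) (ha : η a ⤳ x) (hb : η b ⤳ x), p₁ = (Groth.Agent.CycB.LocQuot.primeOf ha).asIdeal ∧
      p₂ = (Groth.Agent.CycB.LocQuot.primeOf hb).asIdeal := by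
  have h1 := hη.minimalPrimes_eq hϖ x
  have h2 : p₁ ∈ (Ideal.span {DualGr.stalkHom f x ϖ}).minimalPrimes := by rw [hd.min]; simp
  have h3 : p₂ ∈ (Ideal.span {DualGr.stalkHom f x ϖ}).minimalPrimes := by rw [hd.min]; simp
  rw [h1] at h2 h3
  obtain ⟨a, ha, h2⟩ := h2
  obtain ⟨b, hb, h3⟩ := h3
  exact ⟨a, b, ha, hb, h2, h3⟩

variable (f)

/-- the nonregular points of the special fibre are finitely many closed points -/
theorem nonreg_finite [IsProper f] (hf : Curv2.IsNodalFamily f) :
    {x : X | f x = (closedPoint R : PrimeSpectrum R) ∧ ¬ IsRegularLocalRing (X.presheaf.stalk x)}.Finite ∧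
    ∀ x ∈ {x : X | f x = (closedPoint R : PrimeSpectrum R) ∧ ¬ IsRegularLocalRing (X.presheaf.stalk x)}, IsClosed ({x} : Set X) := by
  have hflat : Flat f := hf.1
  have hlfp : LocallyOfFinitePresentation f := hf.2.1
  have hN := noetherianSpace_fiber f
  have hcli := isClosedImmersion_fiberι f
  have hlfp2 : LocallyOfFinitePresentation (f.fiberToSpecResidueField (closedPoint R)) :=
    MorphismProperty.pullback_snd _ _ inferInstance
  have hcl : IsClosed (DualGr.nonsmoothPts (f.fiberToSpecResidueField (closedPoint R))) :=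
    (f.fiberToSpecResidueField (closedPoint R)).smoothLocus.isOpen.isClosed_compl
  have hfin := Groth.Agent.CohqB.DiscSupp.finite_of_isClosed_points _ hcl fun z hz => K793.NodeFam.isClosed_nonsmooth f hf z hz
  have hsub : {x : X | f x = (closedPoint R : PrimeSpectrum R) ∧ ¬ IsRegularLocalRing (X.presheaf.stalk x)} ⊆
      f.fiberι (closedPoint R) '' DualGr.nonsmoothPts (f.fiberToSpecResidueField (closedPoint R)) := by
    rintro x ⟨hx, hr⟩
    obtain ⟨z, rfl⟩ := K793.Basic.exists_fiber_point f x hx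
    refine ⟨z, ?_, rfl⟩
    by_contra hz
    exact hr (K793.FibGeom.isRegularLocalRing_of_smooth z hz)
  refine ⟨(hfin.image _).subset hsub, fun x hx => ?_⟩
  obtain ⟨z, hz, rfl⟩ := hsub hx
  have h1 := (f.fiberι (closedPoint R)).isClosedEmbedding.isClosedMap _ (K793.NodeFam.isClosed_nonsmooth f hf z hz)
  rwa [Set.image_singleton] at h1

end Fib

section Pt

variable {R : Type u} [CommRing R] [IsDomain R] [IsDiscreteValuationRing R] {X X' : Scheme.{u}} (f : X ⟶ Spec (CommRingCat.of R))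
  (b : X' ⟶ X)

omit [IsDomain R] [IsDiscreteValuationRing R] in
theorem stk_stalkHom (x' : X') (z : X) (hz : b x' = z) (r : R) : stk b x' z hz (DualGr.stalkHom f z r) = DualGr.stalkHom (b ≫ f) x' r := by
  subst hz
  rw [stk_self, K793.NodeFam.stalkHom_comp]

theorem isLocalHom_stk (x' : X') (z : X) (hz : b x' = z) : IsLocalHom (stk b x' z hz) := by
  subst hz
  rw [stk_self]
  infer_instance

/-- a nonregular point of the blow-up is the origin of the last chart -/
theorem exists_origin [IsLocallyNoetherian X'] [Flat (b ≫ f)] [IsReduced ((b ≫ f).fiber (closedPoint R))] (J : X.IdealSheafData)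
    (hb : IsBlowUp b J) {ϖ : R} (hϖ : Irreducible ϖ) (z : X) (hJ : stalkIdeal J z = maximalIdeal (X.presheaf.stalk z))
    {x y ε : X.presheaf.stalk z} (hm : maximalIdeal (X.presheaf.stalk z) = Ideal.span {x, y, DualGr.stalkHom f z ϖ})
    (hxy : x * y - ε * DualGr.stalkHom f z ϖ ^ 2 ∈ maximalIdeal (X.presheaf.stalk z) ^ 3)
    (hfz : f z = (closedPoint R : PrimeSpectrum R)) (x' : X') (hz : b x' = z) (hreg : ¬ IsRegularLocalRing (X'.presheaf.stalk x')) :
    ∃ u v, IsOrigin (stk b x' z hz) x y (DualGr.stalkHom f z ϖ) u v := by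
  have hl := isLocalHom_stk b x' z hz
  have hbl := isBlStalk b J hb x' z hz
  rw [hJ] at hbl
  have hfx : (b ≫ f) x' = (closedPoint R : PrimeSpectrum R) := by
    rw [Scheme.Hom.comp_apply, hz, hfz]
  refine exists_isOrigin (ε := ε) hbl hm hxy ?_ ?_ hreg
  · rw [stk_stalkHom]
    exact K793.Basic.stalkHom_mem_nonZeroDivisors (b ≫ f) x' hϖ.ne_zero
  · rw [stk_stalkHom]
    have hr := K793.Basic.isReduced_quot (b ≫ f) x' hϖ hfx
    exact (Ideal.isRadical_iff_quotient_reduced _).2 hr

theorem exists_nodeData_of_origin [IsLocallyNoetherian X'] [LocallyOfFiniteType (b ≫ f)] [Flat (b ≫ f)] [IsReduced ((b ≫ f).fiber (closedPoint R))]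
    {ϖ : R} (hϖ : Irreducible ϖ) {z : X} {x y : X.presheaf.stalk z}
    (hres : ∀ a : X.presheaf.stalk z, ∃ r : R, a - DualGr.stalkHom f z r ∈ maximalIdeal (X.presheaf.stalk z))
    (hfz : f z = (closedPoint R : PrimeSpectrum R)) (x' : X') (hz : b x' = z) {u v : X'.presheaf.stalk x'}
    (ho : IsOrigin (stk b x' z hz) x y (DualGr.stalkHom f z ϖ) u v) (hreg : ¬ IsRegularLocalRing (X'.presheaf.stalk x')) :
    ∃ (l : ℕ) (p₁ p₂ : Ideal (X'.presheaf.stalk x')), K793.NodeMin.NodeData (DualGr.stalkHom (b ≫ f) x' ϖ) l p₁ p₂ ∧ p₁ ≠ p₂ := by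
  have hfx : (b ≫ f) x' = (closedPoint R : PrimeSpectrum R) := by
    rw [Scheme.Hom.comp_apply, hz, hfz]
  obtain ⟨w, hw⟩ := K793.Basic.exists_fiber_point (b ≫ f) x' hfx
  subst hw
  have hlft : LocallyOfFiniteType ((b ≫ f).fiberToSpecResidueField (closedPoint R)) :=
    MorphismProperty.pullback_snd _ _ inferInstance
  have hNF : IsLocallyNoetherian ((b ≫ f).fiber (closedPoint R)) := LocallyOfFiniteType.isLocallyNoetherian ((b ≫ f).fiberToSpecResidueField (closedPoint R))
  have hl := isLocalHom_stk b _ z hz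
  let _alg : Algebra ((Spec (CommRingCat.of R)).residueField (IsLocalRing.closedPoint R)) (((b ≫ f).fiber (IsLocalRing.closedPoint R)).presheaf.stalk w) :=
    (@Curv2.stalkAlgebra ((Spec (CommRingCat.of R)).residueField (IsLocalRing.closedPoint R)) _ ((b ≫ f).fiber (IsLocalRing.closedPoint R))
      ⟨(b ≫ f).fiberToSpecResidueField (IsLocalRing.closedPoint R)⟩ w)
  have hπ0 := K793.Basic.stalkHom_mem_nonZeroDivisors (b ≫ f) ((b ≫ f).fiberι (closedPoint R) w) hϖ.ne_zero
  have hker : RingHom.ker (((b ≫ f).fiberι (closedPoint R)).stalkMap w).hom =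
      Ideal.span {DualGr.stalkHom (b ≫ f) ((b ≫ f).fiberι (closedPoint R) w) ϖ} := by
    rw [Groth.Agent.CycB.FiberStalk.ker_stalkMap_fiberι, K793.Basic.fibIdeal_eq_span (b ≫ f) _ hϖ (Groth.Agent.CycB.FiberStalk.fiberι_mem (b ≫ f) _ w)]
  have hsurj := Groth.Agent.CycB.FiberStalk.stalkMap_fiberι_surjective (b ≫ f) _ w
  have hcross := K793.BlCross.isCross_of_isOrigin (K := (Spec (CommRingCat.of R)).residueField (IsLocalRing.closedPoint R))
    (stk b _ z hz) ho (by rw [stk_stalkHom]; exact hπ0) hreg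
    (((b ≫ f).fiberι (closedPoint R)).stalkMap w).hom hsurj (by rw [stk_stalkHom]; exact hker) inferInstance (fun q => by
      obtain ⟨s, rfl⟩ := hsurj q
      obtain ⟨a, ha⟩ := ho.surj s
      obtain ⟨r, hr⟩ := hres a
      refine ⟨K793.NodeFam.resPt R r, ?_⟩
      have h1 : stk b _ z hz (a - DualGr.stalkHom f z r) ∈ maximalIdeal _ := fun hu => hr (isUnit_of_map_unit _ _ hu)
      have h2 := add_mem ha h1
      rw [map_sub, sub_add_sub_cancel, stk_stalkHom] at h2
      have h3 : (((b ≫ f).fiberι (closedPoint R)).stalkMap w).hom (s - DualGr.stalkHom (b ≫ f) ((b ≫ f).fiberι (closedPoint R) w) r) ∈ maximalIdeal _ :=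
        fun hu => h2 (isUnit_of_map_unit _ _ hu)
      rw [map_sub, K793.NodeFam.stalkMap_fiberι_stalkHom R (b ≫ f) w r] at h3
      exact h3)
  obtain ⟨l, p₁, p₂, hd⟩ := K793.NodeDef.exists_nodeData_of_fibre R (X'.presheaf.stalk ((b ≫ f).fiberι (closedPoint R) w))
    (((b ≫ f).fiber (IsLocalRing.closedPoint R)).presheaf.stalk w) ((Spec (CommRingCat.of R)).residueField (IsLocalRing.closedPoint R))
    (DualGr.stalkHom (b ≫ f) ((b ≫ f).fiberι (closedPoint R) w)) hϖ hπ0 (K793.NodeFam.resPt R) (K793.NodeFam.resPt_surjective R)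
    (((b ≫ f).fiberι (closedPoint R)).stalkMap w).hom hsurj hker (K793.NodeFam.stalkMap_fiberι_stalkHom R (b ≫ f) w)
    (K793.NodeDef.isCplCross_of_isCross _ _ hcross)
  exact ⟨l, p₁, p₂, hd, K793.BlCross.ne_of_isCross hd _ hsurj hker hcross⟩

end Pt

section Final

variable (R : Type u) [CommRing R] [IsDomain R] [IsDiscreteValuationRing R] {X X' : Scheme.{u}} (f : X ⟶ Spec (CommRingCat.of R))
  [IsProper f] (b : X' ⟶ X)

theorem regular_of_notMem {J : X.IdealSheafData} (hb : IsBlowUp b J) (x' : X') (h : b x' ∉ J.support)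
    (hreg : IsRegularLocalRing (X.presheaf.stalk (b x'))) : IsRegularLocalRing (X'.presheaf.stalk x') := by
  have hoi := Groth.Agent.Ega2.BlowBasic.isOpenImmersion_offSupport hb
  have hmem : x' ∈ Groth.Agent.Ega2.BlowBasic.offSupport (J.comap b) := by
    change x' ∉ (J.comap b).support
    rw [Scheme.IdealSheafData.support_comap]
    exact h
  let p : (Groth.Agent.Ega2.BlowBasic.offSupport (J.comap b)).toScheme := ⟨x', hmem⟩
  have h1 : IsRegularLocalRing ((Groth.Agent.Ega2.BlowBasic.offSupport (J.comap b)).toScheme.presheaf.stalk p) :=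
    IsRegularLocalRing.of_ringEquiv (R := X.presheaf.stalk (b x'))
      (asIso (((Groth.Agent.Ega2.BlowBasic.offSupport (J.comap b)).ι ≫ b).stalkMap p)).commRingCatIsoToRingEquiv
  exact IsRegularLocalRing.of_ringEquiv (asIso ((Groth.Agent.Ega2.BlowBasic.offSupport (J.comap b)).ι.stalkMap p)).commRingCatIsoToRingEquiv.symm

theorem main (hf : Curv2.IsNodalFamily f)
    (hsplit : ∀ y : ↥(f.fiber (IsLocalRing.closedPoint R)), IsClosed ({y} : Set ↥(f.fiber (IsLocalRing.closedPoint R))) →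
        (∃ V : (f.fiber (IsLocalRing.closedPoint R)).Opens, y ∈ V ∧ Smooth (V.ι ≫ f.fiberToSpecResidueField (IsLocalRing.closedPoint R))) ∨
        @Curv2.IsOrdDoublePt ((Spec (CommRingCat.of R)).residueField (IsLocalRing.closedPoint R)) _ ((f.fiber (IsLocalRing.closedPoint R)).presheaf.stalk y) _ (@Curv2.stalkAlgebra ((Spec (CommRingCat.of R)).residueField (IsLocalRing.closedPoint R)) _ (f.fiber (IsLocalRing.closedPoint R)) ⟨f.fiberToSpecResidueField (IsLocalRing.closedPoint R)⟩ y) _)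
    (hb : BlowUp.IsBlowUp b (Scheme.IdealSheafData.vanishingIdeal
      ⟨closure {x : X | f.base x = IsLocalRing.closedPoint R ∧ ¬ IsRegularLocalRing (X.presheaf.stalk x)},
        isClosed_closure⟩)) :
    Formal2.PicPullbackSurjective (Limits.pullback.fst (b ≫ f) (Neron.genPt R)) := by
  have hflat : Flat f := hf.1
  have hlfp : LocallyOfFinitePresentation f := hf.2.1
  have hN : IsLocallyNoetherian X := LocallyOfFiniteType.isLocallyNoetherian f
  obtain ⟨hfin, hcl⟩ := nonreg_finite f hf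
  set Z₀ : Set X := {x : X | f x = (closedPoint R : PrimeSpectrum R) ∧ ¬ IsRegularLocalRing (X.presheaf.stalk x)} with hZ₀
  have hZ : IsClosed Z₀ := by
    rw [← Set.biUnion_of_singleton Z₀]
    exact hfin.isClosed_biUnion fun w hw => hcl w hw
  have hb' : BlowUp.IsBlowUp b (Scheme.IdealSheafData.vanishingIdeal ⟨Z₀, hZ⟩) := by
    have h1 : (⟨closure {x : X | f.base x = IsLocalRing.closedPoint R ∧ ¬ IsRegularLocalRing (X.presheaf.stalk x)},
        isClosed_closure⟩ : Closeds X) = ⟨Z₀, hZ⟩ := by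
      apply Closeds.ext
      exact hZ.closure_eq
    rw [← h1]
    exact hb
  clear hb
  set J := Scheme.IdealSheafData.vanishingIdeal (X := X) ⟨Z₀, hZ⟩ with hJ
  have hsupp : ∀ x, x ∈ J.support ↔ x ∈ Z₀ := by
    intro x
    rw [← SetLike.mem_coe, Scheme.IdealSheafData.coe_support_vanishingIdeal]
    rfl
  have hbp : IsProper b := Groth.Agent.Flat2C.BlowProper.isProper_of_isBlowUp hb' (K793.Chart.isFiniteTypeIdeal _)
  have hf' : Curv2.IsNodalFamily (b ≫ f) := isNodalFamily_blowUp R f hf hfin hcl hZ (fun z hz => hz.1) (fun z hz => hz.2) b hb'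
  have hflat' : Flat (b ≫ f) := hf'.1
  have hlfp' : LocallyOfFinitePresentation (b ≫ f) := hf'.2.1
  have hN' : IsLocallyNoetherian X' := LocallyOfFiniteType.isLocallyNoetherian (b ≫ f)
  have hred := K793.NodalFib.isReduced_fiber (b ≫ f) hf' (IsLocalRing.closedPoint R)
  have hoi := K793.FibGeom.isOpenImmersion_fst (b ≫ f)
  have hNK : IsLocallyNoetherian (Limits.pullback (b ≫ f) (Neron.genPt R)) :=
    isLocallyNoetherian_of_isOpenImmersion (Limits.pullback.fst (b ≫ f) (Neron.genPt R))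
  have hcK : CompactSpace ↥(Limits.pullback (b ≫ f) (Neron.genPt R)) :=
    QuasiCompact.compactSpace_of_compactSpace (Limits.pullback.snd (b ≫ f) (Neron.genPt R))
  have hNN : IsNoetherian (Limits.pullback (b ≫ f) (Neron.genPt R)) := { }
  obtain ⟨ϖ, hϖ⟩ := IsDiscreteValuationRing.exists_irreducible R
  obtain ⟨n, η, hη⟩ := exists_genPts_fin (b ≫ f)
  obtain ⟨hfin', -⟩ := nonreg_finite (b ≫ f) hf'
  set Z₁ : Set X' := {x : X' | (b ≫ f) x = (closedPoint R : PrimeSpectrum R) ∧ ¬ IsRegularLocalRing (X'.presheaf.stalk x)} with hZ₁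
  have hF : Finite Z₁ := hfin'
  obtain ⟨m, ⟨ε⟩⟩ := Finite.exists_equiv_fin Z₁
  let pt : Fin m → X' := fun e => (ε.symm e).1
  have hpt : ∀ e, (b ≫ f) (pt e) = (closedPoint R : PrimeSpectrum R) ∧ ¬ IsRegularLocalRing (X'.presheaf.stalk (pt e)) := fun e => (ε.symm e).2
  have hptZ : ∀ e, b (pt e) ∈ Z₀ := by
    intro e
    by_contra hne
    have h1 : f (b (pt e)) = (closedPoint R : PrimeSpectrum R) := (hpt e).1
    have h2 : IsRegularLocalRing (X.presheaf.stalk (b (pt e))) := by
      by_contra hr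
      exact hne ⟨h1, hr⟩
    exact (hpt e).2 (regular_of_notMem b hb' (pt e) (fun h => hne ((hsupp _).1 h)) h2)
  -- approximate coordinates
  have happ : ∀ z : X, z ∈ Z₀ → (∃ x y ε : X.presheaf.stalk z, maximalIdeal (X.presheaf.stalk z) = Ideal.span {x, y, DualGr.stalkHom f z ϖ} ∧
      x * y - ε * DualGr.stalkHom f z ϖ ^ 2 ∈ maximalIdeal (X.presheaf.stalk z) ^ 3) ∧
      ∀ a : X.presheaf.stalk z, ∃ r : R, a - DualGr.stalkHom f z r ∈ maximalIdeal (X.presheaf.stalk z) := by
    rintro z ⟨hz1, hz2⟩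
    obtain ⟨w, rfl⟩ := K793.Basic.exists_fiber_point f z hz1
    exact K793.NodeFam.exists_approx f hf hϖ w hz2 hsplit
  have hor : ∀ z : X, z ∈ Z₀ → ∃ x y : X.presheaf.stalk z, maximalIdeal (X.presheaf.stalk z) = Ideal.span {x, y, DualGr.stalkHom f z ϖ} ∧
      ∀ e (h : b (pt e) = z), ∃ u v, IsOrigin (stk b (pt e) z h) x y (DualGr.stalkHom f z ϖ) u v := by
    intro z hz
    obtain ⟨⟨x, y, ε', hm, hxy⟩, -⟩ := happ z hz
    exact ⟨x, y, hm, fun e h => exists_origin f b J hb' hϖ z (stalkIdeal_vanishingIdeal hfin hcl hZ z hz) hm hxy hz.1 (pt e) h (hpt e).2⟩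
  have hinj : ∀ e e', b (pt e) = b (pt e') → e = e' := by
    intro e e' h
    obtain ⟨x, y, hm, ho⟩ := hor (b (pt e')) (hptZ e')
    obtain ⟨u₁, v₁, o₁⟩ := ho e h
    obtain ⟨u₂, v₂, o₂⟩ := ho e' rfl
    have h1 : pt e = pt e' := eq_of_isOrigin b J hb' hm (stalkIdeal_vanishingIdeal hfin hcl hZ _ (hptZ e')) h rfl o₁ o₂
      (by rw [stk_stalkHom]; exact K793.Basic.stalkHom_mem_nonZeroDivisors (b ≫ f) _ hϖ.ne_zero)
      (by rw [stk_stalkHom]; exact K793.Basic.stalkHom_mem_nonZeroDivisors (b ≫ f) _ hϖ.ne_zero)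
    exact ε.symm.injective (Subtype.ext h1)
  have hdata : ∀ e, ∃ (l : ℕ) (v w : Fin n) (hv : η v ⤳ pt e) (hw : η w ⤳ pt e),
      K793.NodeMin.NodeData (DualGr.stalkHom (b ≫ f) (pt e) ϖ) l (Groth.Agent.CycB.LocQuot.primeOf hv).asIdeal
        (Groth.Agent.CycB.LocQuot.primeOf hw).asIdeal ∧ v ≠ w := by
    intro e
    obtain ⟨x, y, hm, ho⟩ := hor (b (pt e)) (hptZ e)
    obtain ⟨u, v, o⟩ := ho e rfl
    obtain ⟨l, p₁, p₂, hd, hne⟩ := exists_nodeData_of_origin f b hϖ (happ _ (hptZ e)).2 (hptZ e).1 (pt e) rfl o (hpt e).2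
    obtain ⟨v, w, hv, hw, rfl, rfl⟩ := exists_ends hη hϖ hd
    refine ⟨l, v, w, hv, hw, hd, ?_⟩
    rintro rfl
    exact hne rfl
  choose l v w hv hw hd hvw using hdata
  -- the generic points of the branches are exceptional
  have hexc : ∀ (e : Fin m) (i : Fin n), η i ⤳ pt e → b (η i) = b (pt e) := by
    intro e i hi
    obtain ⟨x, y, hm, ho⟩ := hor (b (pt e)) (hptZ e)
    obtain ⟨u, v, o⟩ := ho e rfl
    have h1 : stalkIdeal (J.comap b) (pt e) = Ideal.span {DualGr.stalkHom (b ≫ f) (pt e) ϖ} := by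
      rw [stalkIdeal_comap_stk b J (pt e) _ rfl, stalkIdeal_vanishingIdeal hfin hcl hZ _ (hptZ e), o.gen, stk_stalkHom]
    have h2 : stalkIdeal (J.comap b) (η i) = Ideal.span {DualGr.stalkHom (b ≫ f) (η i) ϖ} := by
      rw [← Groth.Agent.Divis.StalkAssoc.stalkIdeal_map_stalkSpecializes _ hi, h1, Ideal.map_span, Set.image_singleton,
        K793.Extend.stalkSpecializes_stalkHom]
    have h3 : η i ∈ (J.comap b).support := by
      rw [mem_support_iff_stalkIdeal_ne_top, h2]
      intro h4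
      rw [Ideal.span_singleton_eq_top, K793.Basic.isUnit_stalkHom_iff_ne (b ≫ f) _ hϖ] at h4
      exact h4 (hη.closed i)
    rw [Scheme.IdealSheafData.support_comap] at h3
    have h4 : b (η i) ∈ Z₀ := (hsupp _).1 h3
    have h5 : b (η i) ⤳ b (pt e) := hi.map b.continuous
    have h6 := h5.mem_closed (hcl _ h4) rfl
    exact (Set.mem_singleton_iff.1 h6).symm
  refine K793.PicSurj.picPullbackSurjective _ (K793.FibGeom.exists_isAmple hf') fun D hD => ?_
  refine K793.Extend.exists_extension (b ≫ f) (Limits.pullback.fst (b ≫ f) (Neron.genPt R)) (K793.FibGeom.mem_range_iff (b ≫ f)) hϖ η hη.closed hη.inj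
    (hη.maximalIdeal_eq hϖ) (fun v => ?_) pt (fun x hx hxe _ => ?_) (fun e => (v e, w e))
    (fun e => hv e) (fun e => hw e) l (fun e => (hd e).nodeLike) (fun δ => ?_) D hD
  · obtain ⟨h1, h2⟩ := hη.isDiscreteValuationRing v
    exact ⟨h1, inferInstance⟩
  · have hreg : IsRegularLocalRing (X'.presheaf.stalk x) := by
      by_contra hr
      refine hxe (ε ⟨x, hx, hr⟩) ?_
      change (ε.symm (ε _)).1 = x
      rw [Equiv.symm_apply_apply]
    obtain ⟨h1, h2⟩ := Groth.Agent.S2821.result (X'.presheaf.stalk x)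
    exact ⟨h1, h2⟩
  · refine ⟨fun i => ∑ e : Fin m, if v e = i then δ e else 0, fun e => ?_⟩
    have h1 : (∑ e' : Fin m, if v e' = v e then δ e' else 0) = δ e := by
      rw [Finset.sum_eq_single e]
      · rw [if_pos rfl]
      · intro e' _ hne
        rw [if_neg]
        intro h
        apply hne
        apply hinj
        rw [← hexc e' (v e') (hv e'), ← hexc e (v e) (hv e), h]
      · intro h; exact absurd (Finset.mem_univ _) h
    have h2 : (∑ e' : Fin m, if v e' = w e then δ e' else 0) = 0 := by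
      apply Finset.sum_eq_zero
      intro e' _
      rw [if_neg]
      intro h
      have h3 : e' = e := by
        apply hinj
        rw [← hexc e' (v e') (hv e'), ← hexc e (w e) (hw e), h]
      subst h3
      exact hvw e' h
    change (l e : ℤ) ∣ δ e - ((∑ e' : Fin m, if v e' = v e then δ e' else 0) - (∑ e' : Fin m, if v e' = w e then δ e' else 0))
    rw [h1, h2, sub_zero, sub_self]
    exact dvd_zero _

end Final

end K793.BlMain
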