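import Groth.Agent.SemiFact.K793.ChainSeq
import Groth.Agent.Divis.EffCartier

/-!
# Extension of invertible modules to a stage of the chain of blow-ups
-/

set_option autoImplicit false
universe u

open CategoryTheory CategoryTheory.Limits AlgebraicGeometry IsLocalRing BlowUp Opposite TopologicalSpace

namespace K793.ChainMain

open Groth.Agent.Divis.CartierBasic Groth.Agent.Divis.CartierStalk K793.BlGeom K793.BlMain K793.Chart K793.ChainStep K793.ChainSeq
open Groth.Agent.CycB.LocQuot Groth.Agent.Divis.StalkAssoc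

section Loc

variable {R : Type u} [CommRing R] [IsDomain R] [IsDiscreteValuationRing R] {ϖ : R} (hϖ : Irreducible ϖ) {X Z : Scheme.{u}}
  [IsLocallyNoetherian X] (f : X ⟶ Spec (CommRingCat.of R))

omit [IsLocallyNoetherian X] in
include hϖ in
theorem exists_pow_mem (J : X.IdealSheafData) {x Q : X} (hQ : Q ⤳ x)
    (hw : ∀ w : X, Q ⤳ w → f w ≠ (closedPoint R : PrimeSpectrum R) → w = Q) (hQJ : Q ∉ J.support) :
    ∃ M : ℕ, DualGr.stalkHom f x ϖ ^ M ∈ stalkIdeal J x ⊔ (primeOf hQ).asIdeal := by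
  rw [← Ideal.mem_radical_iff, ← Ideal.sInf_minimalPrimes, Ideal.mem_sInf]
  intro P hP
  have hPp : P.IsPrime := hP.1.1
  have hle := hP.1.2
  by_contra hne
  have hs := ptOf_specializes (⟨P, hPp⟩ : PrimeSpectrum (X.presheaf.stalk x))
  have h1 : Q ⤳ ptOf (⟨P, hPp⟩ : PrimeSpectrum (X.presheaf.stalk x)) := by
    rw [← primeOf_le_iff hQ hs, primeOf_ptOf]
    exact le_sup_right.trans hle
  have h2 := hw _ h1 (by
    rw [Ne, ← K793.FibGeom.asIdeal_mem_iff hϖ hs, primeOf_ptOf]
    exact hne)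
  have h3 : (primeOf hQ).asIdeal = P := by
    have h4 : primeOf hQ = primeOf hs := by
      rw [primeOf_inj]
      exact h2.symm
    rw [h4, primeOf_ptOf]
  apply hQJ
  rw [mem_support_iff_stalkIdeal_le, ← stalkIdeal_map_stalkSpecializes J hQ, Ideal.map_le_iff_le_comap]
  intro s hs'
  have h5 : s ∈ (primeOf hQ).asIdeal := by
    rw [h3]
    exact hle (Ideal.mem_sup_left hs')
  exact h5

end Loc

section Gen

variable {R : Type u} [CommRing R] [IsDomain R] [IsDiscreteValuationRing R] {X Y : Scheme.{u}}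

theorem isRegular_of_isoOn {c : Y ⟶ X} {f : X ⟶ Spec (CommRingCat.of R)} (hc : IsoOn c f) (y : Y)
    (hy : (c ≫ f) y ≠ (closedPoint R : PrimeSpectrum R)) (hr : IsRegularLocalRing (X.presheaf.stalk (c y))) :
    IsRegularLocalRing (Y.presheaf.stalk y) := by
  have hoi := K793.FibGeom.isOpenImmersion_fst f
  have h1 := hc _ (pullback.fst f (Neron.genPt R)) (fun z => (K793.FibGeom.mem_range_iff f _).1 ⟨z, rfl⟩)
  obtain ⟨w, hw⟩ : c y ∈ Set.range (pullback.fst f (Neron.genPt R)) := (K793.FibGeom.mem_range_iff f _).2 hy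
  obtain ⟨z, hz1, hz2⟩ := Scheme.Pullback.exists_preimage_pullback (f := c) (g := pullback.fst f (Neron.genPt R)) y w hw.symm
  subst hz1
  subst hz2
  have e1 := (asIso ((pullback.fst c (pullback.fst f (Neron.genPt R))).stalkMap z)).commRingCatIsoToRingEquiv
  have e2 := (asIso ((pullback.snd c (pullback.fst f (Neron.genPt R))).stalkMap z)).commRingCatIsoToRingEquiv
  have e3 := (asIso ((pullback.fst f (Neron.genPt R)).stalkMap (pullback.snd c (pullback.fst f (Neron.genPt R)) z))).commRingCatIsoToRingEquiv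
  have hr' : IsRegularLocalRing (X.presheaf.stalk (pullback.fst f (Neron.genPt R) (pullback.snd c (pullback.fst f (Neron.genPt R)) z))) := by
    rw [hw]; exact hr
  have hr1 : IsRegularLocalRing ((pullback f (Neron.genPt R)).presheaf.stalk (pullback.snd c (pullback.fst f (Neron.genPt R)) z)) :=
    IsRegularLocalRing.of_ringEquiv e3
  have hr2 : IsRegularLocalRing ((pullback c (pullback.fst f (Neron.genPt R))).presheaf.stalk z) := IsRegularLocalRing.of_ringEquiv e2
  exact IsRegularLocalRing.of_ringEquiv e1.symm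

end Gen

section Ext

variable {R : Type u} [CommRing R] [IsDomain R] [IsDiscreteValuationRing R] {ϖ : R} (hϖ : Irreducible ϖ) {X Y XK YK : Scheme.{u}}
  {f : X ⟶ Spec (CommRingCat.of R)} [IsProper f] {c : Y ⟶ X} {N : ℕ} (hc : Inv ϖ f c N) (β : YK ⟶ XK) (i : XK ⟶ X) (j : YK ⟶ Y)
  [IsOpenImmersion i] [QuasiCompact i] [IsOpenImmersion j] [QuasiCompact j] [Flat β] (hcomm : j ≫ c = β ≫ i)
  (hj : ∀ y : Y, y ∈ Set.range j ↔ (c ≫ f) y ≠ (closedPoint R : PrimeSpectrum R))

include hϖ hc hcomm hj in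
theorem stalkIdeal_eq_top (D : XK.IdealSheafData)
    (hN : ∀ x ∈ bad f, IsInf ϖ f x ∨ ∃ l < 2 * N, IsFin ϖ f x l)
    (hM : ∀ x ∈ bad f, ∀ Q : X, f Q ≠ (closedPoint R : PrimeSpectrum R) → ¬ IsRegularLocalRing (X.presheaf.stalk Q) →
      ∀ h : Q ⤳ x, DualGr.stalkHom f x ϖ ^ N ∈ stalkIdeal (D.map i) x ⊔ (primeOf h).asIdeal)
    (y : Y) (hy : y ∈ bad (c ≫ f)) : stalkIdeal ((D.comap β).map j) y = ⊤ := by
  have hcp := hc.proper
  have hflat : Flat (c ≫ f) := hc.nodal.1
  have hlfp : LocallyOfFinitePresentation (c ≫ f) := hc.nodal.2.1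
  have hNY : IsLocallyNoetherian Y := LocallyOfFiniteType.isLocallyNoetherian (c ≫ f)
  obtain ⟨hx, h1, h2⟩ := hc.fin y _ rfl hy
  have hinf : IsInf ϖ (c ≫ f) y := by
    rcases hN _ hx with h | ⟨l, hl, h⟩
    · exact h2 h
    · have := (h1 l h).1
      omega
  obtain ⟨Q', hQ', hgen, hreg⟩ := K793.ChainInf.exists_sing hϖ hy.1 hy.2 hinf
  have hQ : c Q' ⤳ c y := hQ'.map c.continuous
  have h3 := hM _ hx (c Q') hgen (fun hr => hreg (isRegular_of_isoOn hc.iso Q' hgen hr)) hQ
  obtain ⟨d, hd, a, ha, hda⟩ := Submodule.mem_sup.1 h3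
  obtain ⟨a', ha', he⟩ := hc.div y _ rfl hy Q' hQ' hgen a ((mem_primeOf_iff c rfl rfl hQ' hQ a).2 ha)
  have h4 := congrArg (stk c y (c y) rfl) hda
  rw [map_add, map_pow, he, stk_stalkHom f c] at h4
  have h5 : stk c y (c y) rfl d ∈ stalkIdeal ((D.comap β).map j) y := by
    have h6 : (D.map i).comap c ≤ (D.comap β).map j := by
      rw [Scheme.IdealSheafData.le_map_iff_comap_le, ← Scheme.IdealSheafData.comap_comp, hcomm, Scheme.IdealSheafData.comap_comp,
        Groth.Agent.Divis.MapOpen.comap_map]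
    have h7 := stalkIdeal_mono h6 y
    apply h7
    rw [stalkIdeal_comap_stk c (D.map i) y _ rfl]
    exact Ideal.mem_map_of_mem _ hd
  have h8 : IsUnit (1 - a') := by
    by_contra hu
    have h9 : a' ∈ maximalIdeal (Y.presheaf.stalk y) := le_maximalIdeal (primeOf hQ').2.ne_top ha'
    have h10 := add_mem ((mem_maximalIdeal _).2 hu) h9
    rw [sub_add_cancel] at h10
    exact (Ideal.IsPrime.ne_top (I := maximalIdeal (Y.presheaf.stalk y)) inferInstance) ((Ideal.eq_top_iff_one _).2 h10)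
  obtain ⟨w, hw⟩ := h8.exists_left_inv
  rw [Ideal.eq_top_iff_one]
  refine K793.ChainInf.mem_of_pow_mul_mem j (c ≫ f) hj hϖ (D.comap β) y N 1 ?_
  have h9 := Ideal.mul_mem_left _ w h5
  have h10 : DualGr.stalkHom (c ≫ f) y ϖ ^ N * 1 = w * stk c y (c y) rfl d := by
    linear_combination (-w) * h4 - (DualGr.stalkHom (c ≫ f) y ϖ ^ N) * hw
  rw [h10]
  exact h9

include hϖ hc hcomm hj in
theorem exists_ext (D : XK.IdealSheafData) (hD : BlowUp.IsEffCartierIdeal D)
    (hN : ∀ x ∈ bad f, IsInf ϖ f x ∨ ∃ l < 2 * N, IsFin ϖ f x l)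
    (hM : ∀ x ∈ bad f, ∀ Q : X, f Q ≠ (closedPoint R : PrimeSpectrum R) → ¬ IsRegularLocalRing (X.presheaf.stalk Q) →
      ∀ h : Q ⤳ x, DualGr.stalkHom f x ϖ ^ N ∈ stalkIdeal (D.map i) x ⊔ (primeOf h).asIdeal) :
    ∃ J : Y.IdealSheafData, BlowUp.IsEffCartierIdeal J ∧ J.comap j = D.comap β := by
  have hcp := hc.proper
  have hflat : Flat (c ≫ f) := hc.nodal.1
  have hlfp : LocallyOfFinitePresentation (c ≫ f) := hc.nodal.2.1
  have hNY : IsLocallyNoetherian Y := LocallyOfFiniteType.isLocallyNoetherian (c ≫ f)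
  have hNK : IsLocallyNoetherian YK := isLocallyNoetherian_of_isOpenImmersion j
  have hD' : BlowUp.IsEffCartierIdeal (D.comap β) := Groth.Agent.Divis.EffCartier.isEff_comap_flat hD β
  refine ⟨(D.comap β).map j, ?_, Groth.Agent.Divis.MapOpen.comap_map _ _⟩
  rw [isEffCartierIdeal_iff_stalkIdeal]
  intro y
  by_cases hy : (c ≫ f) y = (closedPoint R : PrimeSpectrum R)
  · by_cases hr : IsRegularLocalRing (Y.presheaf.stalk y)
    · obtain ⟨h1, h2⟩ := Groth.Agent.S2821.result (Y.presheaf.stalk y)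
      exact K793.Extend.exists_generator_of_ufd j (D.comap β) hD' y (fun h => (hj y).1 h hy)
    · refine ⟨1, one_mem _, ?_⟩
      rw [stalkIdeal_eq_top hϖ hc β i j hcomm hj D hN hM y ⟨hy, hr⟩, Ideal.span_singleton_one]
  · obtain ⟨z, rfl⟩ := (hj y).2 hy
    exact K793.Extend.exists_generator_of_mem j (D.comap β) hD' z

end Ext

section Fin

variable (R : Type u) [CommRing R] [IsDomain R] [IsDiscreteValuationRing R] {X : Scheme.{u}} (f : X ⟶ Spec (CommRingCat.of R)) [IsProper f]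

open Groth.Agent.Grpsch.PicGrp K793.PicSurj

theorem genPt_ne (z : Spec (CommRingCat.of (FractionRing R))) : Neron.genPt R z ≠ (closedPoint R : PrimeSpectrum R) := by
  intro h
  obtain ⟨ϖ, hϖ⟩ := IsDiscreteValuationRing.exists_irreducible R
  have h1 := (Basic.eq_closedPoint_iff (Neron.genPt R z) hϖ).1 h
  have h2 : ϖ ∈ (PrimeSpectrum.asIdeal z).comap (algebraMap R (FractionRing R)) := h1
  rw [Ideal.mem_comap] at h2
  refine z.2.ne_top (Ideal.eq_top_of_isUnit_mem _ h2 (IsUnit.mk0 _ ?_))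
  rw [Ne, map_eq_zero_iff _ (IsFractionRing.injective R (FractionRing R))]
  exact hϖ.ne_zero

theorem main (hf : Curv2.IsNodalFamily f) (L : (Limits.pullback f (Neron.genPt R)).Modules) (hL : PicF.IsInvertible L) :
    ∃ N : ℕ, ∃ M : (seq f N).Y.Modules, PicF.IsInvertible M ∧
        Nonempty ((Scheme.Modules.pullback (Limits.pullback.fst ((seq f N).c ≫ f) (Neron.genPt R))).obj M ≅
          (Scheme.Modules.pullback (CInt.baseChangeOver (seq f N).c f (Neron.genPt R))).obj L) := by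
  have hflat : Flat f := hf.1
  have hlfp : LocallyOfFinitePresentation f := hf.2.1
  have hNX : IsLocallyNoetherian X := LocallyOfFiniteType.isLocallyNoetherian f
  have hoi := K793.FibGeom.isOpenImmersion_fst f
  have hNK : IsLocallyNoetherian (Limits.pullback f (Neron.genPt R)) :=
    isLocallyNoetherian_of_isOpenImmersion (Limits.pullback.fst f (Neron.genPt R))
  have hcK : CompactSpace ↥(Limits.pullback f (Neron.genPt R)) :=
    QuasiCompact.compactSpace_of_compactSpace (Limits.pullback.snd f (Neron.genPt R))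
  have hNN : IsNoetherian (Limits.pullback f (Neron.genPt R)) := { }
  obtain ⟨ϖ, hϖ⟩ := IsDiscreteValuationRing.exists_irreducible R
  obtain ⟨hfin, hcl⟩ := nonreg_finite f hf
  change (bad f).Finite at hfin
  obtain ⟨hSfin, hS⟩ := K793.ChainSing.sing_finite f hf
  set S : Set X := {x : X | f x ≠ (closedPoint R : PrimeSpectrum R) ∧ ¬ IsRegularLocalRing (X.presheaf.stalk x)} with hSdef
  set i := Limits.pullback.fst f (Neron.genPt R) with hi
  have hE : (i ⁻¹' S).Finite := hSfin.preimage (i.isOpenEmbedding.injective.injOn)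
  obtain ⟨D, D', hD, hD', hdis, hdis', hLc⟩ := exists_mk_eq (K793.FibGeom.exists_isAmple hf) (mk L hL) (i ⁻¹' S) hE
  have hsupp : ∀ D : (Limits.pullback f (Neron.genPt R)).IdealSheafData, Disjoint (i ⁻¹' S) (D.support : Set _) →
      ∀ Q ∈ S, Q ∉ (D.map i).support := by
    intro D hdis Q hQ hmem
    obtain ⟨q, rfl⟩ : Q ∈ Set.range i := (K793.FibGeom.mem_range_iff f Q).2 hQ.1
    have h1 : q ∈ ((D.map i).comap i).support := by
      rw [Scheme.IdealSheafData.support_comap]
      exact hmem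
    rw [Groth.Agent.Divis.MapOpen.comap_map] at h1
    exact Set.disjoint_left.1 hdis (show q ∈ i ⁻¹' S from hQ) h1
  have hev : ∀ D : (Limits.pullback f (Neron.genPt R)).IdealSheafData, Disjoint (i ⁻¹' S) (D.support : Set _) →
      ∀ᶠ N : ℕ in Filter.atTop, ∀ x ∈ bad f, ∀ Q ∈ S, ∀ h : Q ⤳ x, DualGr.stalkHom f x ϖ ^ N ∈ stalkIdeal (D.map i) x ⊔ (primeOf h).asIdeal := by
    intro D hdis
    rw [Filter.eventually_all_finite hfin]
    intro x hx
    rw [Filter.eventually_all_finite hSfin]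
    intro Q hQ
    by_cases h : Q ⤳ x
    · obtain ⟨M, hM⟩ := exists_pow_mem hϖ f (D.map i) h (hS Q hQ.1 hQ.2) (hsupp D hdis Q hQ)
      filter_upwards [Filter.eventually_ge_atTop M] with N hN _
      exact Ideal.mem_of_dvd _ (pow_dvd_pow _ hN) hM
    · exact Filter.Eventually.of_forall fun N h' => absurd h' h
  have hev2 : ∀ᶠ N : ℕ in Filter.atTop, ∀ x ∈ bad f, IsInf ϖ f x ∨ ∃ l < 2 * N, IsFin ϖ f x l := by
    rw [Filter.eventually_all_finite hfin]
    intro x hx
    rcases isFin_or_isInf hf hϖ x hx.1 with ⟨l, hl⟩ | h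
    · filter_upwards [Filter.eventually_gt_atTop l] with N hN
      exact Or.inr ⟨l, by omega, hl⟩
    · exact Filter.Eventually.of_forall fun N => Or.inl h
  obtain ⟨N, h1, h2, h3⟩ := (hev2.and ((hev D hdis).and (hev D' hdis'))).exists
  refine ⟨N, ?_⟩
  have hinv := inv_seq hϖ hf N
  set c := (seq f N).c with hc
  have hcp := hinv.proper
  have hoi' := K793.FibGeom.isOpenImmersion_fst (c ≫ f)
  set j := Limits.pullback.fst (c ≫ f) (Neron.genPt R) with hj
  have hiso : IsIso (CInt.baseChangeOver c f (Neron.genPt R)) := isIso_baseChangeOver hinv.iso (Neron.genPt R) (genPt_ne R)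
  set β := CInt.baseChangeOver c f (Neron.genPt R) with hβ
  have hcomm : j ≫ c = β ≫ i := (Limits.pullback.lift_fst _ _ _).symm
  obtain ⟨J, hJ, hJD⟩ := exists_ext hϖ hinv β i j hcomm (K793.FibGeom.mem_range_iff (c ≫ f)) D hD h1
    (fun x hx Q hQ hr h => h2 x hx Q ⟨hQ, hr⟩ h)
  obtain ⟨J', hJ', hJD'⟩ := exists_ext hϖ hinv β i j hcomm (K793.FibGeom.mem_range_iff (c ≫ f)) D' hD' h1
    (fun x hx Q hQ hr h => h3 x hx Q ⟨hQ, hr⟩ h)
  have hDβ := Groth.Agent.Divis.EffCartier.isEff_comap_flat hD β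
  have hDβ' := Groth.Agent.Divis.EffCartier.isEff_comap_flat hD' β
  obtain ⟨M, hM, hMe⟩ := exists_mk (mk (ClSub.idealMod J') (Groth.Agent.Dix.IdealModCartier.isInvertible_idealMod hJ') *
    (mk (ClSub.idealMod J) (Groth.Agent.Dix.IdealModCartier.isInvertible_idealMod hJ))⁻¹)
  refine ⟨M, hM, ?_⟩
  have h4 : pull j (mk M hM) = pull β (mk L hL) := by
    rw [← hMe, hLc, map_mul, map_mul, map_inv, map_inv, pull_idealMod j hJ hDβ hJD, pull_idealMod j hJ' hDβ' hJD',
      pull_idealMod β hD hDβ rfl, pull_idealMod β hD' hDβ' rfl]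
  rw [pull_mk, pull_mk, mk_eq_iff] at h4
  exact h4

end Fin

end K793.ChainMain
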