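import Groth.Agent.SemiFact.K793.OmegaGeom
import Groth.Agent.Flat2C.BlowProper

/-!
# The defect of smoothness drops after blowing up a nonregular point
-/

set_option autoImplicit false
universe u

open CategoryTheory CategoryTheory.Limits AlgebraicGeometry IsLocalRing Opposite TopologicalSpace TensorProduct

namespace K793.OmegaMain

open K793.OmegaAlg K793.OmegaGeom K793.BlGeom K793.ChainStep K793.BlMain K793.Chart
open Groth.Agent.Models.NodeRing Groth.Agent.Models.NodeBlow Groth.Agent.Models.NodeStep K793.NodeBlow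

theorem ord_image {R R' O : Type u} [CommRing R] [IsDomain R] [IsDiscreteValuationRing R]
    [CommRing R'] [IsDomain R'] [IsDiscreteValuationRing R'] [Algebra R R']
    (hinj : Function.Injective (algebraMap R R')) [CommRing O] [IsDomain O] [IsDiscreteValuationRing O] (φ : R' →+* O)
    (hφ : (maximalIdeal R').map φ = maximalIdeal O) {ϖ : R} (hϖ : Irreducible ϖ) :
    φ (algebraMap R R' ϖ) ≠ 0 ∧ Ring.ord O (φ (algebraMap R R' ϖ)) =
      (Ideal.ramificationIdx' (maximalIdeal R) (maximalIdeal R') : ℕ∞) := by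
  have h0 : algebraMap R R' ϖ ≠ 0 := by
    intro h
    exact hϖ.ne_zero (hinj (by rw [h, map_zero]))
  obtain ⟨n, hn⟩ := exists_maximalIdeal_pow_eq_of_principal R' inferInstance (Ideal.span {algebraMap R R' ϖ})
    (by rw [Ne, Ideal.span_singleton_eq_bot]; exact h0)
  have h1 : (maximalIdeal R).map (algebraMap R R') = maximalIdeal R' ^ n := by
    rw [(IsDiscreteValuationRing.irreducible_iff_uniformizer ϖ).1 hϖ, Ideal.map_span, Set.image_singleton, hn]
  have h2 : Ideal.ramificationIdx' (maximalIdeal R) (maximalIdeal R') = n := by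
    refine Ideal.ramificationIdx'_spec h1.le ?_
    rw [h1]
    intro h3
    exact absurd h3 (Ideal.pow_right_strictAnti (maximalIdeal R') (IsDiscreteValuationRing.not_a_field R')
      (Ideal.IsPrime.ne_top inferInstance) (Nat.lt_succ_self n)).not_ge
  have h3 : Ideal.span {φ (algebraMap R R' ϖ)} = maximalIdeal O ^ n := by
    rw [← hφ, ← Ideal.map_pow, ← hn, Ideal.map_span, Set.image_singleton]
  refine ⟨?_, ?_⟩
  · intro h
    rw [h, Ideal.span_singleton_eq_bot.2 rfl] at h3
    have h5 : maximalIdeal O = ⊥ := by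
      by_cases hn0 : n = 0
      · subst hn0
        rw [pow_zero] at h3
        rw [Ideal.one_eq_top] at h3
        exact absurd h3.symm top_ne_bot
      · exact pow_eq_zero_iff hn0 |>.1 h3.symm
    exact IsDiscreteValuationRing.not_a_field O h5
  · unfold Ring.ord
    rw [h3, h2]
    exact IsDiscreteValuationRing.length_quotient_pow_maximalIdeal O n

theorem dvr_stalk {R' : Type u} [CommRing R'] [IsDomain R'] [IsDiscreteValuationRing R'] {Q : Scheme.{u}}
    (e1 : Q ⟶ Spec (CommRingCat.of R')) [Etale e1] (q : Q) (hq1 : e1 q = (closedPoint R' : PrimeSpectrum R')) :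
    (∃ _ : IsDomain (Q.presheaf.stalk q), IsDiscreteValuationRing (Q.presheaf.stalk q)) ∧
      (maximalIdeal R').map (DualGr.stalkHom e1 q) = maximalIdeal (Q.presheaf.stalk q) := by
  obtain ⟨ϖ, hϖ⟩ := IsDiscreteValuationRing.exists_irreducible R'
  have h1 : DualGr.stalkHom e1 q = (stk e1 q _ hq1).comp (DualGr.stalkHom (𝟙 (Spec (CommRingCat.of R'))) (closedPoint R' : PrimeSpectrum R')) := by
    refine RingHom.ext fun r => ?_
    have h2 := stk_stalkHom (𝟙 (Spec (CommRingCat.of R'))) e1 q _ hq1 r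
    rw [Category.comp_id] at h2
    exact h2.symm
  have h2 : (maximalIdeal R').map (DualGr.stalkHom e1 q) = maximalIdeal (Q.presheaf.stalk q) := by
    rw [h1, ← Ideal.map_map, ← map_maximalIdeal_stk e1 q _ hq1]
    congr 1
    exact IsLocalRing.map_ringEquiv_maximalIdeal (RingEquiv.ofBijective _ (K793.SecGeom.stalkHom_id_bijective R'))
  have hN : IsLocallyNoetherian Q := LocallyOfFiniteType.isLocallyNoetherian e1
  have h3 : maximalIdeal (Q.presheaf.stalk q) = Ideal.span {DualGr.stalkHom e1 q ϖ} := by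
    rw [← h2, (IsDiscreteValuationRing.irreducible_iff_uniformizer ϖ).1 hϖ, Ideal.map_span, Set.image_singleton]
  exact ⟨K793.FibGeom.exists_dvr h3 (K793.Basic.stalkHom_mem_nonZeroDivisors e1 q hϖ.ne_zero), h2⟩

theorem isClosed_single {R R' : Type u} [CommRing R] [CommRing R'] [IsLocalRing R'] [Algebra R R'] [Module.Finite R R'] {Z : Scheme.{u}}
    (f : Z ⟶ Spec (CommRingCat.of R)) [IsSeparated f]
    (a : (Spec (CommRingCat.of R')) ⟶ Z) (ha : a ≫ f = Spec.map (CommRingCat.ofHom (algebraMap R R'))) :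
    IsClosed ({a (closedPoint R' : PrimeSpectrum R')} : Set Z) := by
  have h1 : IsFinite (Spec.map (CommRingCat.ofHom (algebraMap R R'))) := by
    rw [IsFinite.SpecMap_iff]
    exact RingHom.finite_algebraMap.2 inferInstance
  have h2 : IsProper (a ≫ f) := by rw [ha]; infer_instance
  have h3 : IsProper a := IsProper.of_comp a f
  have h4 := (Scheme.Hom.isClosedMap a) _ (PrimeSpectrum.isClosed_singleton_iff_isMaximal (closedPoint R' : PrimeSpectrum R') |>.2
    (inferInstanceAs (maximalIdeal R').IsMaximal))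
  have h5 : (⇑a '' ({(closedPoint R' : PrimeSpectrum R')} : Set (PrimeSpectrum R'))) = {a (closedPoint R' : PrimeSpectrum R')} :=
    Set.image_singleton
  exact h5 ▸ h4

theorem map_closedPoint {R R' : Type u} [CommRing R] [IsLocalRing R] [CommRing R'] [IsLocalRing R'] [Algebra R R'] [Module.Finite R R'] {Z : Scheme.{u}}
    (f : Z ⟶ Spec (CommRingCat.of R)) 
    (a : (Spec (CommRingCat.of R')) ⟶ Z) (ha : a ≫ f = Spec.map (CommRingCat.ofHom (algebraMap R R'))) :
    f (a (closedPoint R' : PrimeSpectrum R')) = (closedPoint R : PrimeSpectrum R) := by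
  have h1 : IsFinite (Spec.map (CommRingCat.ofHom (algebraMap R R'))) := by
    rw [IsFinite.SpecMap_iff]
    exact RingHom.finite_algebraMap.2 inferInstance
  have h4 := (Scheme.Hom.isClosedMap (Spec.map (CommRingCat.ofHom (algebraMap R R')))) _
    (PrimeSpectrum.isClosed_singleton_iff_isMaximal (closedPoint R' : PrimeSpectrum R') |>.2
    (inferInstanceAs (maximalIdeal R').IsMaximal))
  have h6 : (⇑(Spec.map (CommRingCat.ofHom (algebraMap R R'))) '' ({(closedPoint R' : PrimeSpectrum R')} : Set (PrimeSpectrum R'))) =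
      {f (a (closedPoint R' : PrimeSpectrum R'))} := by
    rw [← Scheme.Hom.comp_apply, ha]
    exact Set.image_singleton
  have h4' : IsClosed ({f (a (closedPoint R' : PrimeSpectrum R'))} : Set (PrimeSpectrum R)) := h6 ▸ h4
  have h5 := (PrimeSpectrum.isClosed_singleton_iff_isMaximal _).1 h4'
  exact PrimeSpectrum.ext (IsLocalRing.eq_maximalIdeal h5)

theorem specMap_comp {A B D : Type u} [CommRing A] [CommRing B] [CommRing D] (φ : A →+* B) (ψ : B →+* D) :
    Spec.map (CommRingCat.ofHom (ψ.comp φ)) = Spec.map (CommRingCat.ofHom ψ) ≫ Spec.map (CommRingCat.ofHom φ) := by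
  rw [CommRingCat.ofHom_comp, Spec.map_comp]

theorem main {R R' : Type u} [CommRing R] [IsDomain R] [IsDiscreteValuationRing R]
    [CommRing R'] [IsDomain R'] [IsDiscreteValuationRing R'] [Algebra R R'] [Module.Finite R R']
    (hinj : Function.Injective (algebraMap R R'))
    {Z Z' : Scheme.{u}} (f : Z ⟶ Spec (CommRingCat.of R)) [IsProper f] (hf : Curv2.IsNodalFamily f)
    (a : (Spec (CommRingCat.of R')) ⟶ Z) (ha : a ≫ f = Spec.map (CommRingCat.ofHom (algebraMap R R')))
    (hreg : ¬ IsRegularLocalRing (Z.presheaf.stalk (a (closedPoint R' : PrimeSpectrum R'))))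
    (π : Z' ⟶ Z) (hπ : BlowUp.IsBlowUp π (Scheme.IdealSheafData.vanishingIdeal
      ⟨closure {a (closedPoint R' : PrimeSpectrum R')}, isClosed_closure⟩))
    (a' : (Spec (CommRingCat.of R')) ⟶ Z') (ha' : a' ≫ π = a)
    (hreg' : ¬ IsRegularLocalRing (Z'.presheaf.stalk (a' (closedPoint R' : PrimeSpectrum R')))) :
    tl ((Spec (CommRingCat.of R')).presheaf.stalk (closedPoint R' : PrimeSpectrum R'))
        (((Scheme.Modules.pullback a').obj (Omega.sheaf (π ≫ f))).presheaf.stalk (closedPoint R' : PrimeSpectrum R')) ≤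
      tl ((Spec (CommRingCat.of R')).presheaf.stalk (closedPoint R' : PrimeSpectrum R'))
        (((Scheme.Modules.pullback a).obj (Omega.sheaf f)).presheaf.stalk (closedPoint R' : PrimeSpectrum R')) -
      (Ideal.ramificationIdx' (maximalIdeal R) (maximalIdeal R') : ℕ∞) := by
  obtain ⟨ϖ, hϖ⟩ := IsDiscreteValuationRing.exists_irreducible R
  have hx := isClosed_single f a ha
  have hfx := map_closedPoint f a ha
  have hN : IsLocallyNoetherian Z := LocallyOfFiniteType.isLocallyNoetherian f
  have hcl : (⟨closure {a (closedPoint R' : PrimeSpectrum R')}, isClosed_closure⟩ : Closeds Z) = ⟨{a (closedPoint R' : PrimeSpectrum R')}, hx⟩ :=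
    Closeds.ext hx.closure_eq
  rw [hcl] at hπ
  have hft : BlowUp.IsFiniteTypeIdeal (Scheme.IdealSheafData.vanishingIdeal (X := Z) ⟨{a (closedPoint R' : PrimeSpectrum R')}, hx⟩) := by
    intro U
    have := hN.component_noetherian U
    exact IsNoetherian.noetherian _
  have hπp : IsProper π := Groth.Agent.Flat2C.BlowProper.isProper_of_isBlowUp hπ hft
  have hN' : IsLocallyNoetherian Z' := LocallyOfFiniteType.isLocallyNoetherian π
  have hπa : π (a' (closedPoint R' : PrimeSpectrum R')) = a (closedPoint R' : PrimeSpectrum R') := by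
    rw [← Scheme.Hom.comp_apply, ha']
  obtain ⟨C⟩ := exists_nchart hϖ f hf _ hfx
  obtain ⟨c, hc, -⟩ := C.exists_c hreg
  have htm : algebraMap C.D (W C.D C.a) C.t ∈ (C.g C.y).asIdeal := by
    rw [C.t_mem_iff hϖ, C.hy]
    exact hfx
  obtain ⟨B⟩ := exists_bchart C hreg htm c hc hx π hπ (a' (closedPoint R' : PrimeSpectrum R')) hπa
  have hne : B.c' ≠ C.t := by
    intro h
    apply hreg'
    have h1 := Groth.Agent.S0065.result B.α B.z
    have hNW : IsLocallyNoetherian (Spec (CommRingCat.of (W C.D B.c'))) := by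
      have hN1 : IsNoetherianRing (W C.D B.c') := inferInstance
      have : IsNoetherianRing (CommRingCat.of (W C.D B.c')) := hN1
      infer_instance
    have h2 := Groth.Agent.S0065.result B.β B.z
    rw [B.hz] at h1
    refine h1.1 (h2.2 ?_)
    exact stalk_isRegular_of_le_one C.t C.irr 1 le_rfl (by rw [h, pow_one]) _
  rcases B.hc with ⟨h, -, -⟩ | ⟨h, -, -⟩ | ⟨-, hu, hv⟩
  · exact absurd h hne
  · exact absurd h hne
  obtain ⟨q, hq1, hq2⟩ := Scheme.Pullback.exists_preimage_pullback (f := a') (g := B.α) (closedPoint R' : PrimeSpectrum R') B.z B.hz.symm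
  obtain ⟨⟨hd, hv'⟩, hmm⟩ := dvr_stalk (pullback.fst a' B.α) q hq1
  have hpq : pullback.snd a' B.α ≫ B.α = pullback.fst a' B.α ≫ a' := pullback.condition.symm
  have hpq' : (pullback.snd a' B.α ≫ B.γ) ≫ C.e = pullback.fst a' B.α ≫ a := by
    rw [Category.assoc, B.hγe, ← Category.assoc, hpq, Category.assoc, ha']
  have t1 := tl_point (π ≫ f) a' B.α B.z B.hz (D := C.D) (N := W C.D B.c') B.β
    (by rw [specMap_comp]; exact B.w) (pullback.fst a' B.α) (pullback.snd a' B.α) hpq q hq1 hq2 (isNodeRing_W C.D B.c')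
  have t2 := tl_point f a C.e C.y C.hy (D := C.D) (N := W C.D C.a) C.g
    (by rw [specMap_comp]; exact C.w) (pullback.fst a' B.α) (pullback.snd a' B.α ≫ B.γ) hpq' q hq1
    (by rw [Scheme.Hom.comp_apply, hq2, B.hγz]) (isNodeRing_W C.D C.a)
  obtain ⟨o1, o2⟩ := ord_image hinj (DualGr.stalkHom (pullback.fst a' B.α) q) hmm hϖ
  have key : ∀ w, DualGr.stalkHom ((pullback.snd a' B.α ≫ B.γ) ≫ C.g) q w =
      DualGr.stalkHom (pullback.snd a' B.α ≫ B.β) q (B.ψ w) := by
    intro w
    rw [Category.assoc, B.hγg, ← Category.assoc, stalkHom_specMap]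
  have key2 : DualGr.stalkHom (pullback.snd a' B.α ≫ B.β) q (algebraMap C.D (W C.D B.c') C.t) =
      DualGr.stalkHom (pullback.fst a' B.α) q (algebraMap R R' ϖ) := by
    rw [← stalkHom_specMap (pullback.fst a' B.α) (algebraMap R R') q ϖ]
    have h7 : (pullback.snd a' B.α ≫ B.β) ≫ str C.D B.c' ≫ Spec.map (CommRingCat.ofHom (algebraMap R C.D)) =
        pullback.fst a' B.α ≫ Spec.map (CommRingCat.ofHom (algebraMap R R')) := by
      have h8 : (pullback.snd a' B.α ≫ B.β) ≫ str C.D B.c' ≫ Spec.map (CommRingCat.ofHom (algebraMap R C.D)) =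
        pullback.fst a' B.α ≫ (a' ≫ π) ≫ f := by
        rw [Category.assoc, B.w, ← Category.assoc, hpq]
        simp only [Category.assoc]
      exact h8.trans (congrArg (fun g => pullback.fst a' B.α ≫ g) ((congrArg (fun g => g ≫ f) ha').trans ha))
    rw [← h7, ← Category.assoc, stalkHom_specMap]
    exact (stalkHom_specMap (pullback.snd a' B.α ≫ B.β) (algebraMap C.D (W C.D B.c')) q _).symm
  rw [t1, t2, key, key, hu, hv, map_mul, map_mul, key2, ← o2]
  exact tl_QQ_smul (DualGr.stalkHom (pullback.snd a' B.α ≫ B.β) q (vv C.D B.c'), DualGr.stalkHom (pullback.snd a' B.α ≫ B.β) q (uu C.D B.c'))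
    o1 (by rw [o2]; exact ENat.natCast_ne_top _)

end K793.OmegaMain
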