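import Groth.Agent.SemiFact.K793.NodeAlg

/-!
# Orders of the units of the generic fibre of a node

A divisor of a power of `π` has orders along the two branches which are congruent modulo the thickness.
-/

set_option autoImplicit false
set_option linter.unusedSectionVars false
universe u

open IsLocalRing

namespace K793.NodeAlg

variable {S B : Type u} [CommRing S] [CommRing B] [IsLocalRing B] [Algebra S B]

namespace IsNode

variable {ϖ : S} {x y : B} {a : S} (h : IsNode ϖ x y a)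

local notation "π" => algebraMap S B ϖ
local notation "P₁" => Ideal.span {x, algebraMap S B ϖ}
local notation "P₂" => Ideal.span {y, algebraMap S B ϖ}

include h

theorem ord_dvd {u v : B} {N n₁ : ℕ} (huv : u * v = π ^ N) (h1 : Ord P₁ π u n₁) : n₁ ≤ N ∧ Ord P₁ π v (N - n₁) := by
  have hp₁ := h.prime₁
  have hv0 : v ∈ nonZeroDivisors B := by
    have h2 : u * v ∈ nonZeroDivisors B := huv ▸ pow_mem h.reg N
    exact (mul_mem_nonZeroDivisors.1 h2).2
  obtain ⟨s, t, hs, ht, hst⟩ := h1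
  have key : t * π ^ n₁ * v = s * π ^ N := by rw [← hst, mul_assoc, huv]
  have hle : n₁ ≤ N := by
    by_contra hlt
    push Not at hlt
    obtain ⟨k, rfl⟩ := Nat.exists_eq_add_of_lt hlt
    have h3 : (t * π ^ (k + 1) * v - s) * π ^ N = 0 := by
      have : π ^ (N + k + 1) = π ^ (k + 1) * π ^ N := by rw [← pow_add]; congr 1; omega
      rw [this] at key
      linear_combination key
    have h4 := (mul_right_mem_nonZeroDivisors_eq_zero_iff (pow_mem h.reg N)).1 h3
    refine hs ?_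
    rw [← sub_eq_zero.1 h4]
    refine Ideal.mul_mem_right _ _ (Ideal.mul_mem_left _ _ (Ideal.pow_mem_of_mem _ π_mem _ (Nat.succ_pos k)))
  refine ⟨hle, t, s, ht, hs, ?_⟩
  obtain ⟨k, rfl⟩ := Nat.exists_eq_add_of_le hle
  rw [show n₁ + k - n₁ = k by omega]
  have h3 : (t * v - s * π ^ k) * π ^ n₁ = 0 := by
    rw [pow_add] at key
    linear_combination key
  exact sub_eq_zero.1 ((mul_right_mem_nonZeroDivisors_eq_zero_iff (pow_mem h.reg n₁)).1 h3)

theorem isUnit_of_branch₂ {b w : B} (hw : IsUnit w) (hb : b - w ∈ P₂) : IsUnit b := by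
  by_contra hbu
  have h1 : b ∈ maximalIdeal B := hbu
  have h2 : b - w ∈ maximalIdeal B := h.symm.P₁_le hb
  have h3 : w ∈ maximalIdeal B := by
    have := Ideal.sub_mem _ h1 h2
    simpa using this
  exact h3 hw

/-- the finite thickness case, order zero along the second branch -/
theorem eq_mul_of_ord_zero [IsNoetherianRing B] {l : ℕ} (ha : algebraMap S B a = π ^ l) {u v : B} {N n₁ : ℕ}
    (huv : u * v = π ^ N) (h1 : Ord P₁ π u n₁) (h2 : Ord P₂ π u 0) :
    ∃ k w, IsUnit w ∧ n₁ = l * k ∧ u = x ^ k * w := by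
  have hp₁ := h.prime₁
  have hp₂ := h.prime₂
  obtain ⟨k, w, hw, hk⟩ := h.exists_branch₂ (ord_zero_iff.1 h2)
  have hxy : x ^ k * y ^ k = π ^ (l * k) := by rw [← mul_pow, h.mul, ha, pow_mul]
  have hxP : x ^ k ∉ P₂ := fun h3 => h.notMem₂ (hp₂.mem_of_pow_mem _ h3)
  rcases le_or_gt (l * k) n₁ with hle | hlt
  · have hb1 : Ord P₁ π (u * y ^ k) n₁ := by
      have := h1.mul (h.ord₁_y.pow k)
      rwa [zero_mul, add_zero] at this
    have hb2 : Ord P₂ π (u * y ^ k) (l * k) := by
      have := h2.mul ((h.ord₂_y ha).pow k)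
      rwa [zero_add] at this
    obtain ⟨b', hb', h3, h4⟩ := h.exists_eq_pow_mul (e := l * k) hb1 hb2 hle le_rfl
    have h5 : x ^ k * b' = u := by
      have : (x ^ k * b' - u) * π ^ (l * k) = 0 := by
        rw [← hxy] at *
        linear_combination (-(x ^ k)) * hb'
      exact sub_eq_zero.1 ((mul_right_mem_nonZeroDivisors_eq_zero_iff (pow_mem h.reg _)).1 this)
    have h6 : x ^ k * (b' - w) ∈ P₂ := by
      rw [mul_sub, h5]
      exact hk
    have h7 : IsUnit b' := h.isUnit_of_branch₂ hw ((hp₂.mem_or_mem h6).resolve_left hxP)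
    have h8 : n₁ - l * k = 0 := by
      by_contra h0
      exact hp₁.ne_top (Ideal.eq_top_of_isUnit_mem _ (h3.mem π_mem h0) h7)
    exact ⟨k, b', h7, by omega, h5.symm⟩
  · exfalso
    obtain ⟨hv1, hv1'⟩ := h.ord_dvd huv h1
    obtain ⟨-, hv2'⟩ := h.symm.ord_dvd huv h2
    have hc1 : Ord P₁ π (x ^ k * v) (l * k + (N - n₁)) := ((h.symm.ord₂_y ha).pow k).mul hv1'
    have hc2 : Ord P₂ π (x ^ k * v) N := by
      have := (h.symm.ord₁_y.pow k).mul hv2'
      rwa [zero_mul, zero_add, Nat.sub_zero] at this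
    obtain ⟨c', hc', h3, h4⟩ := h.exists_eq_pow_mul (e := N) hc1 hc2 (by omega) le_rfl
    have h5 : u * c' = x ^ k := by
      have : (u * c' - x ^ k) * π ^ N = 0 := by
        linear_combination (-u) * hc' + x ^ k * huv
      exact sub_eq_zero.1 ((mul_right_mem_nonZeroDivisors_eq_zero_iff (pow_mem h.reg _)).1 this)
    have h6 : x ^ k * (w * c' - 1) ∈ P₂ := by
      have : x ^ k * (w * c' - 1) = -((u - x ^ k * w) * c') := by
        linear_combination h5
      rw [this]
      exact (Ideal.neg_mem_iff _).2 (Ideal.mul_mem_right _ _ hk)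
    have h7 : IsUnit (w * c') := h.isUnit_of_branch₂ isUnit_one ((hp₂.mem_or_mem h6).resolve_left hxP)
    have h8 : IsUnit c' := isUnit_of_mul_isUnit_right h7
    exact hp₁.ne_top (Ideal.eq_top_of_isUnit_mem _ (h3.mem π_mem (by omega)) h8)

/-- the infinite thickness case, order zero along the second branch -/
theorem isUnit_of_ord_zero_of_eq_zero (ha : algebraMap S B a = 0) {u v : B} {N : ℕ}
    (huv : u * v = π ^ N) (h2 : Ord P₂ π u 0) : IsUnit u := by
  have hp₁ := h.prime₁
  have hp₂ := h.prime₂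
  have key : ∀ z : B, π * z ∈ Ideal.span {y} → z ∈ Ideal.span {y} := by
    intro z hz
    obtain ⟨c, hc⟩ := Ideal.mem_span_singleton'.1 hz
    have h3 : y * c ∈ P₁ := by
      rw [mul_comm, hc]
      exact Ideal.mul_mem_right _ _ π_mem
    obtain ⟨α, β, hαβ⟩ := Ideal.mem_span_pair.1 ((hp₁.mem_or_mem h3).resolve_left h.notMem₁)
    rw [Ideal.mem_span_singleton']
    refine ⟨β, ?_⟩
    have hxy := h.mul
    rw [ha] at hxy
    have : (β * y - z) * π = 0 := by linear_combination hc + y * hαβ - α * hxy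
    exact sub_eq_zero.1 ((mul_right_mem_nonZeroDivisors_eq_zero_iff h.reg).1 this)
  have huP : u ∉ P₂ := ord_zero_iff.1 h2
  have main : ∀ (n : ℕ) (v : B), u * v - π ^ n ∈ Ideal.span {y} → ∃ v', u * v' - 1 ∈ Ideal.span {y} := by
    intro n
    induction n with
    | zero => intro v hv; exact ⟨v, by simpa using hv⟩
    | succ n ih =>
      intro v hv
      have h3 : u * v ∈ P₂ := by
        have h4 : u * v - π ^ (n + 1) ∈ P₂ := Ideal.span_mono (by simp) hv
        have h5 : π ^ (n + 1) ∈ P₂ := Ideal.pow_mem_of_mem _ (π_mem (x := y)) _ (Nat.succ_pos n)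
        have := Ideal.add_mem _ h4 h5
        simpa using this
      obtain ⟨α, β, hαβ⟩ := Ideal.mem_span_pair.1 ((hp₂.mem_or_mem h3).resolve_left huP)
      refine ih β (key _ ?_)
      obtain ⟨c, hc⟩ := Ideal.mem_span_singleton'.1 hv
      refine Ideal.mem_span_singleton'.2 ⟨c - u * α, ?_⟩
      linear_combination hc - u * hαβ
  obtain ⟨v', hv'⟩ := main N v (by rw [huv, sub_self]; exact Ideal.zero_mem _)
  have h6 : IsUnit (u * v') := h.isUnit_of_branch₂ isUnit_one (Ideal.span_mono (by simp) hv')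
  exact isUnit_of_mul_isUnit_left h6

theorem ord_eq_zero_of_isUnit {u : B} (hu : IsUnit u) {n : ℕ} (h1 : Ord P₁ π u n) : n = 0 := by
  have hp₁ := h.prime₁
  by_contra h0
  exact hp₁.ne_top (Ideal.eq_top_of_isUnit_mem _ (h1.mem π_mem h0) hu)

/-- **Orders of the units of the generic fibre.** -/
theorem dvd_ord_sub [IsNoetherianRing B] {l : ℕ} (ha : algebraMap S B a = if l = 0 then 0 else π ^ l) {u v : B} {N n₁ n₂ : ℕ}
    (huv : u * v = π ^ N) (h1 : Ord P₁ π u n₁) (h2 : Ord P₂ π u n₂) : (l : ℤ) ∣ (n₁ : ℤ) - n₂ := by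
  have key : ∀ {x y : B} (h : IsNode ϖ x y a) {u v : B} {N n₁ : ℕ} (_ : u * v = π ^ N)
      (_ : Ord (Ideal.span {x, π}) π u n₁) (_ : Ord (Ideal.span {y, π}) π u 0), l ∣ n₁ := by
    intro x y h u v N n₁ huv h1 h2
    by_cases hl : l = 0
    · rw [if_pos hl] at ha
      have h3 := h.isUnit_of_ord_zero_of_eq_zero ha huv h2
      rw [h.ord_eq_zero_of_isUnit h3 h1]
      exact dvd_zero l
    · rw [if_neg hl] at ha
      obtain ⟨k, w, -, hk, -⟩ := h.eq_mul_of_ord_zero ha huv h1 h2
      exact ⟨k, hk⟩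
  rcases le_total n₁ n₂ with hle | hle
  · obtain ⟨u', hu', h3, h4⟩ := h.exists_eq_pow_mul (e := n₁) h1 h2 le_rfl hle
    rw [Nat.sub_self] at h3
    have h5 : u' * (π ^ n₁ * v) = π ^ N := by rw [← huv, hu']; ring
    have h6 := key h.symm h5 h4 h3
    obtain ⟨k, hk⟩ := Nat.exists_eq_add_of_le hle
    rw [hk, Nat.add_sub_cancel_left] at h6
    obtain ⟨c, hc⟩ := h6
    refine ⟨-c, ?_⟩
    rw [hk, hc]
    push_cast
    ring
  · obtain ⟨u', hu', h3, h4⟩ := h.exists_eq_pow_mul (e := n₂) h1 h2 hle le_rfl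
    rw [Nat.sub_self] at h4
    have h5 : u' * (π ^ n₂ * v) = π ^ N := by rw [← huv, hu']; ring
    have h6 := key h h5 h3 h4
    obtain ⟨k, hk⟩ := Nat.exists_eq_add_of_le hle
    rw [hk, Nat.add_sub_cancel_left] at h6
    obtain ⟨c, hc⟩ := h6
    refine ⟨c, ?_⟩
    rw [hk, hc]
    push_cast
    ring

end IsNode

end K793.NodeAlg
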