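import Groth.Agent.SemiFact.K793.NodePicInf
import Groth.Agent.SemiFact.K793.NodeUnit
import Mathlib.RingTheory.Flat.Basic
import Mathlib.RingTheory.Flat.Localization
import Mathlib.RingTheory.Flat.FaithfullyFlat.Algebra
import Mathlib.RingTheory.Ideal.AssociatedPrime.Finiteness
import Mathlib.RingTheory.TensorProduct.Basic

/-!
# Descent of principality along a faithfully flat local homomorphism `A → B` with `m_A B = m_B`
-/

set_option autoImplicit false
universe u

open IsLocalRing TensorProduct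

namespace K793.NodeDesc

open K793.NodeAlg

section General

variable {A B : Type u} [CommRing A] [CommRing B] [Algebra A B]

theorem mem_map_of_mul_mem [Module.Flat A B] {j : Ideal A} {t : A} (ht : ∀ c : A, t * c ∈ j → c ∈ j) {b : B}
    (hb : algebraMap A B t * b ∈ j.map (algebraMap A B)) : b ∈ j.map (algebraMap A B) := by
  let φ : (A ⧸ j) →ₗ[A] (A ⧸ j) := LinearMap.lsmul A (A ⧸ j) t
  have hφ : Function.Injective φ := by
    rw [← LinearMap.ker_eq_bot, LinearMap.ker_eq_bot']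
    intro c hc
    obtain ⟨c, rfl⟩ := Ideal.Quotient.mk_surjective c
    refine Ideal.Quotient.eq_zero_iff_mem.2 (ht c (Ideal.Quotient.eq_zero_iff_mem.1 ?_))
    exact hc
  have h1 := Module.Flat.lTensor_preserves_injective_linearMap (M := B) φ hφ
  have key : ∀ c ∈ j.map (algebraMap A B), c ⊗ₜ[A] (1 : A ⧸ j) = 0 := by
    intro c hc
    refine Submodule.span_induction ?_ ?_ ?_ ?_ hc
    · rintro _ ⟨a, ha, rfl⟩
      have : algebraMap A B a ⊗ₜ[A] (1 : A ⧸ j) = (1 : B) ⊗ₜ[A] (Ideal.Quotient.mk j a) := by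
        rw [Algebra.algebraMap_eq_smul_one, TensorProduct.smul_tmul]
        congr 1
        rw [Algebra.smul_def, mul_one]
        rfl
      rw [this, Ideal.Quotient.eq_zero_iff_mem.2 ha, TensorProduct.tmul_zero]
    · simp
    · intro x y _ _ hx hy
      rw [TensorProduct.add_tmul, hx, hy, add_zero]
    · intro r x _ hx
      have : (r • x) ⊗ₜ[A] (1 : A ⧸ j) = r • (x ⊗ₜ[A] (1 : A ⧸ j)) := rfl
      rw [this, hx, smul_zero]
  have h2 : b ⊗ₜ[A] (1 : A ⧸ j) = 0 := by
    apply h1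
    rw [map_zero, LinearMap.lTensor_tmul]
    have : b ⊗ₜ[A] φ 1 = (algebraMap A B t * b) ⊗ₜ[A] (1 : A ⧸ j) := by
      rw [show algebraMap A B t * b = t • b from (Algebra.smul_def _ _).symm, TensorProduct.smul_tmul]
      rfl
    rw [this]
    exact key _ hb
  let ψ : B ⊗[A] (A ⧸ j) →ₐ[A] (B ⧸ j.map (algebraMap A B)) :=
    Algebra.TensorProduct.lift (Ideal.Quotient.mkₐ A _)
      (Ideal.Quotient.liftₐ j (Algebra.ofId A _) (fun a ha => by
        change Ideal.Quotient.mk _ (algebraMap A B a) = 0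
        exact Ideal.Quotient.eq_zero_iff_mem.2 (Ideal.mem_map_of_mem _ ha))) (fun _ _ => Commute.all _ _)
  have h3 : ψ (b ⊗ₜ[A] (1 : A ⧸ j)) = 0 := by rw [h2, map_zero]
  rw [Algebra.TensorProduct.lift_tmul, map_one, mul_one] at h3
  exact Ideal.Quotient.eq_zero_iff_mem.1 h3

theorem exists_regular [IsNoetherianRing A] [IsLocalRing A] {j : Ideal A}
    (hs : ∀ c : A, (∀ z ∈ maximalIdeal A, z * c ∈ j) → c ∈ j) : ∃ t ∈ maximalIdeal A, ∀ c : A, t * c ∈ j → c ∈ j := by
  by_contra hcon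
  push Not at hcon
  have h1 : (maximalIdeal A : Set A) ⊆ ⋃ p ∈ associatedPrimes A (A ⧸ j), (p : Set A) := by
    intro t ht
    obtain ⟨c, hc, hcj⟩ := hcon t ht
    rw [biUnion_associatedPrimes_eq_zero_divisors]
    exact ⟨Ideal.Quotient.mk j c, fun h0 => hcj (Ideal.Quotient.eq_zero_iff_mem.1 h0),
      (Ideal.Quotient.eq_zero_iff_mem.2 hc : Ideal.Quotient.mk j (t * c) = 0)⟩
  have hfin := associatedPrimes.finite A (A ⧸ j)
  obtain ⟨p, hp, hle⟩ := (Ideal.subset_union_prime_finite (f := fun p : Ideal A => p) hfin ⊥ ⊥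
    (fun p hp _ _ => hp.1)).1 h1
  have hpm : p = maximalIdeal A := le_antisymm (IsLocalRing.le_maximalIdeal hp.1.ne_top) hle
  obtain ⟨hpr, x, hx⟩ := (isAssociatedPrime_iff.1 hp)
  obtain ⟨c, rfl⟩ := Ideal.Quotient.mk_surjective x
  have hc : c ∈ j := by
    refine hs c fun z hz => ?_
    rw [← hpm, hx, Submodule.mem_colon_singleton] at hz
    exact Ideal.Quotient.eq_zero_iff_mem.1 hz
  have h1 : (1 : A) ∈ p := by
    rw [hx, Submodule.mem_colon_singleton, Ideal.Quotient.eq_zero_iff_mem.2 hc, smul_zero]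
    exact Submodule.zero_mem _
  exact hpr.ne_top ((Ideal.eq_top_iff_one _).2 h1)

/-- `Sat` passes to the flat extension `B`. -/
theorem sat_map [IsNoetherianRing A] [IsLocalRing A] [IsLocalRing B] [Module.Flat A B] [IsLocalHom (algebraMap A B)] {j : Ideal A}
    (hs : Sat j) : Sat (j.map (algebraMap A B)) := by
  obtain ⟨t, ht, htj⟩ := exists_regular hs
  intro c hc
  refine mem_map_of_mul_mem htj (hc _ ?_)
  exact (IsLocalRing.mem_maximalIdeal _).2 fun hu => ht (isUnit_of_map_unit (algebraMap A B) t hu)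

/-- descent of principality with nonzerodivisor generator -/
theorem exists_generator_of_map [IsLocalRing A] [IsLocalRing B] [Module.FaithfullyFlat A B] {j : Ideal A} {g : B}
    (hg : g ∈ nonZeroDivisors B) (h : j.map (algebraMap A B) = Ideal.span {g}) :
    ∃ f ∈ nonZeroDivisors A, j = Ideal.span {f} := by
  have h1 : g ∈ j.map (algebraMap A B) := h ▸ Ideal.mem_span_singleton_self g
  have key : ∀ f ∈ j, ∃ c, algebraMap A B f = c * g := fun f hf => by
    obtain ⟨c, hc⟩ := Ideal.mem_span_singleton'.1 (h ▸ Ideal.mem_map_of_mem (algebraMap A B) hf)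
    exact ⟨c, hc.symm⟩
  have h2 : ∃ f ∈ j, ∃ c, algebraMap A B f = c * g ∧ IsUnit c := by
    by_contra hcon
    push Not at hcon
    have h3 : ∀ w ∈ j.map (algebraMap A B), ∃ c ∈ maximalIdeal B, w = c * g := by
      intro w hw
      refine Submodule.span_induction ?_ ?_ ?_ ?_ hw
      · rintro _ ⟨f, hf, rfl⟩
        obtain ⟨c, hc⟩ := key f hf
        exact ⟨c, hcon f hf c hc, hc⟩
      · exact ⟨0, Ideal.zero_mem _, by simp⟩
      · rintro x y _ _ ⟨c, hc, rfl⟩ ⟨c', hc', rfl⟩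
        exact ⟨c + c', Ideal.add_mem _ hc hc', by ring⟩
      · rintro a x _ ⟨c, hc, rfl⟩
        exact ⟨a * c, Ideal.mul_mem_left _ _ hc, by rw [smul_eq_mul, mul_assoc]⟩
    obtain ⟨c, hc, hcg⟩ := h3 g h1
    have h4 : (1 - c) * g = 0 := by rw [sub_mul, one_mul, ← hcg, sub_self]
    have h5 := (mul_right_mem_nonZeroDivisors_eq_zero_iff hg).1 h4
    rw [sub_eq_zero] at h5
    exact (Ideal.IsPrime.ne_top (I := maximalIdeal B) inferInstance) ((Ideal.eq_top_iff_one _).2 (h5 ▸ hc))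
  obtain ⟨f, hf, c, hc, hcu⟩ := h2
  refine ⟨f, ?_, ?_⟩
  · have h6 : algebraMap A B f ∈ nonZeroDivisors B := hc ▸ mul_mem hcu.mem_nonZeroDivisors hg
    rw [mem_nonZeroDivisors_iff_right]
    intro w hw
    have hinj : Function.Injective (algebraMap A B) := FaithfulSMul.algebraMap_injective A B
    apply hinj
    rw [map_zero]
    refine (mul_right_mem_nonZeroDivisors_eq_zero_iff h6).1 ?_
    rw [← map_mul, hw, map_zero]
  · have h7 : j.map (algebraMap A B) = (Ideal.span {f}).map (algebraMap A B) := by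
      rw [h, Ideal.map_span, Set.image_singleton, hc]
      exact (Ideal.span_singleton_mul_left_unit hcu g).symm
    rw [← Ideal.comap_map_eq_self_of_faithfullyFlat (B := B) j, h7, Ideal.comap_map_eq_self_of_faithfullyFlat]

/-- common multiplier outside a prime -/
theorem exists_common [IsNoetherianRing A] {q : Ideal A} (hq : q.IsPrime) {j j' : Ideal A} (h : ∀ b ∈ j, ∃ s, s ∉ q ∧ s * b ∈ j') :
    ∃ s, s ∉ q ∧ ∀ b ∈ j, s * b ∈ j' := by
  obtain ⟨F, hF⟩ := (IsNoetherian.noetherian j : j.FG)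
  have : ∀ F : Finset A, (∀ b ∈ F, ∃ s, s ∉ q ∧ s * b ∈ j') → ∃ s, s ∉ q ∧ ∀ b ∈ F, s * b ∈ j' := by
    classical
    intro F
    induction F using Finset.induction_on with
    | empty => exact fun _ => ⟨1, (Ideal.ne_top_iff_one q).1 hq.ne_top, by simp⟩
    | insert a F ha ih =>
      intro hF
      obtain ⟨s, hs, h1⟩ := ih fun b hb => hF b (Finset.mem_insert_of_mem hb)
      obtain ⟨t, ht, h2⟩ := hF a (Finset.mem_insert_self _ _)
      refine ⟨s * t, fun h3 => (hq.mem_or_mem h3).elim hs ht, fun b hb => ?_⟩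
      rcases Finset.mem_insert.1 hb with rfl | hb
      · rw [mul_assoc]; exact j'.mul_mem_left _ h2
      · rw [mul_comm s t, mul_assoc]; exact j'.mul_mem_left _ (h1 b hb)
  obtain ⟨s, hs, h1⟩ := this F fun b hb => h b (hF ▸ Ideal.subset_span hb)
  refine ⟨s, hs, fun b hb => ?_⟩
  rw [← hF] at hb
  refine Submodule.span_induction (fun x hx => h1 x hx) (by simp) (fun x y _ _ hx hy => by rw [mul_add]; exact add_mem hx hy)
    (fun a x _ hx => by rw [smul_eq_mul, mul_left_comm]; exact j'.mul_mem_left _ hx) hb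

/-- local principality off `π₀` gives a `PInv` -/
theorem exists_inverse [IsNoetherianRing A] {π₀ d : A} {j : Ideal A} (hdj : d ∈ j)
    (hloc : ∀ q : Ideal A, q.IsPrime → π₀ ∉ q → ∃ g ∈ j, ∀ b ∈ j, ∃ s, s ∉ q ∧ s * b ∈ Ideal.span {g}) :
    ∃ (j' : Ideal A) (N : ℕ), j * j' ≤ Ideal.span {d} ∧ π₀ ^ N * d ∈ j * j' := by
  let j' : Ideal A :=
    { carrier := {a | ∀ b ∈ j, a * b ∈ Ideal.span {d}}
      add_mem' := fun ha hb c hc => by rw [add_mul]; exact add_mem (ha c hc) (hb c hc)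
      zero_mem' := fun b _ => by simp
      smul_mem' := fun c a ha b hb => by rw [smul_eq_mul, mul_assoc]; exact Ideal.mul_mem_left _ _ (ha b hb) }
  have hj' : j * j' ≤ Ideal.span {d} := by
    rw [Ideal.mul_le]
    intro b hb a ha
    rw [mul_comm]
    exact ha b hb
  let c : Ideal A := Submodule.comap (LinearMap.toSpanSingleton A A d) (j * j')
  have hc : π₀ ∈ c.radical := by
    rw [Ideal.radical_eq_sInf, Submodule.mem_sInf]
    rintro q ⟨hcq, hq⟩
    by_contra hπ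
    obtain ⟨g, hg, hgl⟩ := hloc q hq hπ
    obtain ⟨s, hs, hsl⟩ := exists_common hq hgl
    obtain ⟨w, hw⟩ := Ideal.mem_span_singleton'.1 (hsl d hdj)
    have h1 : s * w ∈ j' := by
      intro b hb
      obtain ⟨v, hv⟩ := Ideal.mem_span_singleton'.1 (hsl b hb)
      exact Ideal.mem_span_singleton'.2 ⟨s * v, by linear_combination (-v) * hw + w * hv⟩
    have h2 : s * s ∈ c := by
      change (s * s) • d ∈ j * j'
      have : (s * s) • d = g * (s * w) := by rw [smul_eq_mul]; linear_combination (-s) * hw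
      rw [this]
      exact Ideal.mul_mem_mul hg h1
    exact (hq.mem_or_mem (hcq h2)).elim hs hs
  obtain ⟨N, hN⟩ := hc
  exact ⟨j', N, hj', hN⟩

theorem pInv_map [IsNoetherianRing A] [Module.Flat A B] {π₀ d : A} {j : Ideal A} (hdj : d ∈ j) (hd : d ∈ nonZeroDivisors A)
    (hloc : ∀ q : Ideal A, q.IsPrime → π₀ ∉ q → ∃ g ∈ j, ∀ b ∈ j, ∃ s, s ∉ q ∧ s * b ∈ Ideal.span {g}) :
    PInv (algebraMap A B π₀) (j.map (algebraMap A B)) := by
  obtain ⟨j', N, h1, h2⟩ := exists_inverse hdj hloc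
  refine ⟨j'.map (algebraMap A B), algebraMap A B d, N, ?_, ?_, ?_⟩
  · have h3 : IsSMulRegular A d := fun x y hxy => by
      have h4 : (x - y) * d = 0 := by
        have : d * x = d * y := hxy
        linear_combination this
      exact sub_eq_zero.1 ((mul_right_mem_nonZeroDivisors_eq_zero_iff hd).1 h4)
    have h5 := h3.of_flat (S := B)
    rw [mem_nonZeroDivisors_iff_right]
    intro x hx
    apply h5
    simp only [smul_eq_mul, mul_zero]
    rw [mul_comm]
    exact hx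
  · rw [← Ideal.map_mul, ← Set.image_singleton, ← Ideal.map_span]
    exact Ideal.map_mono h1
  · rw [← Ideal.map_mul, ← map_pow, ← map_mul]
    exact Ideal.mem_map_of_mem _ h2

theorem ordI_map {P : Ideal B} (hP : P.IsPrime) {p : Ideal A} (hp : P.comap (algebraMap A B) = p) {π₀ : A} {j : Ideal A} {o : ℕ}
    (h : OrdI p π₀ j o) : OrdI P (algebraMap A B π₀) (j.map (algebraMap A B)) o := by
  subst hp
  refine ⟨fun b hb => ?_, ?_⟩
  · refine Submodule.span_induction ?_ ?_ ?_ ?_ hb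
    · rintro _ ⟨a, ha, rfl⟩
      obtain ⟨s, hs, h1⟩ := h.1 a ha
      refine ⟨algebraMap A B s, hs, ?_⟩
      rw [← map_mul, ← map_pow, ← Set.image_singleton, ← Ideal.map_span]
      exact Ideal.mem_map_of_mem _ h1
    · exact ⟨1, (Ideal.ne_top_iff_one P).1 hP.ne_top, by simp⟩
    · rintro x y _ _ ⟨s, hs, hx⟩ ⟨t, ht, hy⟩
      refine ⟨s * t, fun h3 => (hP.mem_or_mem h3).elim hs ht, ?_⟩
      rw [mul_add]
      refine add_mem ?_ ?_
      · rw [mul_comm s t, mul_assoc]; exact Ideal.mul_mem_left _ _ hx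
      · rw [mul_assoc]; exact Ideal.mul_mem_left _ _ hy
    · rintro a x _ ⟨s, hs, hx⟩
      refine ⟨s, hs, ?_⟩
      rw [smul_eq_mul, mul_left_comm]
      exact Ideal.mul_mem_left _ _ hx
  · obtain ⟨s, hs, h1⟩ := h.2
    refine ⟨algebraMap A B s, hs, ?_⟩
    rw [← map_pow, ← map_mul]
    exact Ideal.mem_map_of_mem _ h1

theorem peq_map {π₀ : A} {j j' : Ideal A} (h : PEq π₀ j j') :
    PEq (algebraMap A B π₀) (j.map (algebraMap A B)) (j'.map (algebraMap A B)) := by
  have key : ∀ {j j' : Ideal A}, (∀ b ∈ j, ∃ n : ℕ, π₀ ^ n * b ∈ j') → ∀ b ∈ j.map (algebraMap A B), ∃ n : ℕ,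
      algebraMap A B π₀ ^ n * b ∈ j'.map (algebraMap A B) := by
    intro j j' h b hb
    refine Submodule.span_induction ?_ ?_ ?_ ?_ hb
    · rintro _ ⟨a, ha, rfl⟩
      obtain ⟨n, hn⟩ := h a ha
      exact ⟨n, by rw [← map_pow, ← map_mul]; exact Ideal.mem_map_of_mem _ hn⟩
    · exact ⟨0, by simp⟩
    · rintro x y _ _ ⟨n, hx⟩ ⟨m, hy⟩
      refine ⟨n + m, ?_⟩
      rw [mul_add]
      refine add_mem ?_ ?_
      · rw [pow_add, mul_comm (_ ^ n), mul_assoc]; exact Ideal.mul_mem_left _ _ hx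
      · rw [pow_add, mul_assoc]; exact Ideal.mul_mem_left _ _ hy
    · rintro a x _ ⟨n, hx⟩
      refine ⟨n, ?_⟩
      rw [smul_eq_mul, mul_left_comm]
      exact Ideal.mul_mem_left _ _ hx
  exact ⟨key h.1, key h.2⟩

end General

/-- **The local criterion**: at the local ring `A` with the element `π₀` and the two primes `p₁, p₂`, an ideal which
is invertible off `π₀` has a class `δ` modulo `l` that decides when it (adjusted at `p₁, p₂`) is principal. -/
def NodeLike {A : Type u} [CommRing A] [IsLocalRing A] (π₀ : A) (p₁ p₂ : Ideal A) (l : ℕ) : Prop :=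
  ∀ j₀ : Ideal A, (∃ d ∈ j₀, d ∈ nonZeroDivisors A) →
    (∀ q : Ideal A, q.IsPrime → π₀ ∉ q → ∃ g ∈ j₀, ∀ b ∈ j₀, ∃ s, s ∉ q ∧ s * b ∈ Ideal.span {g}) →
    ∃ δ : ℤ, ∀ (j : Ideal A) (o₁ o₂ : ℕ), PEq π₀ j j₀ → Sat j → OrdI p₁ π₀ j o₁ → OrdI p₂ π₀ j o₂ →
      (l : ℤ) ∣ δ - ((o₁ : ℤ) - o₂) → ∃ g ∈ nonZeroDivisors A, j = Ideal.span {g}

theorem nodeLike_of_isNode {S A B : Type u} [CommRing S] [CommRing A] [CommRing B] [IsLocalRing A] [IsLocalRing B] [Algebra S B]
    [Algebra A B] [IsNoetherianRing A] [IsNoetherianRing B] [IsLocalHom (algebraMap A B)] [Module.FaithfullyFlat A B]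
    [IsDomain S] [IsDiscreteValuationRing S] {ϖ : S} (hϖ : Irreducible ϖ) [IsAdicComplete (Ideal.span {ϖ}) S]
    {x y : B} {a : S} (h : IsNode ϖ x y a) {π₀ : A} (hπ : algebraMap A B π₀ = algebraMap S B ϖ)
    {l : ℕ} (ha : algebraMap S B a = if l = 0 then 0 else algebraMap S B ϖ ^ l) {p₁ p₂ : Ideal A}
    (hp₁ : (Ideal.span {x, algebraMap S B ϖ}).comap (algebraMap A B) = p₁)
    (hp₂ : (Ideal.span {y, algebraMap S B ϖ}).comap (algebraMap A B) = p₂) : NodeLike π₀ p₁ p₂ l := by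
  rintro j₀ ⟨d, hdj, hd⟩ hloc
  obtain ⟨b, hb, hjb⟩ := h.exists_generator hϖ ha (j₀.map (algebraMap A B)) (hπ ▸ pInv_map hdj hd hloc)
  obtain ⟨n₁, hn₁⟩ := h.exists_ord₁ hb
  obtain ⟨n₂, hn₂⟩ := h.symm.exists_ord₁ hb
  refine ⟨n₁ - n₂, fun j o₁ o₂ hj hs h1 h2 hl => ?_⟩
  obtain ⟨g, hg, hgj⟩ := h.exists_eq_span_of_zmod (j := j.map (algebraMap A B)) (sat_map hs) hb ((hπ ▸ peq_map hj).trans hjb)
    (hπ ▸ ordI_map h.prime₁ hp₁ h1) (hπ ▸ ordI_map h.prime₂ hp₂ h2) hn₁ hn₂ (l := l) (by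
      by_cases hl0 : l = 0
      · exact Or.inl hl0
      · exact Or.inr (by rw [ha, if_neg hl0])) (by
      convert hl using 1
      ring)
  exact exists_generator_of_map hg hgj

end K793.NodeDesc
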