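import Groth.Agent.SemiFact.K793.VertDeg
import Groth.Agent.Models.H38.TrivGen

/-!
# The multidegree formula
-/

set_option autoImplicit false
universe u
open CategoryTheory CategoryTheory.Limits AlgebraicGeometry IsLocalRing

namespace K793.VertMain

open Groth.Agent.Divis.CartierBasic Groth.Agent.Divis.CartierStalk Groth.Agent.CycB.LocQuot
open K793.NodeAlg K793.NodeDesc K793.NodeMin K793.Extend K793.VertAlg K793.FibGeom K793.VertUniq K793.VertDeg
open Groth.Agent.CycB.FiniteFlat Groth.Agent.Dix.InterNum Groth.Agent.Dix.InterSurf Groth.Agent.Models.H39.InterProper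

variable {R : Type u} [CommRing R] [IsDomain R] [IsDiscreteValuationRing R] {X : Scheme.{u}}
  (f : X ⟶ Spec (CommRingCat.of R))

/-- A nodal family with a labelled dual graph -/
structure Setup (ϖ : R) {V E : Type} (η : V → X) (pt : E → X) (ends : E → V × V) (l : E → ℕ) : Prop where
  gen : IsGenPts f η
  pt_inj : Function.Injective pt
  hend : ∀ e v, ((ends e).1 = v ∨ (ends e).2 = v) ↔ η v ⤳ pt e
  smooth : ∀ x, f x = (closedPoint R : PrimeSpectrum R) → (∀ e, pt e ≠ x) → ∀ a b, η a ⤳ x → η b ⤳ x → a = b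
  ufd : ∀ x, f x = (closedPoint R : PrimeSpectrum R) → (∀ e, pt e ≠ x) → (∀ v, η v ≠ x) →
      ∃ _ : IsDomain (X.presheaf.stalk x), UniqueFactorizationMonoid (X.presheaf.stalk x)
  data : ∀ e, VertData (DualGr.stalkHom f (pt e)) (DualGr.stalkHom f (pt e) ϖ) (l e)
    (primeOf ((hend e _).1 (Or.inl rfl))).asIdeal (primeOf ((hend e _).1 (Or.inr rfl))).asIdeal

variable {f}

theorem isLocalHom_stalkHom {x : X} (hx : f x = (closedPoint R : PrimeSpectrum R)) : IsLocalHom (DualGr.stalkHom f x) := by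
  refine ⟨fun r hr => ?_⟩
  rw [K793.Basic.isUnit_stalkHom_iff, hx] at hr
  exact not_not.1 hr

theorem exists_setup [IsLocallyNoetherian X] [Flat f] [LocallyOfFinitePresentation f] {V E : Type}
    {cv : V → Set ↥(f.fiber (IsLocalRing.closedPoint R))} {ce : E → ↥(f.fiber (IsLocalRing.closedPoint R))}
    {ends : E → V × V} {ϖ : R} (hϖ : Irreducible ϖ) {l : E → ℕ}
    (hΓ : DualGr.IsLabelledDualGraph R f cv ce ends (fun e => if l e = 0 then 0 else ϖ ^ l e)) :
    ∃ (η : V → X), (∀ (v : V) (z : f.fiber (closedPoint R)), z ∈ cv v ↔ η v ⤳ f.fiberι (closedPoint R) z) ∧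
      Setup f ϖ η (fun e => f.fiberι (closedPoint R) (ce e)) ends l := by
  obtain ⟨η, hη, hcv⟩ := K793.FibGeom.exists_genPts hΓ.isDualGraph
  have hend : ∀ e v, ((ends e).1 = v ∨ (ends e).2 = v) ↔ η v ⤳ f.fiberι (IsLocalRing.closedPoint R) (ce e) := fun e v =>
    (hΓ.isDualGraph.incidence e v).trans (hcv v (ce e))
  have hns : ∀ x, f x = (closedPoint R : PrimeSpectrum R) → (∀ e, f.fiberι (closedPoint R) (ce e) ≠ x) →
      ∃ z, f.fiberι (closedPoint R) z = x ∧ z ∉ DualGr.nonsmoothPts (f.fiberToSpecResidueField (closedPoint R)) := by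
    intro x hx hne
    obtain ⟨z, rfl⟩ := K793.Basic.exists_fiber_point f x hx
    refine ⟨z, rfl, fun hz => ?_⟩
    obtain ⟨e, he⟩ := hΓ.isDualGraph.pt_surjective z hz
    exact hne e (by rw [he])
  refine ⟨η, hcv, hη, ?_, hend, ?_, ?_, ?_⟩
  · intro e e' h
    exact hΓ.isDualGraph.pt_injective ((f.fiberι (closedPoint R)).isEmbedding.injective h)
  · intro x hx hne a b ha hb
    obtain ⟨z, rfl, hz⟩ := hns x hx hne
    exact unique_gen hϖ hη z hz ha hb
  · intro x hx hne _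
    obtain ⟨z, rfl, hz⟩ := hns x hx hne
    have := K793.FibGeom.isRegularLocalRing_of_smooth z hz
    obtain ⟨h1, h2⟩ := Groth.Agent.S2821.result (X.presheaf.stalk (f.fiberι (closedPoint R) z))
    exact ⟨h1, h2⟩
  · intro e
    have hloc : IsLocalHom (DualGr.stalkHom f (f.fiberι (IsLocalRing.closedPoint R) (ce e))) :=
      isLocalHom_stalkHom (Groth.Agent.CycB.FiberStalk.fiberι_mem f (closedPoint R) (ce e))
    obtain ⟨p₁, p₂, hd⟩ := exists_vertData R _ (DualGr.stalkHom f (f.fiberι (IsLocalRing.closedPoint R) (ce e))) hϖ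
      (K793.Basic.stalkHom_mem_nonZeroDivisors f _ hϖ.ne_zero) (l e) (hΓ.thick e)
    refine vertData_of hη hϖ hd _ _ fun v hv => ?_
    rcases (hend e v).2 hv with h | h
    · exact Or.inl h.symm
    · exact Or.inr h.symm

namespace Setup

variable {ϖ : R} (hϖ : Irreducible ϖ) {V E : Type} {η : V → X} {pt : E → X} {ends : E → V × V} {l : E → ℕ}
  (S : Setup f ϖ η pt ends l)

include hϖ S

omit hϖ in
theorem hend₁ (e : E) : η (ends e).1 ⤳ pt e := (S.hend e _).1 (Or.inl rfl)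

omit hϖ in
theorem hend₂ (e : E) : η (ends e).2 ⤳ pt e := (S.hend e _).1 (Or.inr rfl)

theorem exists_vert [Fintype V] [IsLocallyNoetherian X] [Flat f] [IsReduced (f.fiber (closedPoint R))] (φ : V → ℕ)
    (hφ : ∀ e, (l e : ℤ) ∣ (φ (ends e).1 : ℤ) - φ (ends e).2) : ∃ J : X.IdealSheafData, IsVert f ϖ η J φ := by
  have hoi := K793.FibGeom.isOpenImmersion_fst f
  have hjr := K793.FibGeom.mem_range_iff f
  obtain ⟨J, hJ, hJj, hord⟩ := K793.VertExt.exists_vert f (pullback.fst f (Neron.genPt R)) hjr hϖ η S.gen.closed S.gen.inj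
    (S.gen.maximalIdeal_eq hϖ) pt S.ufd ends (hend₁ S) (hend₂ S) l (fun e => (S.data e).vert) φ hφ
  exact ⟨J, isVert_of_comap _ hjr hJ hJj hord⟩

theorem hz_vert [Fintype E] [DecidableEq V] [IsLocallyNoetherian X] [Flat f] [IsReduced (f.fiber (closedPoint R))] [IsProper f]
    (Γ : ArSurf.VertComp R (Over.mk f)) (v : V) (hg : gp Γ = η v) {J : X.IdealSheafData} {φ : V → ℕ} (hJ : IsVert f ϖ η J φ)
    (hv : φ v = 0) : hz Γ J = ∑ e, ((if (ends e).1 = v then φ (ends e).2 / l e else 0) +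
      (if (ends e).2 = v then φ (ends e).1 / l e else 0)) := by
  have hpr : IsProper (Over.mk f).hom := (inferInstance : IsProper f)
  have hpr2 := isProper_curve Γ
  have hns : gp Γ ∉ J.support := by
    rw [hg, notMem_support_iff_stalkIdeal_eq_top, hJ.ord v, hv, pow_zero, Ideal.span_singleton_one]
  have hD' := isEff_comap_of_generic Γ.ι hJ.eff hns
  have hfin := Groth.Agent.VarietyB.DegFin.isFinite_effCartier (IsLocalRing.ResidueField R) Γ.curve.left Γ.dim_eq.le _ hD'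
  rw [hz_eq f Γ J hfin]
  have hst : ∀ x, stalkIdeal (Γ.ι.ker ⊔ J) x = stalkIdeal (IntMult.ptIdeal (η v) ⊔ J) x := by
    intro x
    rw [stalkIdeal_sup, stalkIdeal_sup]
    congr 1
    rw [← hg]
    exact Groth.Agent.CycA.DivMult.stalkIdeal_ker_eq_ptIdeal Γ.ι x
  have hF : ∀ x : X, (rlen ((Ideal.Quotient.mk (stalkIdeal (Γ.ι.ker ⊔ J) x)).comp (DualGr.stalkHom f x))).toNat =
      (rlen ((Ideal.Quotient.mk (stalkIdeal (IntMult.ptIdeal (η v) ⊔ J) x)).comp (DualGr.stalkHom f x))).toNat := fun x => by rw [hst x]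
  rw [finsum_congr hF, ← finsum_comp_injective pt S.pt_inj]
  · rw [finsum_eq_sum_of_fintype]
    refine Finset.sum_congr rfl fun e _ => ?_
    exact local_node hϖ S.gen hJ (hend₁ S e) (hend₂ S e) (fun w hw => by
      rcases (S.hend e w).2 hw with h | h
      · exact Or.inl h.symm
      · exact Or.inr h.symm) (S.data e) v hv
  · intro x hx
    by_cases hxc : f x = (closedPoint R : PrimeSpectrum R)
    · exact local_smooth hϖ S.gen hJ (S.smooth x hxc fun e he => hx ⟨e, he⟩) v hv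
    · have h1 : stalkIdeal (IntMult.ptIdeal (η v) ⊔ J) x = ⊤ := by
        rw [stalkIdeal_sup, hJ.top x hxc, sup_top_eq]
      rw [rlen_eq_zero _ (Ideal.Quotient.subsingleton_iff.2 h1)]
      rfl

theorem dd_vert_zero [Fintype E] [DecidableEq V] [IsLocallyNoetherian X] [Flat f] [IsReduced (f.fiber (closedPoint R))] [IsProper f]
    (Γ : ArSurf.VertComp R (Over.mk f)) (v : V) (hg : gp Γ = η v) {J : X.IdealSheafData} {φ : V → ℕ} (hJ : IsVert f ϖ η J φ)
    (hv : φ v = 0) : dd Γ J = - LabGraph.mdeg ends l (fun w => (φ w : ℤ)) v := by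
  unfold LabGraph.mdeg
  have hpr : IsProper (Over.mk f).hom := (inferInstance : IsProper f)
  have hns : gp Γ ∉ J.support := by
    rw [hg, notMem_support_iff_stalkIdeal_eq_top, hJ.ord v, hv, pow_zero, Ideal.span_singleton_one]
  rw [Groth.Agent.Models.H39.InterProper.dd_eq Γ hJ.eff hns, S.hz_vert hϖ Γ v hg hJ hv, Nat.cast_sum]
  congr 1
  refine Finset.sum_congr rfl fun e _ => ?_
  rw [Nat.cast_add]
  congr 1
  · split_ifs with h
    · simp only [h, hv, Nat.cast_zero, sub_zero, Int.natCast_ediv]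
    · rfl
  · split_ifs with h
    · simp only [h, hv, Nat.cast_zero, sub_zero, Int.natCast_ediv]
    · rfl

/-- **The multidegree formula.** -/
theorem dd_vert [Fintype V] [Fintype E] [DecidableEq V] [IsLocallyNoetherian X] [Flat f] [IsReduced (f.fiber (closedPoint R))] [IsProper f]
    (Γ : ArSurf.VertComp R (Over.mk f)) (v : V) (hg : gp Γ = η v) {J : X.IdealSheafData} {φ : V → ℕ} (hJ : IsVert f ϖ η J φ) :
    dd Γ J = - LabGraph.mdeg ends l (fun w => (φ w : ℤ)) v := by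
  classical
  have hpr : IsProper (Over.mk f).hom := (inferInstance : IsProper f)
  have hfl : Flat (Over.mk f).hom := (inferInstance : Flat f)
  have hdvd : ∀ e, (l e : ℤ) ∣ (φ (ends e).1 : ℤ) - φ (ends e).2 := fun e => hJ.dvd hϖ (hend₁ S e) (hend₂ S e) (S.data e).node
  -- the vertices connected to `v` through edges with label zero
  let C : V → Prop := fun w => Relation.EqvGen (fun a b => ∃ e, l e = 0 ∧ ends e = (a, b)) v w
  have hCe : ∀ e, l e = 0 → (C (ends e).1 ↔ C (ends e).2) := by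
    intro e he
    have h1 : Relation.EqvGen (fun a b => ∃ e, l e = 0 ∧ ends e = (a, b)) (ends e).1 (ends e).2 :=
      Relation.EqvGen.rel _ _ ⟨e, he, rfl⟩
    exact ⟨fun h => Relation.EqvGen.trans _ _ _ h h1, fun h => Relation.EqvGen.trans _ _ _ h (Relation.EqvGen.symm _ _ h1)⟩
  have hCφ : ∀ w, C w → φ w = φ v := by
    have key : ∀ a b, Relation.EqvGen (fun a b => ∃ e, l e = 0 ∧ ends e = (a, b)) a b → φ a = φ b := by
      intro a b h
      induction h with
      | rel a b h =>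
        obtain ⟨e, he, hab⟩ := h
        have := hdvd e
        rw [he, hab] at this
        simp only [Nat.cast_zero, zero_dvd_iff] at this
        omega
      | refl a => rfl
      | symm a b _ ih => exact ih.symm
      | trans a b c _ _ ih1 ih2 => exact ih1.trans ih2
    exact fun w hw => (key v w hw).symm
  let c : ℕ := φ v * ∏ e, (if l e = 0 then 1 else l e)
  have hprod : 0 < ∏ e, (if l e = 0 then 1 else l e) := Finset.prod_pos fun e _ => by
    split_ifs with h
    · exact Nat.one_pos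
    · exact Nat.pos_of_ne_zero h
  have hcv : φ v ≤ c := Nat.le_mul_of_pos_right _ hprod
  have hcl : ∀ e, l e ≠ 0 → (l e : ℤ) ∣ c := by
    intro e he
    have h1 : (if l e = 0 then 1 else l e) ∣ ∏ e, (if l e = 0 then 1 else l e) := Finset.dvd_prod_of_mem _ (Finset.mem_univ e)
    rw [if_neg he] at h1
    exact_mod_cast h1.mul_left (φ v)
  let φ₂ : V → ℕ := fun w => if C w then 0 else c
  have hCv : C v := Relation.EqvGen.refl v
  have hle : ∀ w, φ v ≤ φ w + φ₂ w := by
    intro w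
    by_cases hw : C w
    · simp only [φ₂, if_pos hw, hCφ w hw, add_zero, le_refl]
    · simp only [φ₂, if_neg hw]
      omega
  have hd₂ : ∀ e, (l e : ℤ) ∣ (φ₂ (ends e).1 : ℤ) - φ₂ (ends e).2 := by
    intro e
    by_cases he : l e = 0
    · have h1 := hCe e he
      by_cases h2 : C (ends e).1
      · simp only [φ₂, if_pos h2, if_pos (h1.1 h2), sub_self, dvd_zero]
      · simp only [φ₂, if_neg h2, if_neg (fun h3 => h2 (h1.2 h3)), sub_self, dvd_zero]
    · have h1 := hcl e he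
      have h2 : ∀ w, (l e : ℤ) ∣ φ₂ w := by
        intro w
        by_cases hw : C w
        · simp only [φ₂, if_pos hw, Nat.cast_zero, dvd_zero]
        · simp only [φ₂, if_neg hw]
          exact h1
      exact dvd_sub (h2 _) (h2 _)
  let φ₁ : V → ℕ := fun w => φ w + φ₂ w - φ v
  have hφ₁ : ∀ w, (φ₁ w : ℤ) = φ w + φ₂ w - φ v := by
    intro w
    have := hle w
    simp only [φ₁]
    omega
  have hd₁ : ∀ e, (l e : ℤ) ∣ (φ₁ (ends e).1 : ℤ) - φ₁ (ends e).2 := by
    intro e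
    rw [hφ₁, hφ₁]
    have h5 : ((φ (ends e).1 : ℤ) + φ₂ (ends e).1 - φ v) - ((φ (ends e).2 : ℤ) + φ₂ (ends e).2 - φ v) =
      ((φ (ends e).1 : ℤ) - φ (ends e).2) + ((φ₂ (ends e).1 : ℤ) - φ₂ (ends e).2) := by ring
    rw [h5]
    exact dvd_add (hdvd e) (hd₂ e)
  obtain ⟨J₁, hJ₁⟩ := S.exists_vert hϖ φ₁ hd₁
  obtain ⟨J₂, hJ₂⟩ := S.exists_vert hϖ φ₂ hd₂
  have hφ₂v : φ₂ v = 0 := if_pos hCv
  have hφ₁v : φ₁ v = 0 := by simp only [φ₁, hφ₂v]; omega
  let Q : X.IdealSheafData := Groth.Agent.Dix.VertForm.prin (Over.mk f) (ϖ ^ φ v)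
  have hprin : IsVert f ϖ η Q (fun _ => φ v) := isVert_prin (f := f) (η := η) hϖ (φ v)
  have hQ : dd Γ Q = 0 := Groth.Agent.Models.H39.InterProper.dd_prin Γ (pow_ne_zero _ hϖ.ne_zero)
  have h1 : J * J₂ = J₁ * Q := by
    refine (hJ.mul hJ₂).ext hϖ S.gen ?_
    have h2 := hJ₁.mul hprin
    have h3 : (fun w => φ₁ w + φ v) = fun w => φ w + φ₂ w := by
      funext w
      have := hle w
      simp only [φ₁]
      omega
    rwa [h3] at h2
  have h2 := congrArg (dd Γ) h1
  have h4 : dd Γ (J * J₂) = dd Γ J + dd Γ J₂ := Groth.Agent.Models.H39.InterProper.dd_mul Γ hJ.eff hJ₂.eff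
  have h5 : dd Γ (J₁ * Q) = dd Γ J₁ + dd Γ Q := Groth.Agent.Models.H39.InterProper.dd_mul Γ hJ₁.eff hprin.eff
  rw [h4, h5, hQ, S.dd_vert_zero hϖ Γ v hg hJ₁ hφ₁v, S.dd_vert_zero hϖ Γ v hg hJ₂ hφ₂v] at h2
  have h3 : LabGraph.mdeg ends l (fun w => (φ₁ w : ℤ)) v = LabGraph.mdeg ends l (fun w => (φ w : ℤ)) v +
      LabGraph.mdeg ends l (fun w => (φ₂ w : ℤ)) v := by
    unfold LabGraph.mdeg
    rw [← Finset.sum_add_distrib]
    refine Finset.sum_congr rfl fun e _ => ?_
    have e1 : ((φ₁ (ends e).2 : ℤ) - φ₁ (ends e).1) / (l e : ℤ) = ((φ (ends e).2 : ℤ) - φ (ends e).1) / (l e : ℤ) +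
        ((φ₂ (ends e).2 : ℤ) - φ₂ (ends e).1) / (l e : ℤ) := by
      rw [← Int.add_ediv_of_dvd_right, hφ₁, hφ₁]
      · congr 1; ring
      · rw [← dvd_neg, neg_sub]; exact hd₂ e
    have e2 : ((φ₁ (ends e).1 : ℤ) - φ₁ (ends e).2) / (l e : ℤ) = ((φ (ends e).1 : ℤ) - φ (ends e).2) / (l e : ℤ) +
        ((φ₂ (ends e).1 : ℤ) - φ₂ (ends e).2) / (l e : ℤ) := by
      rw [← Int.add_ediv_of_dvd_right, hφ₁, hφ₁]
      · congr 1; ring
      · exact hd₂ e
    rw [e1, e2]
    split_ifs <;> ring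
  rw [h3] at h2
  linarith

end Setup

end K793.VertMain
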