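import Groth.Agent.Models.H38.TrivGen
import Groth.Agent.Models.H39.InterProper
import Groth.Agent.Models.H55.CompGeom
import Groth.Agent.Models.H71.Comps
import Groth.Agent.Models.H50.InterNonneg
import Groth.Agent.Models.H65.GenTriv
import Groth.Agent.Divis.ColonIdeal
import Groth.Agent.SemiFact.K793.Basic

/-!
Vertical components of nodal families over a discrete valuation ring.
-/

set_option autoImplicit false
universe u

open CategoryTheory CategoryTheory.Limits AlgebraicGeometry IsLocalRing TopologicalSpace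

namespace K793.Vert

open Groth.Agent.Models.H55.CompGeom Groth.Agent.Dix.FibreMin Groth.Agent.Divis.CartierBasic
open Groth.Agent.Models Groth.Agent.Models.H39.InterProper Groth.Agent.Dix.InterSurf Groth.Agent.Dix.VertForm

variable {R : Type u} [CommRing R] [IsDomain R] [IsDiscreteValuationRing R] {X : Scheme.{u}}
  (f : X ⟶ Spec (CommRingCat.of R))

/-- the closure of a minimal point of the special fibre, in the fibre -/
theorem exists_component (ξ : X) (hξ : f ξ = (closedPoint R : PrimeSpectrum R)) (hmin : IsMinPt f ξ) :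
    ∃ Z ∈ irreducibleComponents ↥(f.fiber (closedPoint R)), f.fiberι (closedPoint R) '' Z = closure {ξ} := by
  obtain ⟨z, rfl⟩ := Basic.exists_fiber_point f ξ hξ
  have hemb := (f.fiberι (closedPoint R)).isEmbedding
  have hcl : IsClosed (Set.range (f.fiberι (closedPoint R))) := by
    rw [f.range_fiberι]
    exact (IsLocalRing.isClosed_singleton_closedPoint R).preimage f.continuous
  have hce : Topology.IsClosedEmbedding (f.fiberι (closedPoint R)) := ⟨hemb, hcl⟩
  refine ⟨closure {z}, ?_, ?_⟩
  · refine ⟨isIrreducible_singleton.closure, fun S hS hle => ?_⟩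
    obtain ⟨η, hη⟩ := QuasiSober.sober hS.closure isClosed_closure
    have hη' : closure {η} = closure S := hη
    have h1 : η ⤳ z := by
      rw [specializes_iff_mem_closure, hη']
      exact subset_closure (hle (subset_closure rfl))
    have h2 : f.fiberι (closedPoint R) η = f.fiberι (closedPoint R) z := by
      refine hmin _ (h1.map hemb.continuous) ?_
      rw [hξ]
      exact Groth.Agent.CycB.FiberStalk.fiberι_mem f (closedPoint R) η
    have h3 : η = z := hemb.injective h2
    subst h3
    rw [hη']
    exact subset_closure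
  · have := hce.closure_image_eq {z}
    rw [Set.image_singleton] at this
    exact this.symm

/-- A generic point of the closed fibre is the generic point of a vertical prime divisor. -/
theorem exists_vertComp (hdim : ∀ Z ∈ irreducibleComponents ↥(f.fiber (closedPoint R)), topologicalKrullDim Z = 1)
    (ξ : X) (hξ : f ξ = (closedPoint R : PrimeSpectrum R)) (hmin : IsMinPt f ξ) :
    ∃ Γ : ArSurf.VertComp R (Over.mk f), Set.range (Γ.ι.base : Γ.curve.left → X) = closure {ξ} := by
  obtain ⟨Z, i, hZ, hi, ζ, rfl, hζ⟩ := Groth.Agent.CycB.PushLocal.exists_integral_closedImmersion ξ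
  have hrange : Set.range i = closure {ξ} := by
    apply subset_antisymm
    · rintro _ ⟨z, rfl⟩
      have := (_root_.genericPoint_specializes z).map i.continuous
      rw [hζ] at this
      exact this.mem_closure
    · refine closure_minimal ?_ i.isClosedEmbedding.isClosed_range
      rintro _ rfl
      exact ⟨_, hζ⟩
  have hfib : ∀ z : Z, f (i z) = (closedPoint R : PrimeSpectrum R) := by
    intro z
    have h3 : closure {ξ} ⊆ Models.specialFibreSet R (Over.mk f) :=
      closure_minimal (by rintro _ rfl; exact hξ) (Models.isClosed_specialFibreSet R (Over.mk f))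
    exact h3 (hrange ▸ ⟨z, rfl⟩)
  have hcli : IsClosedImmersion (Spec.map (CommRingCat.ofHom (IsLocalRing.residue R))) :=
    IsClosedImmersion.spec_of_surjective _ IsLocalRing.residue_surjective
  obtain ⟨g, hg⟩ := Groth.Agent.Ega1.ReducedSub.exists_factor_of_range_subset (i ≫ f)
    (Spec.map (CommRingCat.ofHom (IsLocalRing.residue R))) (by
      rintro _ ⟨z, rfl⟩
      refine ⟨closedPoint (ResidueField R), ?_⟩
      rw [Scheme.Hom.comp_apply, hfib z]
      exact IsLocalRing.comap_closedPoint (IsLocalRing.residue R))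
  refine ⟨⟨Over.mk g, i, hi, hZ, ?_, hg.symm⟩, hrange⟩
  change topologicalKrullDim Z = 1
  obtain ⟨W, hW, hWi⟩ := exists_component f ξ hξ hmin
  rw [← hdim W hW]
  let e1 : Z ≃ₜ Set.range i := i.isClosedEmbedding.toIsEmbedding.toHomeomorph
  let e2 : W ≃ₜ (f.fiberι (closedPoint R) '' W) := (f.fiberι (closedPoint R)).isEmbedding.homeomorphImage W
  let e3 : Set.range i ≃ₜ (f.fiberι (closedPoint R) '' W) := Homeomorph.setCongr (hrange.trans hWi.symm)
  exact IsHomeomorph.topologicalKrullDim_eq _ ((e1.trans e3).trans e2.symm).isHomeomorph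

/-- The list of the components of the closed fibre. -/
theorem exists_componentList [IsProper f]
    (hdim : ∀ Z ∈ irreducibleComponents ↥(f.fiber (closedPoint R)), topologicalKrullDim Z = 1) :
    ∃ (n : ℕ) (Γ : Fin n → ArSurf.VertComp R (Over.mk f)), Models.IsComponentList R (Over.mk f) Γ := by
  have hN : IsLocallyNoetherian X := LocallyOfFiniteType.isLocallyNoetherian f
  have hc : CompactSpace X := QuasiCompact.compactSpace_of_compactSpace f
  have hfin : {x : X | f x ∈ ({closedPoint R} : Set (Spec (CommRingCat.of R))) ∧ IsMinPt f x}.Finite :=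
    finite_isMinPt f {closedPoint R} (Set.finite_singleton _)
  let M := {x : X | f x ∈ ({closedPoint R} : Set (Spec (CommRingCat.of R))) ∧ IsMinPt f x}
  have hM : Finite M := hfin.to_subtype
  obtain ⟨n, ⟨e⟩⟩ := Finite.exists_equiv_fin M
  have hex : ∀ x : M, ∃ Γ : ArSurf.VertComp R (Over.mk f),
      Set.range (Γ.ι.base : Γ.curve.left → X) = closure {(x : X)} :=
    fun x => exists_vertComp f hdim x x.2.1 x.2.2
  choose Γ hΓ using hex
  refine ⟨n, fun i => Γ (e.symm i), ?_, ?_⟩
  · intro i j hij
    have h1 : closure {((e.symm i : M) : X)} = closure {((e.symm j : M) : X)} := by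
      rw [← hΓ, ← hΓ]
      exact hij
    have h3 : ((e.symm i : M) : X) = ((e.symm j : M) : X) := by
      have h4 : ((e.symm i : M) : X) ⤳ ((e.symm j : M) : X) := by
        rw [specializes_iff_mem_closure, h1]; exact subset_closure rfl
      have h5 : ((e.symm j : M) : X) ⤳ ((e.symm i : M) : X) := by
        rw [specializes_iff_mem_closure, ← h1]; exact subset_closure rfl
      exact (h4.antisymm h5).eq
    exact e.symm.injective (Subtype.ext h3)
  · ext Z
    rw [mem_fibreComponents_iff]
    constructor
    · rintro ⟨i, rfl⟩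
      exact ⟨((e.symm i : M) : X), (e.symm i).2.1, (e.symm i).2.2, hΓ _⟩
    · rintro ⟨ξ, h3, h4, rfl⟩
      refine ⟨e ⟨ξ, h3, h4⟩, ?_⟩
      change Set.range ((Γ (e.symm (e ⟨ξ, h3, h4⟩))).ι.base : _ → X) = _
      rw [e.symm_apply_apply]
      exact hΓ _

section Main

omit [IsDomain R] [IsDiscreteValuationRing R] in
theorem stalkIdeal_prin (t : R) (x : X) :
    stalkIdeal (prin (Over.mk f) t) x = Ideal.span {DualGr.stalkHom f x t} := by
  obtain ⟨U, hU⟩ := exists_affine x
  rw [stalkIdeal_eq _ U hU]
  unfold Groth.Agent.Dix.VertForm.prin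
  rw [Scheme.IdealSheafData.ofIdealTop_ideal, Ideal.map_span, Ideal.map_span, Set.image_singleton, Set.image_singleton]
  congr 2
  exact X.presheaf.germ_res_apply (homOfLE le_top) x hU _

omit [IsDomain R] [IsDiscreteValuationRing R] in
theorem fromSpecStalk_asIdeal (x : X) (q : PrimeSpectrum (X.presheaf.stalk x)) :
    (f (X.fromSpecStalk x q)).asIdeal = q.asIdeal.comap (DualGr.stalkHom f x) := by
  have h1 := Groth.Agent.Models.H50.PointInter.fromSpecStalk_hom (Over.mk f) x
  have h2 : f (X.fromSpecStalk x q) = (X.fromSpecStalk x ≫ f) q := rfl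
  rw [h2]
  have h3 : X.fromSpecStalk x ≫ f = Spec.map (CommRingCat.ofHom (DualGr.stalkHom f x)) := h1
  rw [h3]
  rfl

theorem le_prin {ϖ : R} (hϖ : Irreducible ϖ) [IsReduced (f.fiber (closedPoint R))] {D : X.IdealSheafData}
    (h : ∀ x : X, f x = (closedPoint R : PrimeSpectrum R) → x ∈ D.support) : D ≤ prin (Over.mk f) ϖ := by
  apply le_of_stalkIdeal
  intro x
  rw [stalkIdeal_prin]
  by_cases hx : f x = (closedPoint R : PrimeSpectrum R)
  · have hr := Basic.isReduced_quot f x hϖ hx
    have hrad : (Ideal.span {DualGr.stalkHom f x ϖ}).IsRadical := Ideal.isRadical_iff_quotient_reduced _ |>.2 hr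
    rw [← hrad.radical, Ideal.radical_eq_sInf]
    refine le_sInf ?_
    rintro q ⟨hq, hqp⟩
    have h1 := (fromSpecStalk_mem_support_iff D x ⟨q, hqp⟩).1 (h _ ?_)
    · exact h1
    · rw [Basic.eq_closedPoint_iff _ hϖ, fromSpecStalk_asIdeal]
      exact hq (Ideal.mem_span_singleton_self _)
  · have h1 := (Basic.isUnit_stalkHom_iff_ne f x hϖ).2 hx
    rw [Ideal.span_singleton_eq_top.2 h1]
    exact le_top

/-- A line bundle inverse to an ideal of a vertical effective Cartier divisor, of degree zero on the vertical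
components, is trivial. -/
theorem nonempty_iso_of_dd_eq_zero [IsProper f] [Flat f] [IsReduced (f.fiber (closedPoint R))]
    (hdim : ∀ Z ∈ irreducibleComponents ↥(f.fiber (closedPoint R)), topologicalKrullDim Z = 1)
    (hconn : _root_.IsPreconnected (Models.specialFibreSet R (Over.mk f)))
    (hne : (Models.specialFibreSet R (Over.mk f)).Nonempty)
    (D : X.IdealSheafData) (hD : BlowUp.IsEffCartierIdeal D)
    (hsupp : (D.support : Set X) ⊆ Models.specialFibreSet R (Over.mk f))
    (hdeg : ∀ Γ : ArSurf.VertComp R (Over.mk f), dd Γ D = 0) :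
    Nonempty (ClSub.idealMod D ≅ Coh.structureModule X) := by
  have hN : IsLocallyNoetherian X := LocallyOfFiniteType.isLocallyNoetherian f
  have hc : CompactSpace X := QuasiCompact.compactSpace_of_compactSpace f
  have hNX : IsNoetherian X := { }
  have hflat : Flat (Over.mk f).hom := ‹Flat f›
  have hprop : IsProper (Over.mk f).hom := ‹IsProper f›
  obtain ⟨ϖ, hϖ⟩ := IsDiscreteValuationRing.exists_irreducible R
  obtain ⟨n, Γ, hΓ⟩ := exists_componentList f hdim
  have hWF := Groth.Agent.Divis.ColonIdeal.wellFoundedGT (X := X)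
  induction D using hWF.induction with
  | ind D ih =>
  by_cases hall : ∀ x : X, f x = (closedPoint R : PrimeSpectrum R) → x ∈ D.support
  · have hle := le_prin f hϖ hall
    have hpe : BlowUp.IsEffCartierIdeal (prin (Over.mk f) ϖ) := isEff_prin (X := Over.mk f) hϖ.ne_zero
    obtain ⟨D', hD', hmul⟩ := Groth.Agent.Divis.ColonIdeal.exists_mul_eq (X := X) hpe hD hle
    have hDD' : D ≤ D' := by
      apply le_of_stalkIdeal
      intro x
      rw [← hmul, stalkIdeal_mul]
      exact Ideal.mul_le_right
    have hne' : D ≠ D' := by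
      intro heq
      obtain ⟨x, hx⟩ := hne
      obtain ⟨g, hg, hgD⟩ := exists_stalkIdeal_eq_span hD' x
      have h1 : stalkIdeal D x = Ideal.span {DualGr.stalkHom f x ϖ * g} := by
        rw [← hmul, stalkIdeal_mul, stalkIdeal_prin, hgD, Ideal.span_singleton_mul_span_singleton]
      rw [heq, hgD] at h1
      have h2 : g ∈ Ideal.span {DualGr.stalkHom f x ϖ * g} := h1 ▸ Ideal.mem_span_singleton_self g
      obtain ⟨c, hc⟩ := Ideal.mem_span_singleton'.1 h2
      have h3 : g * (c * DualGr.stalkHom f x ϖ - 1) = 0 := by linear_combination hc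
      have h4 := (mem_nonZeroDivisors_iff.1 hg).1 _ h3
      have h5 : IsUnit (DualGr.stalkHom f x ϖ) := IsUnit.of_mul_eq_one c (by linear_combination h4)
      exact (Basic.isUnit_stalkHom_iff_ne f x hϖ).1 h5 hx
    have hsupp' : (D'.support : Set X) ⊆ D.support := by
      intro x hx
      rw [SetLike.mem_coe, mem_support_iff_stalkIdeal_le] at hx ⊢
      exact (stalkIdeal_mono hDD' x).trans hx
    obtain ⟨e⟩ := ih D' (lt_of_le_of_ne hDD' hne') hD' (hsupp'.trans hsupp) (by
      intro Δ
      have h1 := hdeg Δ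
      rw [← hmul, dd_mul Δ hpe hD', dd_prin Δ hϖ.ne_zero, zero_add] at h1
      exact h1)
    have h6 := Groth.Agent.Models.H38.TrivGen.mc_idealMod_mul (X := X) hpe hD'
    obtain ⟨e'⟩ := Groth.Agent.Dix.IdealModCartier.idealMod_principal (genOn_prin (X := Over.mk f) hϖ.ne_zero)
    rw [← Groth.Agent.Fga.PicMon.mc_eq_iff, Groth.Agent.Fga.PicMon.mc_one, ← hmul, h6,
      Groth.Agent.Fga.PicMon.mc_eq e, Groth.Agent.Fga.PicMon.mc_one, mul_one,
      ← Groth.Agent.Fga.PicMon.mc_one]
    exact (Groth.Agent.Fga.PicMon.mc_eq e').symm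
  · push Not at hall
    obtain ⟨x, hx, hxD⟩ := hall
    have hgp : ∀ Δ : ArSurf.VertComp R (Over.mk f), gp Δ ∈ D.support → Set.range Δ.ι ⊆ (D.support : Set X) := by
      intro Δ hΔ
      have h1 : closure {gp Δ} = H71.Comps.rg Δ := H71.Comps.closure_genPtOf Δ
      change H71.Comps.rg Δ ⊆ _
      rw [← h1]
      exact closure_minimal (Set.singleton_subset_iff.2 hΔ) D.support.isClosed
    have hdis : ∀ Δ : ArSurf.VertComp R (Over.mk f), gp Δ ∉ D.support →
        Disjoint (Set.range (Δ.ι.base : Δ.curve.left → X)) (D.support : Set X) := by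
      intro Δ hΔ
      refine (H50.InterNonneg.hz_eq_zero_iff (X := Over.mk f) Δ D hΔ).1 ?_
      have h1 := hdeg Δ
      rw [dd_eq Δ hD hΔ] at h1
      exact_mod_cast neg_eq_zero.1 h1
    classical
    let I : Finset (Fin n) := Finset.univ.filter fun i => gp (Γ i) ∉ D.support
    have hI : I.Nonempty := by
      obtain ⟨i, hi⟩ := (H71.Comps.mem_specialFibreSet_iff hΓ x).1 hx
      exact ⟨i, Finset.mem_filter.2 ⟨Finset.mem_univ _, fun h => hxD (hgp _ h hi)⟩⟩
    have hIu : I = Finset.univ := by
      by_contra hI'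
      obtain ⟨i, hi, j, hj, y, hy1, hy2⟩ := H71.Comps.exists_meet_of_isPreconnected hΓ hconn I hI hI'
      have h1 := hdis _ (Finset.mem_filter.1 hi).2
      have h2 : gp (Γ j) ∈ D.support := by
        by_contra h
        exact hj (Finset.mem_filter.2 ⟨Finset.mem_univ _, h⟩)
      exact Set.disjoint_left.1 h1 hy1 (hgp _ h2 hy2)
    have hbot : D.support = ⊥ := by
      refine le_bot_iff.1 fun y hy => ?_
      obtain ⟨i, hi⟩ := (H71.Comps.mem_specialFibreSet_iff hΓ y).1 (hsupp hy)
      have h1 : i ∈ I := hIu ▸ Finset.mem_univ i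
      exact (Set.disjoint_left.1 (hdis _ (Finset.mem_filter.1 h1).2) hi hy).elim
    rw [Scheme.IdealSheafData.support_eq_bot_iff] at hbot
    rw [hbot]
    exact H65.GenTriv.idealMod_top

end Main

end K793.Vert
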