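import Groth.Agent.SemiFact.K793.BlAlg
import Groth.Agent.Divis.BlowChart2
import Groth.Agent.Divis.CartierBasic
import Groth.Agent.Divis.CartierStalk
import Groth.Agent.Divis.MapOpen
import Groth.Agent.Ega4dB.BlowUpChart

/-!
# Local rings of a blow-up
-/

set_option autoImplicit false
universe u

open CategoryTheory CategoryTheory.Limits AlgebraicGeometry IsLocalRing BlowUp Opposite TopologicalSpace

namespace K793.BlGeom

open Groth.Agent.Divis.CartierBasic Groth.Agent.Divis.CartierStalk Groth.Agent.Divis.BlowChart Groth.Agent.Divis.BlowChart2 K793.BlAlg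

variable {X X' : Scheme.{u}}

/-- elements of the stalk ideal are germs of sections of the ideal -/
theorem exists_germ_mem (J : X.IdealSheafData) {z : X} {g : X.presheaf.stalk z} (hg : g ∈ stalkIdeal J z) :
    ∃ (U : X.affineOpens) (hz : z ∈ U.1) (g₀ : Γ(X, U.1)), g₀ ∈ J.ideal U ∧ X.presheaf.germ U.1 z hz g₀ = g := by
  obtain ⟨U, hx⟩ := exists_affine z
  rw [stalkIdeal_eq J U hx] at hg
  let _alg := X.presheaf.algebra_section_stalk (⟨z, hx⟩ : U.1)
  have hloc := U.2.isLocalization_stalk ⟨z, hx⟩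
  obtain ⟨⟨j, t⟩, ht⟩ := (IsLocalization.mem_map_algebraMap_iff (U.2.primeIdealOf ⟨z, hx⟩).asIdeal.primeCompl (X.presheaf.stalk z)).1 hg
  have hzt : z ∈ X.basicOpen t.1 := by
    rw [X.mem_basicOpen _ _ hx]
    have h1 := IsLocalization.map_units (X.presheaf.stalk z) t
    exact h1
  let W := X.affineBasicOpen t.1
  have hWU : W.1 ≤ U.1 := X.basicOpen_le t.1
  have hu : IsUnit (X.presheaf.map (homOfLE hWU).op t.1) := RingedSpace.isUnit_res_basicOpen X.toRingedSpace t.1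
  obtain ⟨v, hv⟩ := hu.exists_left_inv
  refine ⟨W, hzt, v * X.presheaf.map (homOfLE hWU).op j.1, ?_, ?_⟩
  · apply Ideal.mul_mem_left
    rw [← J.map_ideal hWU]
    exact Ideal.mem_map_of_mem _ j.2
  · have h1 : ∀ s : Γ(X, U.1), X.presheaf.germ W.1 z hzt (X.presheaf.map (homOfLE hWU).op s) = X.presheaf.germ U.1 z hx s := fun s =>
      X.presheaf.germ_res_apply (homOfLE hWU) z hzt s
    have h2 : X.presheaf.germ W.1 z hzt v * X.presheaf.germ U.1 z hx t.1 = 1 := by
      rw [← h1, ← map_mul, hv, map_one]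
    rw [map_mul, h1]
    have ht' : g * X.presheaf.germ U.1 z hx t.1 = X.presheaf.germ U.1 z hx j.1 := ht
    rw [← ht', mul_comm g, ← mul_assoc, h2, one_mul]

/-- a point lies in the chart of `a` as soon as `a` generates the ideal in its local ring -/
theorem mem_chart_of_stalk (b : X' ⟶ X) (J : X.IdealSheafData) (hE : IsEffCartierIdeal (J.comap b)) (U : X.affineOpens) (a : Γ(X, U.1))
    (ha : a ∈ J.ideal U) (x' : X') (hx' : b x' ∈ U.1)
    (h : stalkIdeal (J.comap b) x' = Ideal.span {(b.stalkMap x').hom (X.presheaf.germ U.1 (b x') hx' a)}) :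
    x' ∈ chart b J U a := by
  obtain ⟨W₀, hxW₀, hle, f, hf, hfW⟩ := exists_generator_le hE (b ⁻¹ᵁ U.1) hx'
  have h1 : (b.appLE U.1 W₀.1 hle).hom a ∈ (J.comap b).ideal W₀ := by
    rw [Groth.Agent.Divis.IdealComap.ideal_comap J b U W₀ hle]
    exact Ideal.mem_map_of_mem _ ha
  rw [hfW] at h1
  obtain ⟨t, ht⟩ := Ideal.mem_span_singleton'.1 h1
  let G := X'.presheaf.germ W₀.1 x' hxW₀
  have hG : (b.stalkMap x').hom (X.presheaf.germ U.1 (b x') hx' a) = G ((b.appLE U.1 W₀.1 hle).hom a) := by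
    have h2 := Scheme.Hom.germ_stalkMap_apply b U.1 x' hx' a
    rw [h2]
    exact (X'.presheaf.germ_res_apply (homOfLE hle) x' hxW₀ _).symm
  rw [hG, ← ht, map_mul, stalkIdeal_eq _ W₀ hxW₀, hfW, Ideal.map_span, Set.image_singleton] at h
  have hfreg : G f ∈ nonZeroDivisors (X'.presheaf.stalk x') := germ_mem_nonZeroDivisors W₀.2 hf x' hxW₀
  have htu : IsUnit (G t) := by
    have h3 : G f ∈ Ideal.span {G t * G f} := h ▸ Ideal.mem_span_singleton_self _
    obtain ⟨c, hc⟩ := Ideal.mem_span_singleton'.1 h3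
    have h4 : (c * G t - 1) * G f = 0 := by linear_combination hc
    have h5 := sub_eq_zero.1 ((mul_right_mem_nonZeroDivisors_eq_zero_iff hfreg).1 h4)
    exact IsUnit.of_mul_eq_one c (by rw [mul_comm]; exact h5)
  have hxt : x' ∈ X'.basicOpen t := (X'.mem_basicOpen _ _ hxW₀).2 htu
  let W := X'.affineBasicOpen t
  have hWW₀ : W.1 ≤ W₀.1 := X'.basicOpen_le t
  refine (mem_chart_iff b J U a x').2 ⟨W, hWW₀.trans hle, hxt, ?_⟩
  have h6 : (b.appLE U.1 W.1 (hWW₀.trans hle)).hom a = X'.presheaf.map (homOfLE hWW₀).op ((b.appLE U.1 W₀.1 hle).hom a) := by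
    have h7 := Scheme.Hom.appLE_map b hle (homOfLE hWW₀).op
    rw [← ConcreteCategory.comp_apply, ← h7]
  rw [h6, ← (J.comap b).map_ideal hWW₀, hfW, ← ht, Ideal.map_span, Set.image_singleton, map_mul]
  have hu : IsUnit (X'.presheaf.map (homOfLE hWW₀).op t) := RingedSpace.isUnit_res_basicOpen X'.toRingedSpace t
  exact (Ideal.span_singleton_mul_left_unit hu _).symm

/-- the map of stalks, with a prescribed name for the image point -/
noncomputable def stk (b : X' ⟶ X) (x' : X') (z : X) (h : b x' = z) : X.presheaf.stalk z →+* X'.presheaf.stalk x' :=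
  (b.stalkMap x').hom.comp (X.presheaf.stalkSpecializes (specializes_of_eq h)).hom

theorem stk_self (b : X' ⟶ X) (x' : X') : stk b x' (b x') rfl = (b.stalkMap x').hom := by
  unfold stk
  have : X.presheaf.stalkSpecializes (specializes_of_eq (rfl : b x' = b x')) = 𝟙 _ := TopCat.Presheaf.stalkSpecializes_refl _ _
  rw [this]
  rfl

theorem stk_germ (b : X' ⟶ X) (x' : X') (z : X) (h : b x' = z) (U : X.Opens) (hz : z ∈ U) (s : Γ(X, U)) :
    stk b x' z h (X.presheaf.germ U z hz s) = X'.presheaf.germ (b ⁻¹ᵁ U) x' (by rw [← h] at hz; exact hz) (b.app U s) := by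
  subst h
  rw [stk_self]
  exact Scheme.Hom.germ_stalkMap_apply b U x' hz s

theorem germ_fromSpec {C : Type u} [CommRing C] (U : X.affineOpens) (φ : Γ(X, U.1) →+* C) (q : Spec (CommRingCat.of C))
    (hq : (Spec.map (CommRingCat.ofHom φ) ≫ U.2.fromSpec) q ∈ U.1) (s : Γ(X, U.1)) :
    (Spec (CommRingCat.of C)).presheaf.germ ((Spec.map (CommRingCat.ofHom φ) ≫ U.2.fromSpec) ⁻¹ᵁ U.1) q hq
      ((Spec.map (CommRingCat.ofHom φ) ≫ U.2.fromSpec).app U.1 s) =
    (Spec (CommRingCat.of C)).presheaf.germ ⊤ q trivial ((Scheme.ΓSpecIso (CommRingCat.of C)).inv.hom (φ s)) := by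
  have e : (⊤ : (Spec (CommRingCat.of C)).Opens) ≤ (Spec.map (CommRingCat.ofHom φ) ≫ U.2.fromSpec) ⁻¹ᵁ U.1 := by
    intro t _
    have h1 : U.2.fromSpec ((Spec.map (CommRingCat.ofHom φ)) t) ∈ Set.range U.2.fromSpec := ⟨_, rfl⟩
    rw [U.2.range_fromSpec] at h1
    exact h1
  have h1 := resT_glob U (Spec.map (CommRingCat.ofHom φ)) ⊤ e s
  rw [Groth.Agent.Ega4dB.BlowUpChart.resT_top] at h1
  have h2 : glob (Spec.map (CommRingCat.ofHom φ)) s = (Scheme.ΓSpecIso (CommRingCat.of C)).inv.hom (φ s) := by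
    have h3 := glob_map φ (𝟙 (Spec (CommRingCat.of C)))
    rw [Category.id_comp] at h3
    rw [h3, Groth.Agent.Ega4dB.BlowUpChart.glob_id]
    rfl
  rw [← h2]
  change _ = (Spec (CommRingCat.of C)).presheaf.germ ⊤ q trivial (RingHom.id _ (glob (Spec.map (CommRingCat.ofHom φ)) s))
  rw [h1]
  exact ((Spec (CommRingCat.of C)).presheaf.germ_res_apply (homOfLE e) q trivial _).symm

theorem stalkMap_germ_congr {Y Z : Scheme.{u}} {f g : Y ⟶ Z} (h : f = g) (y : Y) (U : Z.Opens) (hf : f y ∈ U) (hg : g y ∈ U) (s : Γ(Z, U)) :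
    Y.presheaf.germ (f ⁻¹ᵁ U) y hf (f.app U s) = Y.presheaf.germ (g ⁻¹ᵁ U) y hg (g.app U s) := by
  subst h; rfl

/-- the stalks of the blow-up in a chart are localizations of the affine blow-up algebra -/
theorem exists_theta (b : X' ⟶ X) (J : X.IdealSheafData) (hb : IsBlowUp b J) (U : X.affineOpens) (a : Γ(X, U.1)) (ha : a ∈ J.ideal U) :
    ∃ σ : chart b J U a → PrimeSpectrum (affineAlgebra Γ(X, U.1) (J.ideal U) a), Function.Injective σ ∧
      ∀ (x' : X') (hx : x' ∈ chart b J U a) (z : X) (hz : b x' = z) (hzU : z ∈ U.1),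
        ∃ θ : affineAlgebra Γ(X, U.1) (J.ideal U) a →+* X'.presheaf.stalk x',
          (∀ s : Γ(X, U.1), θ (algebraMap _ _ s) = stk b x' z hz (X.presheaf.germ U.1 z hzU s)) ∧
          (∀ s, ∃ c d, IsUnit (θ d) ∧ s * θ d = θ c) ∧ (maximalIdeal (X'.presheaf.stalk x')).comap θ = (σ ⟨x', hx⟩).asIdeal := by
  obtain ⟨e, he⟩ := exists_iso_chart b J U hb ha
  let C := affineAlgebra Γ(X, U.1) (J.ideal U) a
  let V := chart b J U a
  refine ⟨fun p => e.hom p, e.hom.isOpenEmbedding.injective, fun x' hx z hz hzU => ?_⟩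
  subst hz
  let p : V.toScheme := ⟨x', hx⟩
  let q : Spec (CommRingCat.of C) := e.hom p
  let k : Spec (CommRingCat.of C) ⟶ X := chartMap (J.ideal U) a ≫ U.2.fromSpec
  let α : X'.presheaf.stalk (V.ι p) ≅ V.toScheme.presheaf.stalk p := asIso (V.ι.stalkMap p)
  let β := (e.hom.stalkMap p)
  let τ : C →+* (Spec (CommRingCat.of C)).presheaf.stalk q :=
    ((Spec (CommRingCat.of C)).presheaf.germ ⊤ q trivial).hom.comp (Scheme.ΓSpecIso (CommRingCat.of C)).inv.hom
  let _algτ : Algebra C ((Spec (CommRingCat.of C)).presheaf.stalk q) := τ.toAlgebra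
  have hτ : IsLocalization.AtPrime ((Spec (CommRingCat.of C)).presheaf.stalk q) q.asIdeal :=
    AlgebraicGeometry.StructureSheaf.IsLocalization.to_stalk C q
  let ε : (Spec (CommRingCat.of C)).presheaf.stalk q ≃+* X'.presheaf.stalk (V.ι p) :=
    (asIso β ≪≫ α.symm).commRingCatIsoToRingEquiv
  let θ : C →+* X'.presheaf.stalk x' := ε.toRingHom.comp τ
  refine ⟨θ, fun s => ?_, fun s => ?_, ?_⟩
  · have h1 : ∀ t, V.ι.stalkMap p (ε t) = β t := by
      intro t
      have h2 : (asIso β ≪≫ α.symm).hom ≫ α.hom = β := by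
        rw [Iso.trans_hom, Iso.symm_hom, Category.assoc, α.inv_hom_id, Category.comp_id, asIso_hom]
      exact ConcreteCategory.congr_hom h2 t
    have hinj : Function.Injective (V.ι.stalkMap p) := (asIso (V.ι.stalkMap p)).commRingCatIsoToRingEquiv.injective
    apply hinj
    change V.ι.stalkMap p (ε (τ (algebraMap _ _ s))) = _
    rw [h1, stk_germ]
    have hkq : k q ∈ U.1 := by
      have h3 : k q = (V.ι ≫ b) p := by
        change k (e.hom p) = _
        rw [← he]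
        rfl
      rw [h3]
      exact hzU
    have h4 : τ (algebraMap _ _ s) = (Spec (CommRingCat.of C)).presheaf.germ (k ⁻¹ᵁ U.1) q hkq (k.app U.1 s) :=
      (germ_fromSpec U (algebraMap _ C) q hkq s).symm
    rw [h4]
    have h5 := Scheme.Hom.germ_stalkMap_apply e.hom (k ⁻¹ᵁ U.1) p hkq (k.app U.1 s)
    rw [h5]
    have h6 := Scheme.Hom.germ_stalkMap_apply V.ι (b ⁻¹ᵁ U.1) p hzU (b.app U.1 s)
    refine Eq.trans ?_ h6.symm
    have h7 := stalkMap_germ_congr he p U.1 hkq hzU s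
    rw [Scheme.Hom.comp_app, Scheme.Hom.comp_app] at h7
    exact h7
  · obtain ⟨⟨c, d⟩, hcd⟩ := IsLocalization.surj q.asIdeal.primeCompl (ε.symm s)
    refine ⟨c, d.1, ?_, ?_⟩
    · exact (IsLocalization.map_units ((Spec (CommRingCat.of C)).presheaf.stalk q) d).map ε
    · have h1 := congrArg ε hcd
      rw [map_mul, RingEquiv.apply_symm_apply] at h1
      exact h1
  · ext c
    rw [Ideal.mem_comap, IsLocalRing.mem_maximalIdeal, mem_nonunits_iff]
    change ¬ IsUnit (ε (τ c)) ↔ c ∈ q.asIdeal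
    rw [MulEquiv.isUnit_map ε]
    have h1 := IsLocalization.AtPrime.isUnit_to_map_iff ((Spec (CommRingCat.of C)).presheaf.stalk q) q.asIdeal c
    change IsUnit (τ c) ↔ c ∈ q.asIdeal.primeCompl at h1
    rw [h1]
    exact not_not

theorem affineAlgebra_induction {A : Type u} [CommRing A] (I : Ideal A) (a : A) {P : affineAlgebra A I a → Prop}
    (h1 : ∀ s : A, P (algebraMap _ _ s)) (h2 : ∀ (c : affineAlgebra A I a) (j : A), j ∈ I →
      c * algebraMap A _ a = algebraMap A _ j → P c)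
    (h3 : ∀ c d, P c → P d → P (c + d)) (h4 : ∀ c d, P c → P d → P (c * d)) (c : affineAlgebra A I a) : P c := by
  obtain ⟨c, hc⟩ := c
  induction hc using Algebra.adjoin_induction with
  | mem x hx =>
    obtain ⟨j, hj, rfl⟩ := hx
    refine h2 _ j hj ?_
    apply Subtype.ext
    change IsLocalization.mk' (Localization.Away a) j _ * algebraMap A (Localization.Away a) a = algebraMap A (Localization.Away a) j
    exact IsLocalization.mk'_spec (Localization.Away a) j ⟨a, Submonoid.mem_powers a⟩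
  | algebraMap r => exact h1 r
  | add x y _ _ hx hy => exact h3 _ _ hx hy
  | mul x y _ _ hx hy => exact h4 _ _ hx hy

theorem stalkIdeal_comap_stk (b : X' ⟶ X) (J : X.IdealSheafData) (x' : X') (z : X) (hz : b x' = z) :
    stalkIdeal (J.comap b) x' = (stalkIdeal J z).map (stk b x' z hz) := by
  subst hz
  rw [stalkIdeal_comap, stk_self]

theorem isBlStalk (b : X' ⟶ X) (J : X.IdealSheafData) (hb : IsBlowUp b J) (x' : X') (z : X) (hz : b x' = z) :
    IsBlStalk (stk b x' z hz) (stalkIdeal J z) := by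
  refine ⟨?_, ?_⟩
  · obtain ⟨g, hg, h⟩ := exists_stalkIdeal_eq_span hb.1 x'
    exact ⟨g, hg, by rw [← stalkIdeal_comap_stk, h]⟩
  · intro g hg hgen s
    obtain ⟨U, hzU, g₀, hg₀, rfl⟩ := exists_germ_mem J hg
    have hx : x' ∈ chart b J U g₀ := by
      refine mem_chart_of_stalk b J hb.1 U g₀ hg₀ x' (by rw [hz]; exact hzU) ?_
      rw [stalkIdeal_comap_stk b J x' z hz, hgen, stk_germ]
      congr 1
      rw [Set.singleton_eq_singleton_iff]
      exact (Scheme.Hom.germ_stalkMap_apply b U.1 x' _ g₀).symm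
    obtain ⟨σ, hσ, hθ⟩ := exists_theta b J hb U g₀ hg₀
    obtain ⟨θ, h1, h2, h3⟩ := hθ x' hx z hz hzU
    have key : ∀ c, θ c ∈ sub (stk b x' z hz) (stalkIdeal J z) (X.presheaf.germ U.1 z hzU g₀) := by
      intro c
      refine affineAlgebra_induction (P := fun c => θ c ∈ sub (stk b x' z hz) (stalkIdeal J z) (X.presheaf.germ U.1 z hzU g₀))
        (J.ideal U) g₀ (fun r => ?_) (fun c j hj hc => ?_) (fun c d hc hd => ?_) (fun c d hc hd => ?_) c
      · rw [h1]
        exact Subring.subset_closure (Or.inl ⟨_, rfl⟩)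
      · refine Subring.subset_closure (Or.inr ⟨X.presheaf.germ U.1 z hzU j, ?_, ?_⟩)
        · rw [stalkIdeal_eq J U hzU]
          exact Ideal.mem_map_of_mem _ hj
        · have := congrArg θ hc
          rw [map_mul, h1, h1] at this
          exact this
      · rw [map_add]; exact Subring.add_mem _ hc hd
      · rw [map_mul]; exact Subring.mul_mem _ hc hd
    obtain ⟨c, d, hd, hcd⟩ := h2 s
    exact ⟨θ d, key d, hd, hcd ▸ key c⟩

theorem eq_of_isOrigin (b : X' ⟶ X) (J : X.IdealSheafData) (hb : IsBlowUp b J) {z : X} {x y ϖ : X.presheaf.stalk z}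
    (hm : maximalIdeal (X.presheaf.stalk z) = Ideal.span {x, y, ϖ}) (hJ : stalkIdeal J z = maximalIdeal (X.presheaf.stalk z))
    {x₁ x₂ : X'} (h₁ : b x₁ = z) (h₂ : b x₂ = z) {u₁ v₁ : X'.presheaf.stalk x₁} {u₂ v₂ : X'.presheaf.stalk x₂}
    (o₁ : IsOrigin (stk b x₁ z h₁) x y ϖ u₁ v₁) (o₂ : IsOrigin (stk b x₂ z h₂) x y ϖ u₂ v₂)
    (r₁ : stk b x₁ z h₁ ϖ ∈ nonZeroDivisors _) (r₂ : stk b x₂ z h₂ ϖ ∈ nonZeroDivisors _) : x₁ = x₂ := by
  have hϖm : ϖ ∈ maximalIdeal (X.presheaf.stalk z) := by rw [hm]; exact Ideal.subset_span (by simp)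
  obtain ⟨U, hzU, g₀, hg₀, hg⟩ := exists_germ_mem J (hJ ▸ hϖm : ϖ ∈ stalkIdeal J z)
  have hmem : ∀ (x' : X') (h' : b x' = z) (_ : (maximalIdeal (X.presheaf.stalk z)).map (stk b x' z h') = Ideal.span {stk b x' z h' ϖ}),
      x' ∈ chart b J U g₀ := by
    intro x' h' hgen
    refine mem_chart_of_stalk b J hb.1 U g₀ hg₀ x' (by rw [h']; exact hzU) ?_
    rw [stalkIdeal_comap_stk b J x' z h', hJ, hgen, ← hg, stk_germ]
    congr 1
    rw [Set.singleton_eq_singleton_iff]
    exact (Scheme.Hom.germ_stalkMap_apply b U.1 x' _ g₀).symm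
  obtain ⟨σ, hσ, hθ⟩ := exists_theta b J hb U g₀ hg₀
  have hx₁ := hmem x₁ h₁ o₁.gen
  have hx₂ := hmem x₂ h₂ o₂.gen
  obtain ⟨θ₁, e₁, -, m₁⟩ := hθ x₁ hx₁ z h₁ hzU
  obtain ⟨θ₂, e₂, -, m₂⟩ := hθ x₂ hx₂ z h₂ hzU
  have hloc : ∀ (x' : X') (h' : b x' = z) (t : X.presheaf.stalk z), t ∈ maximalIdeal (X.presheaf.stalk z) ↔
      stk b x' z h' t ∈ maximalIdeal (X'.presheaf.stalk x') := by
    intro x' h' t
    subst h'
    rw [stk_self, IsLocalRing.mem_maximalIdeal, IsLocalRing.mem_maximalIdeal, mem_nonunits_iff, mem_nonunits_iff, not_iff_not]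
    exact ⟨fun h => h.map _, fun h => isUnit_of_map_unit (b.stalkMap x').hom t h⟩
  have hgen : ∀ {x' : X'} {h' : b x' = z} {u v : X'.presheaf.stalk x'} (_ : IsOrigin (stk b x' z h') x y ϖ u v)
      (_ : stk b x' z h' ϖ ∈ nonZeroDivisors _) (s : X'.presheaf.stalk x') (α β γ : X.presheaf.stalk z)
      (_ : s * stk b x' z h' ϖ = stk b x' z h' (α * x + β * y + γ * ϖ)), s - stk b x' z h' γ ∈ maximalIdeal (X'.presheaf.stalk x') := by
    intro x' h' u v o r s α β γ hs
    have h7 : s = stk b x' z h' α * u + stk b x' z h' β * v + stk b x' z h' γ := by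
      have h8 : (s - (stk b x' z h' α * u + stk b x' z h' β * v + stk b x' z h' γ)) * stk b x' z h' ϖ = 0 := by
        simp only [map_add, map_mul] at hs
        rw [← o.hx, ← o.hy] at hs
        linear_combination hs
      exact sub_eq_zero.1 ((mem_nonZeroDivisors_iff_right.1 r) _ h8)
    rw [h7, add_sub_cancel_right]
    exact add_mem (Ideal.mul_mem_left _ _ o.hxm) (Ideal.mul_mem_left _ _ o.hym)
  have key : ∀ c, ∃ t : X.presheaf.stalk z, θ₁ c - stk b x₁ z h₁ t ∈ maximalIdeal _ ∧ θ₂ c - stk b x₂ z h₂ t ∈ maximalIdeal _ := by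
    intro c
    refine affineAlgebra_induction (P := fun c => ∃ t : X.presheaf.stalk z, θ₁ c - stk b x₁ z h₁ t ∈ maximalIdeal _ ∧
      θ₂ c - stk b x₂ z h₂ t ∈ maximalIdeal _) (J.ideal U) g₀ (fun r => ?_) (fun c j hj hc => ?_) ?_ ?_ c
    · refine ⟨X.presheaf.germ U.1 z hzU r, ?_, ?_⟩
      · rw [e₁, sub_self]; exact Ideal.zero_mem _
      · rw [e₂, sub_self]; exact Ideal.zero_mem _
    · have hj' : X.presheaf.germ U.1 z hzU j ∈ maximalIdeal (X.presheaf.stalk z) := by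
        rw [← hJ, stalkIdeal_eq J U hzU]
        exact Ideal.mem_map_of_mem _ hj
      obtain ⟨α, β, γ, hαβγ⟩ := exists_coeff hm hj'
      refine ⟨γ, hgen o₁ r₁ _ α β γ ?_, hgen o₂ r₂ _ α β γ ?_⟩
      · have := congrArg θ₁ hc
        rw [map_mul, e₁, e₁, hg] at this
        rw [this, hαβγ]
      · have := congrArg θ₂ hc
        rw [map_mul, e₂, e₂, hg] at this
        rw [this, hαβγ]
    · rintro c d ⟨t, ht1, ht2⟩ ⟨t', ht1', ht2'⟩
      refine ⟨t + t', ?_, ?_⟩
      · rw [map_add, map_add, add_sub_add_comm]; exact add_mem ht1 ht1'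
      · rw [map_add, map_add, add_sub_add_comm]; exact add_mem ht2 ht2'
    · rintro c d ⟨t, ht1, ht2⟩ ⟨t', ht1', ht2'⟩
      refine ⟨t * t', ?_, ?_⟩
      · rw [map_mul, map_mul, show θ₁ c * θ₁ d - stk b x₁ z h₁ t * stk b x₁ z h₁ t' =
          (θ₁ c - stk b x₁ z h₁ t) * θ₁ d + stk b x₁ z h₁ t * (θ₁ d - stk b x₁ z h₁ t') by ring]
        exact add_mem (Ideal.mul_mem_right _ _ ht1) (Ideal.mul_mem_left _ _ ht1')
      · rw [map_mul, map_mul, show θ₂ c * θ₂ d - stk b x₂ z h₂ t * stk b x₂ z h₂ t' =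
          (θ₂ c - stk b x₂ z h₂ t) * θ₂ d + stk b x₂ z h₂ t * (θ₂ d - stk b x₂ z h₂ t') by ring]
        exact add_mem (Ideal.mul_mem_right _ _ ht2) (Ideal.mul_mem_left _ _ ht2')
  have hσeq : σ ⟨x₁, hx₁⟩ = σ ⟨x₂, hx₂⟩ := by
    apply PrimeSpectrum.ext
    rw [← m₁, ← m₂]
    ext c
    obtain ⟨t, ht1, ht2⟩ := key c
    rw [Ideal.mem_comap, Ideal.mem_comap]
    constructor
    · intro h
      have h4 := sub_mem h ht1
      rw [sub_sub_cancel, ← hloc] at h4
      have h5 := add_mem ht2 ((hloc x₂ h₂ t).1 h4)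
      rwa [sub_add_cancel] at h5
    · intro h
      have h4 := sub_mem h ht2
      rw [sub_sub_cancel, ← hloc] at h4
      have h5 := add_mem ht1 ((hloc x₁ h₁ t).1 h4)
      rwa [sub_add_cancel] at h5
  exact congrArg Subtype.val (hσ hσeq)

end K793.BlGeom
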