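import Groth.Agent.SemiFact.K793.ChainStep
import Mathlib.AlgebraicGeometry.Morphisms.UniversallyOpen

/-!
# Nodes of infinite thickness lie on singular points of the generic fibre; closures of divisors
-/

set_option autoImplicit false
universe u

open CategoryTheory CategoryTheory.Limits AlgebraicGeometry IsLocalRing BlowUp Opposite TopologicalSpace

namespace K793.ChainInf

open Groth.Agent.Divis.CartierBasic Groth.Agent.Divis.CartierStalk K793.BlGeom K793.BlMain K793.Chart K793.ChainStep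
open Groth.Agent.Models.NodeRing Groth.Agent.Models.NodeBlow Groth.Agent.Models.NodeStep K793.NodeBlow
open Groth.Agent.CycB.LocQuot Groth.Agent.Divis.StalkPrime Groth.Agent.Divis.StalkAssoc Groth.Agent.Divis.MapOpen

section Inf

variable {R : Type u} [CommRing R] [IsDomain R] [IsDiscreteValuationRing R] {ϖ : R} (hϖ : Irreducible ϖ) {X : Scheme.{u}} {p : X ⟶ Spec (CommRingCat.of R)}

include hϖ in
theorem exists_sing [IsLocallyNoetherian X] {x : X} (hpx : p x = (closedPoint R : PrimeSpectrum R))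
    (hreg : ¬ IsRegularLocalRing (X.presheaf.stalk x)) (h : IsInf ϖ p x) :
    ∃ Q : X, Q ⤳ x ∧ p Q ≠ (closedPoint R : PrimeSpectrum R) ∧ ¬ IsRegularLocalRing (X.presheaf.stalk Q) := by
  obtain ⟨C, hC⟩ := h
  have htm : algebraMap C.D (W C.D C.a) C.t ∈ (C.g C.y).asIdeal := by
    rw [C.t_mem_iff hϖ, C.hy]
    exact hpx
  have horig := C.asIdeal_eq_orig hreg htm
  let φ : W C.D C.a →+* C.D := lift (RingHom.id C.D) 0 0 (by rw [mul_zero, hC, map_zero])
  have hφC : ∀ d, φ (algebraMap _ _ d) = d := fun d => lift_algebraMap _ _ _ _ d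
  have hφu : φ (uu C.D C.a) = 0 := lift_uu _ _ _ _
  have hφv : φ (vv C.D C.a) = 0 := lift_vv _ _ _ _
  let q : Spec (CommRingCat.of (W C.D C.a)) := ⟨RingHom.ker φ, RingHom.ker_isPrime φ⟩
  have hq : q ⤳ C.g C.y := by
    have hle : RingHom.ker φ ≤ (C.g C.y).asIdeal := by
      intro w hw
      obtain ⟨d, hd⟩ := exists_sub_mem w
      have hker : Ideal.span {uu C.D C.a, vv C.D C.a} ≤ RingHom.ker φ := by
        rw [Ideal.span_le]
        rintro _ (rfl | rfl)
        · exact hφu
        · exact hφv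
      have h1 := sub_mem hw (hker hd)
      rw [sub_sub_cancel, RingHom.mem_ker, hφC] at h1
      rw [h1, map_zero, sub_zero] at hd
      rw [horig]
      exact Ideal.span_mono (by intro z; simp only [Set.mem_insert_iff, Set.mem_singleton_iff]; tauto) hd
    exact (PrimeSpectrum.le_iff_specializes q (C.g C.y)).1 hle
  obtain ⟨Q, hQ, hQq⟩ := Flat.generalizingMap C.g hq
  have htq : algebraMap C.D (W C.D C.a) C.t ∉ (C.g Q).asIdeal := by
    rw [hQq]
    change φ _ ≠ 0
    rw [hφC]
    exact C.irr.ne_zero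
  refine ⟨C.e Q, ?_, ?_, ?_⟩
  · have := hQ.map C.e.continuous
    rwa [C.hy] at this
  · rwa [Ne, ← C.t_mem_iff hϖ]
  · rw [C.isRegular_iff, stalk_isRegular_iff]
    rw [hQq]
    exact @Groth.Agent.Models.NodeRing.not_isRegular_zero _ _ _ hC q.asIdeal q.isPrime hφu hφv

end Inf

section Cl

variable {X Z : Scheme.{u}} [IsLocallyNoetherian X] (i : Z ⟶ X) [IsOpenImmersion i] [QuasiCompact i]

/-- associated points of the closure of a closed subscheme of an open subscheme lie in the open subscheme -/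
theorem ptOf_mem_range (D : Z.IdealSheafData) (x : X) (p : Ideal (X.presheaf.stalk x)) (hp : p.IsPrime) (a : X.presheaf.stalk x)
    (ha : ∀ r, r ∈ p ↔ r * a ∈ stalkIdeal (D.map i) x) : ptOf (⟨p, hp⟩ : PrimeSpectrum _) ∈ Set.range i := by
  by_contra hy
  have h1 := mem_maximalIdeal_iff_of_colon (D.map i) ⟨p, hp⟩ a ha
  have h2 := K793.Extend.sat_point i D (ptOf (⟨p, hp⟩ : PrimeSpectrum _)) hy _ (fun s hs => (h1 s).1 hs)
  have h3 := (h1 1).2 (by rw [one_mul]; exact h2)
  exact (Ideal.IsPrime.ne_top (I := IsLocalRing.maximalIdeal _) inferInstance) ((Ideal.eq_top_iff_one _).2 h3)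

variable {R : Type u} [CommRing R] [IsDomain R] [IsDiscreteValuationRing R] (f : X ⟶ Spec (CommRingCat.of R))

theorem mem_of_pow_mul_mem (hj : ∀ x : X, x ∈ Set.range i ↔ f x ≠ (closedPoint R : PrimeSpectrum R)) {ϖ : R} (hϖ : Irreducible ϖ)
    (D : Z.IdealSheafData) (x : X) (M : ℕ) (c : X.presheaf.stalk x)
    (hc : DualGr.stalkHom f x ϖ ^ M * c ∈ stalkIdeal (D.map i) x) : c ∈ stalkIdeal (D.map i) x := by
  by_contra hne
  have h0 : (Ideal.Quotient.mk (stalkIdeal (D.map i) x) c) ≠ 0 := fun h => hne (Ideal.Quotient.eq_zero_iff_mem.1 h)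
  obtain ⟨P, hP, hle⟩ := exists_le_isAssociatedPrime_of_isNoetherianRing (X.presheaf.stalk x) _ h0
  obtain ⟨hPp, m, hm⟩ := isAssociatedPrime_iff.1 hP
  obtain ⟨a, rfl⟩ := Ideal.Quotient.mk_surjective m
  have h1 : ∀ r, r ∈ P ↔ r * a ∈ stalkIdeal (D.map i) x := by
    intro r
    rw [hm, Submodule.mem_colon_singleton, Submodule.mem_bot, ← Ideal.Quotient.eq_zero_iff_mem, map_mul]
    rfl
  have h2 := ptOf_mem_range i D x P hPp a h1
  rw [hj] at h2
  apply h2
  have h3 : DualGr.stalkHom f x ϖ ^ M ∈ P := by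
    apply hle
    rw [Submodule.mem_colon_singleton, Submodule.mem_bot]
    have h4 := Ideal.Quotient.eq_zero_iff_mem.2 hc
    rw [map_mul] at h4
    exact h4
  have h4 : DualGr.stalkHom f x ϖ ∈ (primeOf (ptOf_specializes (⟨P, hPp⟩ : PrimeSpectrum (X.presheaf.stalk x)))).asIdeal := by
    rw [primeOf_ptOf]
    exact hPp.mem_of_pow_mem M h3
  exact (K793.FibGeom.asIdeal_mem_iff hϖ _).1 h4

end Cl

end K793.ChainInf
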