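import Groth.Agent.SemiFact.K793.ChainSing
import Groth.Agent.Flat2C.BlowExist
import Groth.Prelude.Def_CInt

/-!
# The chain of blow-ups in the nonregular points of the special fibre
-/

set_option autoImplicit false
universe u

open CategoryTheory CategoryTheory.Limits AlgebraicGeometry IsLocalRing BlowUp Opposite TopologicalSpace

namespace K793.ChainSeq

open Groth.Agent.Divis.CartierBasic Groth.Agent.Divis.CartierStalk K793.BlGeom K793.BlMain K793.Chart K793.ChainStep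
open Groth.Agent.CycB.LocQuot

section Iso

variable {R : Type u} [CommRing R] [IsLocalRing R] {X Y X' : Scheme.{u}}

/-- `c` is an isomorphism over the complement of the special fibre -/
def IsoOn (c : Y ⟶ X) (f : X ⟶ Spec (CommRingCat.of R)) : Prop :=
  ∀ (T : Scheme.{u}) (t : T ⟶ X), (∀ z, f (t z) ≠ (closedPoint R : PrimeSpectrum R)) → IsIso (pullback.snd c t)

theorem isoOn_id (f : X ⟶ Spec (CommRingCat.of R)) : IsoOn (𝟙 X) f := fun _ _ _ => inferInstance

theorem IsoOn.comp {b : X' ⟶ Y} {c : Y ⟶ X} {f : X ⟶ Spec (CommRingCat.of R)} (hb : IsoOn b (c ≫ f)) (hc : IsoOn c f) :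
    IsoOn (b ≫ c) f := by
  intro T t ht
  have h1 := hc T t ht
  have h2 := hb _ (pullback.fst c t) (fun z => by
    have h : c (pullback.fst c t z) = t (pullback.snd c t z) := by
      rw [← Scheme.Hom.comp_apply, pullback.condition, Scheme.Hom.comp_apply]
    rw [Scheme.Hom.comp_apply, h]
    exact ht _)
  have sq := (IsPullback.of_hasPullback b (pullback.fst c t)).flip.paste_horiz (IsPullback.of_hasPullback c t).flip
  have h3 : pullback.snd (b ≫ c) t = sq.flip.isoPullback.inv ≫ (pullback.snd b (pullback.fst c t) ≫ pullback.snd c t) := by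
    rw [Iso.eq_inv_comp]
    exact sq.flip.isoPullback_hom_snd
  rw [h3]
  infer_instance

theorem isoOn_blowUp {b : X' ⟶ X} {f : X ⟶ Spec (CommRingCat.of R)} {J : X.IdealSheafData} (hb : IsBlowUp b J)
    (hJ : ∀ x ∈ J.support, f x = (closedPoint R : PrimeSpectrum R)) : IsoOn b f := by
  intro T t ht
  obtain ⟨r, hr, hrb⟩ := Groth.Agent.Ega2.BlowBasic.exists_isIso_offSupport hb
  have h1 : ∀ z, t z ∈ Groth.Agent.Ega2.BlowBasic.offSupport J := fun z hz => ht z (hJ _ hz)
  let k : T ⟶ (Groth.Agent.Ega2.BlowBasic.offSupport J).toScheme := IsOpenImmersion.lift (Groth.Agent.Ega2.BlowBasic.offSupport J).ι t (by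
    rw [Scheme.Opens.range_ι]
    rintro _ ⟨z, rfl⟩
    exact h1 z)
  have hk : k ≫ (Groth.Agent.Ega2.BlowBasic.offSupport J).ι = t := IsOpenImmersion.lift_fac _ _ _
  have sq0 : IsPullback (Groth.Agent.Ega2.BlowBasic.offSupport (J.comap b)).ι r b (Groth.Agent.Ega2.BlowBasic.offSupport J).ι := by
    refine (IsOpenImmersion.isPullback _ _ _ _ hrb.symm ?_).flip
    rw [Scheme.Opens.opensRange_ι, Scheme.Opens.opensRange_ι]
    ext x
    change b x ∉ J.support ↔ x ∉ (J.comap b).support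
    rw [Scheme.IdealSheafData.support_comap]
    rfl
  have sq1 : IsPullback (pullback.fst b t) (pullback.snd b t) b (k ≫ (Groth.Agent.Ega2.BlowBasic.offSupport J).ι) := by
    rw [hk]; exact IsPullback.of_hasPullback b t
  let e : pullback b t ⟶ _ := sq0.lift (pullback.fst b t) (pullback.snd b t ≫ k) (by rw [Category.assoc, hk]; exact pullback.condition)
  have sq2 : IsPullback e (pullback.snd b t) r k := by
    refine IsPullback.of_right ?_ (sq0.lift_snd _ _ _) sq0
    have h3 : e ≫ (Groth.Agent.Ega2.BlowBasic.offSupport (J.comap b)).ι = pullback.fst b t := sq0.lift_fst _ _ _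
    rw [h3]
    exact sq1
  exact MorphismProperty.of_isPullback (P := MorphismProperty.isomorphisms Scheme.{u}) sq2 hr

theorem isIso_baseChangeOver {c : Y ⟶ X} {S : Scheme.{u}} {f : X ⟶ Spec (CommRingCat.of R)} (hc : IsoOn c f) (g : S ⟶ Spec (CommRingCat.of R))
    (hg : ∀ z, g z ≠ (closedPoint R : PrimeSpectrum R)) : IsIso (CInt.baseChangeOver c f g) := by
  have hB1 : CInt.baseChangeOver c f g ≫ pullback.fst f g = pullback.fst (c ≫ f) g ≫ c :=
    pullback.lift_fst _ _ _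
  have hB2 : CInt.baseChangeOver c f g ≫ pullback.snd f g = pullback.snd (c ≫ f) g :=
    (pullback.lift_snd _ _ _).trans (Category.comp_id _)
  have sq1 : IsPullback (pullback.fst (c ≫ f) g) (CInt.baseChangeOver c f g) c (pullback.fst f g) := by
    have h2 : IsPullback (pullback.fst (c ≫ f) g) (CInt.baseChangeOver c f g ≫ pullback.snd f g)
        (c ≫ f) g := by
      rw [hB2]; exact IsPullback.of_hasPullback _ _
    exact IsPullback.of_bot h2 hB1.symm (IsPullback.of_hasPullback f g)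
  have h1 := hc _ (pullback.fst f g) (fun z => by
    rw [← Scheme.Hom.comp_apply, pullback.condition, Scheme.Hom.comp_apply]
    exact hg _)
  have h3 : CInt.baseChangeOver c f g = sq1.isoPullback.hom ≫ pullback.snd c (pullback.fst f g) :=
    sq1.isoPullback_hom_snd.symm
  rw [h3]
  infer_instance

end Iso

section Pr

variable {X Y : Scheme.{u}}

theorem mem_primeOf_iff (b : Y ⟶ X) {y Q' : Y} {x Q : X} (hy : b y = x) (hQ : b Q' = Q) (h' : Q' ⤳ y) (h : Q ⤳ x) (a : X.presheaf.stalk x) :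
    stk b y x hy a ∈ (primeOf h').asIdeal ↔ a ∈ (primeOf h).asIdeal := by
  subst hy
  subst hQ
  rw [primeOf_asIdeal, primeOf_asIdeal, mem_ker_specMap_iff, mem_ker_specMap_iff, stk_self]
  have h1 : (Y.presheaf.stalkSpecializes h').hom ((b.stalkMap y).hom a) = (b.stalkMap Q').hom ((X.presheaf.stalkSpecializes h).hom a) := by
    have := ConcreteCategory.congr_hom (Scheme.Hom.stalkSpecializes_stalkMap b Q' y h') a
    exact this.symm
  rw [h1]
  exact not_congr (isUnit_map_iff (b.stalkMap Q').hom _)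

end Pr

section Seq

variable {R : Type u} [CommRing R] [IsDomain R] [IsDiscreteValuationRing R] {X Y X' : Scheme.{u}}

/-- the nonregular points of the special fibre -/
def bad (g : Y ⟶ Spec (CommRingCat.of R)) : Set Y :=
  {x : Y | g x = (closedPoint R : PrimeSpectrum R) ∧ ¬ IsRegularLocalRing (Y.presheaf.stalk x)}

/-- the properties of the `n`-th stage of the chain -/
structure Inv (ϖ : R) (f : X ⟶ Spec (CommRingCat.of R)) (c : Y ⟶ X) (n : ℕ) : Prop where
  proper : IsProper c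
  nodal : Curv2.IsNodalFamily (c ≫ f)
  iso : IsoOn c f
  fin : ∀ (y : Y) (x : X), c y = x → y ∈ bad (c ≫ f) → x ∈ bad f ∧
    (∀ l, IsFin ϖ f x l → 2 * n ≤ l ∧ IsFin ϖ (c ≫ f) y (l - 2 * n)) ∧ (IsInf ϖ f x → IsInf ϖ (c ≫ f) y)
  div : ∀ (y : Y) (x : X) (hy : c y = x), y ∈ bad (c ≫ f) → ∀ (Q : Y) (hQ : Q ⤳ y), (c ≫ f) Q ≠ (closedPoint R : PrimeSpectrum R) →
    ∀ a : X.presheaf.stalk x, stk c y x hy a ∈ (primeOf hQ).asIdeal →
      ∃ a' ∈ (primeOf hQ).asIdeal, stk c y x hy a = DualGr.stalkHom (c ≫ f) y ϖ ^ n * a'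

variable {ϖ : R} {f : X ⟶ Spec (CommRingCat.of R)}

theorem inv_id (hf : Curv2.IsNodalFamily f) : Inv ϖ f (𝟙 X) 0 where
  proper := inferInstance
  nodal := by rwa [Category.id_comp]
  iso := isoOn_id f
  fin := by
    rintro y x hy hbad
    rw [Category.id_comp] at hbad ⊢
    obtain rfl : y = x := hy
    exact ⟨hbad, fun l hl => ⟨by omega, by simpa using hl⟩, fun h => h⟩
  div := by
    intro y x hy _ Q hQ _ a ha
    exact ⟨_, ha, by rw [pow_zero, one_mul]⟩

theorem Inv.next [IsProper f] (hϖ : Irreducible ϖ) {c : Y ⟶ X} {n : ℕ} (hc : Inv ϖ f c n) (b : X' ⟶ Y)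
    (hb : IsBlowUp b (Scheme.IdealSheafData.vanishingIdeal ⟨closure (bad (c ≫ f)), isClosed_closure⟩)) :
    Inv ϖ f (b ≫ c) (n + 1) := by
  have hcp := hc.proper
  have hflat : Flat (c ≫ f) := hc.nodal.1
  have hlfp : LocallyOfFinitePresentation (c ≫ f) := hc.nodal.2.1
  have hN : IsLocallyNoetherian Y := LocallyOfFiniteType.isLocallyNoetherian (c ≫ f)
  obtain ⟨hfin, hcl⟩ := nonreg_finite (c ≫ f) hc.nodal
  change (bad (c ≫ f)).Finite at hfin
  change ∀ x ∈ bad (c ≫ f), _ at hcl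
  have hZ : IsClosed (bad (c ≫ f)) := by
    rw [← Set.biUnion_of_singleton (bad (c ≫ f))]
    exact hfin.isClosed_biUnion fun w hw => hcl w hw
  have hb' : BlowUp.IsBlowUp b (Scheme.IdealSheafData.vanishingIdeal ⟨bad (c ≫ f), hZ⟩) := by
    have h1 : (⟨closure (bad (c ≫ f)), isClosed_closure⟩ : Closeds Y) = ⟨bad (c ≫ f), hZ⟩ := by
      apply Closeds.ext
      exact hZ.closure_eq
    rw [← h1]
    exact hb
  clear hb
  have hsupp : ∀ x, x ∈ (Scheme.IdealSheafData.vanishingIdeal ⟨bad (c ≫ f), hZ⟩).support ↔ x ∈ bad (c ≫ f) := by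
    intro x
    rw [← SetLike.mem_coe, Scheme.IdealSheafData.coe_support_vanishingIdeal]
    rfl
  have hbp : IsProper b := Groth.Agent.Flat2C.BlowProper.isProper_of_isBlowUp hb' (K793.Chart.isFiniteTypeIdeal _)
  have hf' : Curv2.IsNodalFamily (b ≫ c ≫ f) := isNodalFamily_blowUp R (c ≫ f) hc.nodal hfin hcl hZ (fun z hz => hz.1) (fun z hz => hz.2) b hb'
  have hflat' : Flat (b ≫ c ≫ f) := hf'.1
  have hlfp' : LocallyOfFinitePresentation (b ≫ c ≫ f) := hf'.2.1
  have hN' : IsLocallyNoetherian X' := LocallyOfFiniteType.isLocallyNoetherian (b ≫ c ≫ f)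
  have hbad : ∀ y' ∈ bad (b ≫ c ≫ f), b y' ∈ bad (c ≫ f) := by
    rintro y' ⟨h1, h2⟩
    by_contra hne
    have h3 : (c ≫ f) (b y') = (closedPoint R : PrimeSpectrum R) := h1
    have h4 : IsRegularLocalRing (Y.presheaf.stalk (b y')) := by
      by_contra hr
      exact hne ⟨h3, hr⟩
    exact h2 (regular_of_notMem b hb' y' (fun h => hne ((hsupp _).1 h)) h4)
  have hstep : ∀ (y' : X') (hy' : y' ∈ bad (b ≫ c ≫ f)) (y : Y) (hy : b y' = y),
      (maximalIdeal (Y.presheaf.stalk y)).map (stk b y' y hy) = Ideal.span {DualGr.stalkHom (b ≫ c ≫ f) y' ϖ} ∧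
      (∀ n, IsFin ϖ (c ≫ f) y n → 4 ≤ n ∧ IsFin ϖ (b ≫ c ≫ f) y' (n - 2)) ∧ (IsInf ϖ (c ≫ f) y → IsInf ϖ (b ≫ c ≫ f) y') := by
    rintro y' hy' y rfl
    exact step_multi hϖ hfin hcl hZ hc.nodal b hb' y' _ rfl (hbad y' hy') (hbad y' hy').1 (hbad y' hy').2 hy'.2
  refine ⟨inferInstance, by rwa [Category.assoc], ?_, ?_, ?_⟩
  · exact (isoOn_blowUp hb' fun x hx => ((hsupp x).1 hx).1).comp hc.iso
  · intro y' x hx hy'
    rw [Category.assoc] at hy' ⊢
    obtain ⟨h1, h2, h3⟩ := hc.fin (b y') x hx (hbad y' hy')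
    obtain ⟨-, h4, h5⟩ := hstep y' hy' _ rfl
    refine ⟨h1, fun l hl => ?_, fun h => h5 (h3 h)⟩
    obtain ⟨h6, h7⟩ := h2 l hl
    obtain ⟨h8, h9⟩ := h4 _ h7
    refine ⟨by omega, ?_⟩
    have h10 : l - 2 * (n + 1) = l - 2 * n - 2 := by omega
    rw [h10]
    exact h9
  · intro y' x hx hy' Q' hQ' hgen a ha
    rw [Category.assoc] at hy' hgen
    have hcx : c (b y') = x := hx
    have h1 := stk_comp b c y' (b y') x rfl hcx hx
    rw [h1, RingHom.comp_apply] at ha ⊢
    have hQ : b Q' ⤳ b y' := hQ'.map b.continuous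
    rw [mem_primeOf_iff b rfl rfl hQ' hQ] at ha
    obtain ⟨a₁, ha₁, he₁⟩ := hc.div (b y') x hcx (hbad y' hy') (b Q') hQ hgen a ha
    obtain ⟨h2, -, -⟩ := hstep y' hy' _ rfl
    have h3 : a₁ ∈ maximalIdeal (Y.presheaf.stalk (b y')) := le_maximalIdeal (primeOf hQ).2.ne_top ha₁
    have h4 := Ideal.mem_map_of_mem (stk b y' (b y') rfl) h3
    rw [h2] at h4
    obtain ⟨a₂, ha₂⟩ := Ideal.mem_span_singleton'.1 h4
    have h5 : a₂ * DualGr.stalkHom (b ≫ c ≫ f) y' ϖ ∈ (primeOf hQ').asIdeal := by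
      rw [ha₂, mem_primeOf_iff b rfl rfl hQ' hQ]
      exact ha₁
    refine ⟨a₂, ((primeOf hQ').2.mem_or_mem h5).resolve_right ?_, ?_⟩
    · rw [K793.FibGeom.asIdeal_mem_iff hϖ]
      exact hgen
    · rw [he₁, map_mul, map_pow, stk_stalkHom (c ≫ f) b, ← ha₂, pow_succ, Category.assoc]
      ring

/-- a stage of the chain -/
structure Stage (X : Scheme.{u}) where
  /-- the scheme -/
  Y : Scheme.{u}
  /-- the map to the base -/
  c : Y ⟶ X

theorem exists_next (f : X ⟶ Spec (CommRingCat.of R)) (S : Stage X) : ∃ (T : Stage X) (b : T.Y ⟶ S.Y), b ≫ S.c = T.c ∧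
    IsBlowUp b (Scheme.IdealSheafData.vanishingIdeal ⟨closure (bad (S.c ≫ f)), isClosed_closure⟩) := by
  obtain ⟨X', b, hb⟩ := Groth.Agent.Flat2C.BlowExist.exists_isBlowUp
    (Scheme.IdealSheafData.vanishingIdeal (X := S.Y) ⟨closure (bad (S.c ≫ f)), isClosed_closure⟩)
  exact ⟨⟨X', b ≫ S.c⟩, b, rfl, hb⟩

/-- the chain of blow-ups -/
noncomputable def seq (f : X ⟶ Spec (CommRingCat.of R)) : ℕ → Stage X
  | 0 => ⟨X, 𝟙 X⟩
  | n + 1 => (exists_next f (seq f n)).choose

/-- the maps of the chain of blow-ups -/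
noncomputable def blow (f : X ⟶ Spec (CommRingCat.of R)) (n : ℕ) : (seq f (n + 1)).Y ⟶ (seq f n).Y :=
  (exists_next f (seq f n)).choose_spec.choose

theorem blow_comp (f : X ⟶ Spec (CommRingCat.of R)) (n : ℕ) : blow f n ≫ (seq f n).c = (seq f (n + 1)).c :=
  (exists_next f (seq f n)).choose_spec.choose_spec.1

theorem isBlowUp_blow (f : X ⟶ Spec (CommRingCat.of R)) (n : ℕ) :
    IsBlowUp (blow f n) (Scheme.IdealSheafData.vanishingIdeal ⟨closure (bad ((seq f n).c ≫ f)), isClosed_closure⟩) :=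
  (exists_next f (seq f n)).choose_spec.choose_spec.2

theorem inv_seq [IsProper f] (hϖ : Irreducible ϖ) (hf : Curv2.IsNodalFamily f) (n : ℕ) : Inv ϖ f (seq f n).c n := by
  induction n with
  | zero => exact inv_id hf
  | succ n ih =>
    rw [← blow_comp]
    exact ih.next hϖ (blow f n) (isBlowUp_blow f n)

end Seq

end K793.ChainSeq
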