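import Groth.Agent.SemiFact.K793.ChainInf

/-!
# The nonregular points of the generic fibre of a nodal family
-/

set_option autoImplicit false
universe u

open CategoryTheory CategoryTheory.Limits AlgebraicGeometry IsLocalRing Opposite TopologicalSpace

namespace K793.ChainSing

variable {R : Type u} [CommRing R] [IsDomain R] [IsDiscreteValuationRing R] {X : Scheme.{u}} (f : X ⟶ Spec (CommRingCat.of R))

theorem exists_genPoint : ∃ s : Spec (CommRingCat.of R), ∀ x : X, f x ≠ (closedPoint R : PrimeSpectrum R) ↔ f x = s := by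
  let s : Spec (CommRingCat.of R) := Neron.genPt R (closedPoint (FractionRing R))
  refine ⟨s, fun x => ?_⟩
  rw [← K793.FibGeom.mem_range_iff]
  constructor
  · rintro ⟨w, rfl⟩
    rw [← Scheme.Hom.comp_apply, pullback.condition, Scheme.Hom.comp_apply]
    exact congrArg _ (Subsingleton.elim _ _)
  · intro hx
    rw [K793.FibGeom.mem_range_iff, hx]
    intro h
    obtain ⟨ϖ, hϖ⟩ := IsDiscreteValuationRing.exists_irreducible R
    have h1 := (Basic.eq_closedPoint_iff s hϖ).1 h
    have h2 : ϖ ∈ (maximalIdeal (FractionRing R)).comap (algebraMap R (FractionRing R)) := h1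
    rw [Ideal.mem_comap, IsLocalRing.mem_maximalIdeal, mem_nonunits_iff] at h2
    refine h2 (IsUnit.mk0 _ ?_)
    rw [Ne, map_eq_zero_iff _ (IsFractionRing.injective R (FractionRing R))]
    exact hϖ.ne_zero

theorem isClosed_nonsmooth (s : Spec (CommRingCat.of R)) (hf : Curv2.IsNodalFamily f) (z : f.fiber s)
    (hz : z ∈ DualGr.nonsmoothPts (f.fiberToSpecResidueField s)) : IsClosed ({z} : Set ↥(f.fiber s)) := by
  obtain ⟨hflat, hlfp, h⟩ := hf
  obtain ⟨hdim, hawn⟩ := h s
  have hlfp' : LocallyOfFiniteType (f.fiberToSpecResidueField s) :=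
    MorphismProperty.pullback_snd _ _ inferInstance
  have hlfp2 : LocallyOfFinitePresentation (f.fiberToSpecResidueField s) :=
    MorphismProperty.pullback_snd _ _ inferInstance
  have hgr : GeometricallyReduced (f.fiberToSpecResidueField s) :=
    (@Groth.Agent.S1589.result ((Spec (CommRingCat.of R)).residueField s) _ (f.fiber s)
      ⟨f.fiberToSpecResidueField s⟩
      (inferInstanceAs (LocallyOfFiniteType (f.fiberToSpecResidueField s))) hdim hawn).2
  have hN : IsLocallyNoetherian (f.fiber s) := LocallyOfFiniteType.isLocallyNoetherian (f.fiberToSpecResidueField s)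
  have hdense : Dense ((f.fiberToSpecResidueField s).smoothLocus : Set ↥(f.fiber s)) :=
    Groth.Agent.VarietyA.GeomRedSch.dense_smoothLocus ((Spec (CommRingCat.of R)).residueField s) (f.fiberToSpecResidueField s)
  refine Groth.Agent.Sga4h.RegPushFin539.isClosed_singleton (fun t => ?_) (f.fiberToSpecResidueField s).smoothLocus.ι ?_ z ?_
  · have h1 := Groth.Agent.Dual.H341.CMSch.topologicalKrullDim_le_of_components ↥(f.fiber s) 1 hdim
    exact (Groth.Agent.CurvesB.DimPts.ringKrullDim_stalk_le t).trans h1
  · have h1 := Scheme.Opens.range_ι (f.fiberToSpecResidueField s).smoothLocus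
    rw [show Set.range (f.fiberToSpecResidueField s).smoothLocus.ι.base =
      ((f.fiberToSpecResidueField s).smoothLocus : Set ↥(f.fiber s)) from h1]
    exact hdense
  · intro h1
    rw [Scheme.Opens.range_ι (f.fiberToSpecResidueField s).smoothLocus] at h1
    exact hz h1

theorem isRegularLocalRing_of_smooth (s : Spec (CommRingCat.of R)) [LocallyOfFinitePresentation f] [Flat f] (z : f.fiber s)
    (hz : z ∉ DualGr.nonsmoothPts (f.fiberToSpecResidueField s)) :
    IsRegularLocalRing (X.presheaf.stalk (f.fiberι s z)) := by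
  have hlfp : LocallyOfFinitePresentation (f.fiberToSpecResidueField s) :=
    MorphismProperty.pullback_snd _ _ inferInstance
  have h1 : z ∈ (f.fiberToSpecResidueField s).smoothLocus := not_not.1 hz
  have h2 := (Groth.Agent.Smoothlim.SmoothLocusBC.mem_smoothLocus_iff_of_isPullback
    (IsPullback.of_hasPullback f ((Spec (CommRingCat.of R)).fromSpecResidueField s)) z (Or.inl (Flat.stalkMap f _))).1 h1
  let U := f.smoothLocus
  have hsm : Smooth (U.ι ≫ f) := by
    rw [← Scheme.Hom.smoothLocus_eq_top_iff, ← Scheme.Hom.preimage_smoothLocus_eq]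
    ext y
    simp only [Scheme.Opens.ι_preimage_self, U]
  have h3 := Groth.Agent.Fga.DVRGeom.isRegularLocalRing_stalk (p := U.ι ≫ f) ⟨_, h2⟩
  exact IsRegularLocalRing.of_ringEquiv ((asIso (U.ι.stalkMap ⟨_, h2⟩)).commRingCatIsoToRingEquiv.symm)

theorem noetherianSpace_fiber (s : Spec (CommRingCat.of R)) [LocallyOfFiniteType f] [QuasiCompact f] : TopologicalSpace.NoetherianSpace ↥(f.fiber s) := by
  have hlft : LocallyOfFiniteType (f.fiberToSpecResidueField s) :=
    MorphismProperty.pullback_snd _ _ inferInstance
  have hqc : QuasiCompact (f.fiberToSpecResidueField s) :=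
    MorphismProperty.pullback_snd _ _ inferInstance
  have hNF : IsLocallyNoetherian (f.fiber s) := LocallyOfFiniteType.isLocallyNoetherian (f.fiberToSpecResidueField s)
  have hc : CompactSpace ↥(f.fiber s) := QuasiCompact.compactSpace_of_compactSpace (f.fiberToSpecResidueField s)
  have : IsNoetherian (f.fiber s) := { }
  infer_instance

/-- the nonregular points of the generic fibre are finitely many points which are closed in the generic fibre -/
theorem sing_finite [IsProper f] (hf : Curv2.IsNodalFamily f) :
    {x : X | f x ≠ (closedPoint R : PrimeSpectrum R) ∧ ¬ IsRegularLocalRing (X.presheaf.stalk x)}.Finite ∧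
    ∀ Q : X, f Q ≠ (closedPoint R : PrimeSpectrum R) → ¬ IsRegularLocalRing (X.presheaf.stalk Q) →
      ∀ w : X, Q ⤳ w → f w ≠ (closedPoint R : PrimeSpectrum R) → w = Q := by
  have hflat : Flat f := hf.1
  have hlfp : LocallyOfFinitePresentation f := hf.2.1
  obtain ⟨s, hs⟩ := exists_genPoint f
  have hN := noetherianSpace_fiber f s
  have hlfp2 : LocallyOfFinitePresentation (f.fiberToSpecResidueField s) :=
    MorphismProperty.pullback_snd _ _ inferInstance
  have hcl : IsClosed (DualGr.nonsmoothPts (f.fiberToSpecResidueField s)) :=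
    (f.fiberToSpecResidueField s).smoothLocus.isOpen.isClosed_compl
  have hfin := Groth.Agent.CohqB.DiscSupp.finite_of_isClosed_points _ hcl fun z hz => isClosed_nonsmooth f s hf z hz
  have hpt : ∀ x : X, f x = s → ∃ z : f.fiber s, f.fiberι s z = x := by
    intro x hx
    have h1 : x ∈ Set.range (f.fiberι s) := by
      rw [f.range_fiberι]
      exact hx
    exact h1
  constructor
  · refine (hfin.image (f.fiberι s)).subset ?_
    rintro x ⟨hx, hr⟩
    obtain ⟨z, rfl⟩ := hpt x ((hs x).1 hx)
    refine ⟨z, ?_, rfl⟩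
    by_contra hz
    exact hr (isRegularLocalRing_of_smooth f s z hz)
  · intro Q hQ hr w hQw hw
    obtain ⟨q, rfl⟩ := hpt Q ((hs Q).1 hQ)
    obtain ⟨w', rfl⟩ := hpt w ((hs w).1 hw)
    have h1 : IsClosed ({q} : Set ↥(f.fiber s)) := by
      refine isClosed_nonsmooth f s hf q ?_
      by_contra hz
      exact hr (isRegularLocalRing_of_smooth f s q hz)
    have h2 := ((f.fiberι s).isEmbedding.isInducing.specializes_iff).1 hQw
    have h3 := h2.mem_closed h1 rfl
    rw [Set.mem_singleton_iff.1 h3]

end K793.ChainSing
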