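import Groth.Agent.SemiFact.K793.BlMain
import Groth.Agent.Flat2F.FlatWeight

/-!
# One step of the chain of blow-ups, seen in étale charts
-/

set_option autoImplicit false
universe u

open CategoryTheory CategoryTheory.Limits AlgebraicGeometry IsLocalRing BlowUp Opposite TopologicalSpace

namespace K793.ChainStep

open Groth.Agent.Divis.CartierBasic Groth.Agent.Divis.CartierStalk K793.BlGeom K793.BlMain K793.Chart
open Groth.Agent.Models.NodeRing Groth.Agent.Models.NodeBlow Groth.Agent.Models.NodeStep K793.NodeBlow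

section Stk

variable {P Y X : Scheme.{u}}

theorem stk_comp (g : P ⟶ Y) (f : Y ⟶ X) (p : P) (y : Y) (x : X) (hy : g p = y) (hx : f y = x) (h : (g ≫ f) p = x) :
    stk (g ≫ f) p x h = (stk g p y hy).comp (stk f y x hx) := by
  subst hy
  subst hx
  rw [stk_self, stk_self]
  have h1 := stk_self (g ≫ f) p
  have h2 : stk (g ≫ f) p (f (g p)) h = stk (g ≫ f) p ((g ≫ f) p) rfl := rfl
  rw [h2, h1, Scheme.Hom.stalkMap_comp]
  rfl

theorem map_maximalIdeal_stk (f : P ⟶ X) [Etale f] (p : P) (x : X) (h : f p = x) :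
    (maximalIdeal (X.presheaf.stalk x)).map (stk f p x h) = maximalIdeal (P.presheaf.stalk p) := by
  subst h
  rw [stk_self]
  exact Groth.Agent.Flat2F.FlatWeight.map_maximalIdeal_of_etale f p

theorem flat_stk (f : P ⟶ X) [Flat f] (p : P) (x : X) (h : f p = x) : (stk f p x h).Flat := by
  subst h
  rw [stk_self]
  exact Flat.stalkMap f p

theorem eq_of_map_stk_eq (f : P ⟶ X) [Flat f] (p : P) (x : X) (h : f p = x) {I J : Ideal (X.presheaf.stalk x)}
    (hIJ : I.map (stk f p x h) = J.map (stk f p x h)) : I = J := by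
  let _alg := (stk f p x h).toAlgebra
  have h1 : Module.Flat (X.presheaf.stalk x) (P.presheaf.stalk p) := flat_stk f p x h
  have h2 : IsLocalHom (algebraMap (X.presheaf.stalk x) (P.presheaf.stalk p)) := isLocalHom_stk f p x h
  have h3 : Module.FaithfullyFlat (X.presheaf.stalk x) (P.presheaf.stalk p) := Module.FaithfullyFlat.of_flat_of_isLocalHom
  have h4 := congrArg (Ideal.comap (algebraMap (X.presheaf.stalk x) (P.presheaf.stalk p))) hIJ
  have h5 := Ideal.comap_map_eq_self_of_faithfullyFlat (B := P.presheaf.stalk p) I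
  have h6 := Ideal.comap_map_eq_self_of_faithfullyFlat (B := P.presheaf.stalk p) J
  rw [← h5, ← h6]
  exact h4

theorem stalkHom_specMap {A B : Type u} [CommRing A] [CommRing B] (h : P ⟶ Spec (CommRingCat.of B)) (ψ : A →+* B) (p : P) (w : A) :
    DualGr.stalkHom (h ≫ Spec.map (CommRingCat.ofHom ψ)) p w = DualGr.stalkHom h p (ψ w) := by
  rw [K793.Basic.stalkHom_eq_germ, K793.Basic.stalkHom_eq_germ]
  congr 1
  exact congrArg (fun φ : A →+* Γ(P, ⊤) => φ w) (Groth.Agent.Divis.BlowChart.glob_map ψ h)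

end Stk

section Chart

variable {R : Type u} [CommRing R] [IsDomain R] [IsDiscreteValuationRing R] {ϖ : R} (hϖ : Irreducible ϖ) {X : Scheme.{u}} {p : X ⟶ Spec (CommRingCat.of R)} {x : X}

include hϖ in
theorem gen_of_bchart [IsLocallyNoetherian X] (C : NChart R ϖ p x) (hpx : p x = (closedPoint R : PrimeSpectrum R))
    (hreg : ¬ IsRegularLocalRing (X.presheaf.stalk x)) {c : C.D} {X' : Scheme.{u}} [IsLocallyNoetherian X'] {b : X' ⟶ X} {x' : X'} (B : BChart C c b x')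
    (hreg' : ¬ IsRegularLocalRing (X'.presheaf.stalk x')) (hx' : b x' = x) :
    B.c' = c ∧ (maximalIdeal (X.presheaf.stalk x)).map (stk b x' x hx') = Ideal.span {DualGr.stalkHom (b ≫ p) x' ϖ} := by
  have htm : algebraMap C.D (W C.D C.a) C.t ∈ (C.g C.y).asIdeal := by
    rw [C.t_mem_iff hϖ, C.hy]
    exact hpx
  have horig := C.asIdeal_eq_orig hreg htm
  have hne : B.c' ≠ C.t := by
    intro h
    apply hreg'
    have h1 := Groth.Agent.S0065.result B.α B.z
    have hNW : IsLocallyNoetherian (Spec (CommRingCat.of (W C.D B.c'))) := by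
      have hN1 : IsNoetherianRing (W C.D B.c') := inferInstance
      have : IsNoetherianRing (CommRingCat.of (W C.D B.c')) := hN1
      infer_instance
    have h2 := Groth.Agent.S0065.result B.β B.z
    rw [B.hz] at h1
    refine h1.1 (h2.2 ?_)
    exact stalk_isRegular_of_le_one C.t C.irr 1 le_rfl (by rw [h, pow_one]) _
  rcases B.hc with ⟨h, -, -⟩ | ⟨h, -, -⟩ | ⟨h, hu, hv⟩
  · exact absurd h hne
  · exact absurd h hne
  refine ⟨h, ?_⟩
  have hP : B.α B.z = x' := B.hz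
  apply eq_of_map_stk_eq B.α B.z x' hP
  have hαb : (B.α ≫ b) B.z = x := by rw [Scheme.Hom.comp_apply, hP, hx']
  rw [Ideal.map_map, ← stk_comp B.α b B.z x' x hP hx' hαb, Ideal.map_span, Set.image_singleton, stk_stalkHom (b ≫ p) B.α]
  have hγe : (B.γ ≫ C.e) B.z = x := by rw [B.hγe]; exact hαb
  have h3 : stk (B.α ≫ b) B.z x hαb = stk (B.γ ≫ C.e) B.z x hγe := by
    have key : ∀ (k k' : B.P ⟶ X) (hkk : k = k') (h1 : k B.z = x) (h2 : k' B.z = x), stk k B.z x h1 = stk k' B.z x h2 := by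
      rintro k k' rfl _ _; rfl
    exact key _ _ B.hγe.symm _ _
  rw [h3, stk_comp B.γ C.e B.z C.y x B.hγz C.hy hγe, ← Ideal.map_map, map_maximalIdeal_stk C.e C.y x C.hy]
  have h4 : maximalIdeal (C.U.presheaf.stalk C.y) = (orig C.t C.a).map (DualGr.stalkHom C.g C.y) := by
    rw [← horig, ← K793.Basic.fibIdeal_eq]
    exact (Groth.Agent.Flat2F.FlatWeight.map_maximalIdeal_of_etale C.g C.y).symm
  have h5 : (stk B.γ B.z C.y B.hγz).comp (DualGr.stalkHom C.g C.y) = (DualGr.stalkHom B.β B.z).comp B.ψ := by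
    refine RingHom.ext fun w => ?_
    rw [RingHom.comp_apply, RingHom.comp_apply, stk_stalkHom C.g B.γ, B.hγg, stalkHom_specMap]
  rw [h4, Ideal.map_map, h5, ← Ideal.map_map]
  have h6 : (orig C.t C.a).map B.ψ = Ideal.span {algebraMap C.D (W C.D B.c') C.t} := by
    unfold orig
    rw [Ideal.map_span, Set.image_insert_eq, Set.image_insert_eq, Set.image_singleton, hu, hv, B.hψ]
    apply le_antisymm
    · rw [Ideal.span_le]
      rintro _ (rfl | rfl | rfl)
      · exact Ideal.mul_mem_right _ _ (Ideal.mem_span_singleton_self _)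
      · exact Ideal.mul_mem_right _ _ (Ideal.mem_span_singleton_self _)
      · exact Ideal.mem_span_singleton_self _
    · exact Ideal.span_mono (by intro z; simp only [Set.mem_insert_iff, Set.mem_singleton_iff]; tauto)
  rw [h6, Ideal.map_span, Set.image_singleton]
  congr 2
  have h7 : DualGr.stalkHom (B.β ≫ str C.D B.c' ≫ Spec.map (CommRingCat.ofHom (algebraMap R C.D))) B.z ϖ =
      DualGr.stalkHom B.β B.z (algebraMap C.D (W C.D B.c') C.t) := by
    rw [← Category.assoc, stalkHom_specMap]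
    exact stalkHom_specMap B.β (algebraMap C.D (W C.D B.c')) B.z _
  rw [← h7, B.w]

end Chart

/-- the node at `x` has étale thickness `n` -/
def IsFin {R : Type u} [CommRing R] (ϖ : R) {X : Scheme.{u}} (p : X ⟶ Spec (CommRingCat.of R)) (x : X) (n : ℕ) : Prop :=
  ∃ C : NChart R ϖ p x, C.a = C.t ^ n

/-- the node at `x` has infinite thickness -/
def IsInf {R : Type u} [CommRing R] (ϖ : R) {X : Scheme.{u}} (p : X ⟶ Spec (CommRingCat.of R)) (x : X) : Prop :=
  ∃ C : NChart R ϖ p x, C.a = 0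

section Tr

variable {R : Type u} [CommRing R] {ϖ : R} {X V : Scheme.{u}} {p : X ⟶ Spec (CommRingCat.of R)}

theorem exists_restrict (j : V ⟶ X) [Etale j] (v : V) (x : X) (hv : j v = x) (C : NChart R ϖ p x) :
    (C.a = 0 → IsInf ϖ (j ≫ p) v) ∧ (∀ n, C.a = C.t ^ n → IsFin ϖ (j ≫ p) v n) := by
  obtain ⟨z, hz1, hz2⟩ := Scheme.Pullback.exists_preimage_pullback (f := C.e) (g := j) C.y v (C.hy.trans hv.symm)
  let C' : NChart R ϖ (j ≫ p) v :=
    { D := C.D, irr := C.irr, a := C.a, ha := C.ha, U := pullback C.e j, e := pullback.snd C.e j, y := z, hy := hz2,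
      g := pullback.fst C.e j ≫ C.g, w := by rw [Category.assoc, C.w, ← Category.assoc, pullback.condition, Category.assoc] }
  exact ⟨fun h => ⟨C', h⟩, fun n h => ⟨C', h⟩⟩

theorem IsFin.restrict (j : V ⟶ X) [Etale j] (v : V) (x : X) (hv : j v = x) {n : ℕ} (h : IsFin ϖ p x n) : IsFin ϖ (j ≫ p) v n := by
  obtain ⟨C, hC⟩ := h
  exact (exists_restrict j v x hv C).2 n hC

theorem IsInf.restrict (j : V ⟶ X) [Etale j] (v : V) (x : X) (hv : j v = x) (h : IsInf ϖ p x) : IsInf ϖ (j ≫ p) v := by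
  obtain ⟨C, hC⟩ := h
  exact (exists_restrict j v x hv C).1 hC

theorem exists_push (j : V ⟶ X) [Etale j] (v : V) (x : X) (hv : j v = x) (C : NChart R ϖ (j ≫ p) v) :
    (C.a = 0 → IsInf ϖ p x) ∧ (∀ n, C.a = C.t ^ n → IsFin ϖ p x n) := by
  let C' : NChart R ϖ p x :=
    { D := C.D, irr := C.irr, a := C.a, ha := C.ha, U := C.U, e := C.e ≫ j, y := C.y, hy := by rw [Scheme.Hom.comp_apply, C.hy, hv],
      g := C.g, w := by rw [C.w, Category.assoc] }
  exact ⟨fun h => ⟨C', h⟩, fun n h => ⟨C', h⟩⟩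

theorem IsFin.push (j : V ⟶ X) [Etale j] (v : V) (x : X) (hv : j v = x) {n : ℕ} (h : IsFin ϖ (j ≫ p) v n) : IsFin ϖ p x n := by
  obtain ⟨C, hC⟩ := h
  exact (exists_push j v x hv C).2 n hC

theorem IsInf.push (j : V ⟶ X) [Etale j] (v : V) (x : X) (hv : j v = x) (h : IsInf ϖ (j ≫ p) v) : IsInf ϖ p x := by
  obtain ⟨C, hC⟩ := h
  exact (exists_push j v x hv C).1 hC

end Tr

section Step

variable {R : Type u} [CommRing R] [IsDomain R] [IsDiscreteValuationRing R] {ϖ : R} (hϖ : Irreducible ϖ) {X : Scheme.{u}} {p : X ⟶ Spec (CommRingCat.of R)}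

theorem isFin_or_isInf (hp : Curv2.IsNodalFamily p) (hϖ : Irreducible ϖ) (x : X) (hx : p x = (closedPoint R : PrimeSpectrum R)) :
    (∃ n, IsFin ϖ p x n) ∨ IsInf ϖ p x := by
  obtain ⟨C⟩ := exists_nchart hϖ p hp x hx
  rcases C.ha with h | ⟨n, h⟩
  · exact Or.inr ⟨C, h⟩
  · exact Or.inl ⟨n, C, h⟩

include hϖ in
theorem step_single [IsLocallyNoetherian X] {x : X} (hxc : IsClosed ({x} : Set X)) (hpx : p x = (closedPoint R : PrimeSpectrum R))
    (hp : Curv2.IsNodalFamily p)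
    (hreg : ¬ IsRegularLocalRing (X.presheaf.stalk x)) {X' : Scheme.{u}} [IsLocallyNoetherian X'] (b : X' ⟶ X)
    (hb : IsBlowUp b (Scheme.IdealSheafData.vanishingIdeal ⟨{x}, hxc⟩)) (x' : X') (hx' : b x' = x)
    (hreg' : ¬ IsRegularLocalRing (X'.presheaf.stalk x')) :
    (maximalIdeal (X.presheaf.stalk x)).map (stk b x' x hx') = Ideal.span {DualGr.stalkHom (b ≫ p) x' ϖ} ∧
    (∀ n, IsFin ϖ p x n → 4 ≤ n ∧ IsFin ϖ (b ≫ p) x' (n - 2)) ∧ (IsInf ϖ p x → IsInf ϖ (b ≫ p) x') := by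
  have key : ∀ C : NChart R ϖ p x, ∃ (c : C.D) (B : BChart C c b x'), C.a = C.t ^ 2 * c ∧ (c = 0 ∨ ∃ n : ℕ, c = C.t ^ n ∧ C.a = C.t ^ (n + 2)) := by
    intro C
    obtain ⟨c, hc, hc'⟩ := C.exists_c hreg
    have htm : algebraMap C.D (W C.D C.a) C.t ∈ (C.g C.y).asIdeal := by
      rw [C.t_mem_iff hϖ, C.hy]
      exact hpx
    obtain ⟨B⟩ := exists_bchart C hreg htm c hc hxc b hb x' hx'
    exact ⟨c, B, hc, hc'⟩
  refine ⟨?_, ?_, ?_⟩
  · obtain ⟨C⟩ := exists_nchart hϖ p hp x hpx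
    obtain ⟨c, B, -, -⟩ := key C
    exact (gen_of_bchart hϖ C hpx hreg B hreg' hx').2
  · rintro n ⟨C, hC⟩
    obtain ⟨c, B, hc, hc'⟩ := key C
    have hBc := (gen_of_bchart hϖ C hpx hreg B hreg' hx').1
    have ht0 : C.t ≠ 0 := C.irr.ne_zero
    rcases hc' with rfl | ⟨m, rfl, hm⟩
    · exfalso
      rw [mul_zero, hC] at hc
      exact pow_ne_zero n ht0 hc
    · have hnm : n = m + 2 := by
        rw [hC] at hm
        exact (pow_inj_of_not_isUnit C.irr.not_isUnit ht0).1 hm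
      subst hnm
      have hm2 : 2 ≤ m := by
        by_contra hlt
        apply hreg'
        have h1 := Groth.Agent.S0065.result B.α B.z
        have hNW : IsLocallyNoetherian (Spec (CommRingCat.of (W C.D B.c'))) := by
          have hN1 : IsNoetherianRing (W C.D B.c') := inferInstance
          have : IsNoetherianRing (CommRingCat.of (W C.D B.c')) := hN1
          infer_instance
        have h2 := Groth.Agent.S0065.result B.β B.z
        rw [B.hz] at h1
        refine h1.1 (h2.2 ?_)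
        exact stalk_isRegular_of_le_one C.t C.irr m (by omega) hBc _
      refine ⟨by omega, ?_⟩
      let C' : NChart R ϖ (b ≫ p) x' :=
        { D := C.D, irr := C.irr, a := B.c', ha := Or.inr ⟨m, hBc⟩, U := B.P, e := B.α, y := B.z, hy := B.hz, g := B.β, w := B.w }
      exact ⟨C', hBc.trans (by rw [Nat.add_sub_cancel])⟩
  · rintro ⟨C, hC⟩
    obtain ⟨c, B, hc, hc'⟩ := key C
    have hBc := (gen_of_bchart hϖ C hpx hreg B hreg' hx').1
    have ht0 : C.t ≠ 0 := C.irr.ne_zero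
    have hc0 : c = 0 := by
      rw [hC] at hc
      exact (mul_eq_zero.1 hc.symm).resolve_left (pow_ne_zero 2 ht0)
    let C' : NChart R ϖ (b ≫ p) x' :=
      { D := C.D, irr := C.irr, a := B.c', ha := Or.inl (hBc.trans hc0), U := B.P, e := B.α, y := B.z, hy := B.hz, g := B.β, w := B.w }
    exact ⟨C', hBc.trans hc0⟩

theorem comap_vanishingIdeal_single {X : Scheme.{u}} {Z : Set X} (hfin : Z.Finite) (hcl : ∀ z ∈ Z, IsClosed ({z} : Set X)) (hZ : IsClosed Z)
    (z : X) (h : z ∈ Z) : ∃ (U : X.Opens) (hzU : z ∈ U) (z' : U.toScheme) (hz' : U.ι z' = z) (hzc : IsClosed ({z'} : Set U.toScheme)),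
      (Scheme.IdealSheafData.vanishingIdeal ⟨Z, hZ⟩).comap U.ι = Scheme.IdealSheafData.vanishingIdeal ⟨{z'}, hzc⟩ := by
  let U : X.Opens := ⟨(Z \ {z})ᶜ, (isClosed_diff hfin hcl z).isOpen_compl⟩
  have hxU : z ∈ U := fun h => h.2 rfl
  let z' : U.toScheme := ⟨z, hxU⟩
  have hz' : U.ι z' = z := rfl
  have hzc : IsClosed ({z'} : Set U.toScheme) := by
    have h1 : ({z'} : Set U.toScheme) = U.ι ⁻¹' {z} := by
      ext w
      simp only [Set.mem_singleton_iff, Set.mem_preimage]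
      rw [← hz']
      exact ⟨fun h => h ▸ rfl, fun h => U.ι.isOpenEmbedding.injective h⟩
    rw [h1]
    exact (hcl _ h).preimage U.ι.continuous
  refine ⟨U, hxU, z', hz', hzc, ?_⟩
  apply ext_stalkIdeal
  intro w
  rw [stalkIdeal_comap]
  by_cases hw : w = z'
  · subst hw
    rw [stalkIdeal_vanishingIdeal hfin hcl hZ (U.ι z') h]
    have h2 := stalkIdeal_vanishingIdeal (Set.finite_singleton z')
      (fun t ht => by rw [Set.mem_singleton_iff.1 ht]; exact hzc) hzc z' rfl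
    refine Eq.trans ?_ h2.symm
    have hbij : Function.Bijective (U.ι.stalkMap z').hom := (asIso (U.ι.stalkMap z')).commRingCatIsoToRingEquiv.bijective
    exact IsLocalRing.map_ringEquiv_maximalIdeal (RingEquiv.ofBijective _ hbij)
  · rw [stalkIdeal_vanishingIdeal_notMem hZ, stalkIdeal_vanishingIdeal_notMem hzc _ hw, Ideal.map_top]
    intro hwZ
    apply hw
    apply U.ι.isOpenEmbedding.injective
    by_contra hne
    exact w.2 ⟨hwZ, hne⟩

include hϖ in
theorem step_multi [IsLocallyNoetherian X] {Z : Set X} (hfin : Z.Finite) (hcl : ∀ z ∈ Z, IsClosed ({z} : Set X)) (hZ : IsClosed Z)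
    (hp : Curv2.IsNodalFamily p) {X' : Scheme.{u}} [IsLocallyNoetherian X'] (b : X' ⟶ X)
    (hb : IsBlowUp b (Scheme.IdealSheafData.vanishingIdeal ⟨Z, hZ⟩)) (x' : X') (x : X) (hx' : b x' = x) (hxZ : x ∈ Z)
    (hpx : p x = (closedPoint R : PrimeSpectrum R)) (hreg : ¬ IsRegularLocalRing (X.presheaf.stalk x))
    (hreg' : ¬ IsRegularLocalRing (X'.presheaf.stalk x')) :
    (maximalIdeal (X.presheaf.stalk x)).map (stk b x' x hx') = Ideal.span {DualGr.stalkHom (b ≫ p) x' ϖ} ∧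
    (∀ n, IsFin ϖ p x n → 4 ≤ n ∧ IsFin ϖ (b ≫ p) x' (n - 2)) ∧ (IsInf ϖ p x → IsInf ϖ (b ≫ p) x') := by
  obtain ⟨U, hzU, z', hz', hzc, hid⟩ := comap_vanishingIdeal_single hfin hcl hZ x hxZ
  have hbU := Groth.Agent.Divis.BlowUpFormal.isBlowUp_morphismRestrict hb U
  rw [hid] at hbU
  have hN : IsLocallyNoetherian U.toScheme := isLocallyNoetherian_of_isOpenImmersion U.ι
  have hN' : IsLocallyNoetherian (b ⁻¹ᵁ U).toScheme := isLocallyNoetherian_of_isOpenImmersion (b ⁻¹ᵁ U).ι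
  let x'' : (b ⁻¹ᵁ U).toScheme := ⟨x', by
    change b x' ∈ U
    rw [hx']; exact hzU⟩
  have hx'' : (b ⁻¹ᵁ U).ι x'' = x' := rfl
  have hbx : (b ∣_ U) x'' = z' := by
    apply U.ι.isOpenEmbedding.injective
    rw [← Scheme.Hom.comp_apply, morphismRestrict_ι, Scheme.Hom.comp_apply, hx'', hx', hz']
  have hr1 : ¬ IsRegularLocalRing (U.toScheme.presheaf.stalk z') := by
    intro hr
    apply hreg
    rw [← hz']
    exact IsRegularLocalRing.of_ringEquiv (asIso (U.ι.stalkMap z')).commRingCatIsoToRingEquiv.symm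
  have hr2 : ¬ IsRegularLocalRing ((b ⁻¹ᵁ U).toScheme.presheaf.stalk x'') := fun hr => hreg'
    (IsRegularLocalRing.of_ringEquiv (asIso ((b ⁻¹ᵁ U).ι.stalkMap x'')).commRingCatIsoToRingEquiv.symm)
  obtain ⟨h1, h2, h3⟩ := step_single hϖ (p := U.ι ≫ p) hzc (by rw [Scheme.Hom.comp_apply, hz']; exact hpx)
    (Groth.Agent.S1592.result p hp U.ι) hr1 (b ∣_ U) hbU x'' hbx hr2
  have hcomp : (b ∣_ U) ≫ U.ι ≫ p = (b ⁻¹ᵁ U).ι ≫ b ≫ p := by
    rw [← Category.assoc, morphismRestrict_ι, Category.assoc]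
  refine ⟨?_, ?_, ?_⟩
  · apply eq_of_map_stk_eq (b ⁻¹ᵁ U).ι x'' x' hx''
    have hιb : ((b ⁻¹ᵁ U).ι ≫ b) x'' = x := by rw [Scheme.Hom.comp_apply, hx'', hx']
    have hbι : ((b ∣_ U) ≫ U.ι) x'' = x := by rw [Scheme.Hom.comp_apply, hbx, hz']
    have key : ∀ (k k' : (b ⁻¹ᵁ U).toScheme ⟶ X) (hkk : k = k') (h1 : k x'' = x) (h2 : k' x'' = x), stk k x'' x h1 = stk k' x'' x h2 := by
      rintro k k' rfl _ _; rfl
    rw [Ideal.map_map, ← stk_comp (b ⁻¹ᵁ U).ι b x'' x' x hx'' hx' hιb, key _ _ (morphismRestrict_ι b U).symm hιb hbι,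
      stk_comp (b ∣_ U) U.ι x'' z' x hbx hz' hbι, ← Ideal.map_map, map_maximalIdeal_stk U.ι z' x hz', h1, Ideal.map_span,
      Set.image_singleton, stk_stalkHom (b ≫ p) (b ⁻¹ᵁ U).ι, hcomp]
  · intro n hn
    obtain ⟨h4, h5⟩ := h2 n (hn.restrict U.ι z' x hz')
    rw [hcomp] at h5
    exact ⟨h4, h5.push (b ⁻¹ᵁ U).ι x'' x' hx''⟩
  · intro hn
    have h5 := h3 (hn.restrict U.ι z' x hz')
    rw [hcomp] at h5
    exact h5.push (b ⁻¹ᵁ U).ι x'' x' hx''

end Step

end K793.ChainStep
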