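import Groth.Agent.SemiFact.K793.Chart

/-!
The blow-up of a non-regular closed point of a nodal family, seen in an étale chart.
-/

set_option autoImplicit false
universe u

open BlowUp CategoryTheory CategoryTheory.Limits AlgebraicGeometry IsLocalRing

namespace K793.Chart

open Groth.Agent.Models.NodeRing Groth.Agent.Models.NodeBlow Groth.Agent.Models.NodeStep
open Groth.Agent.Divis.BlowChart K793.NodeBlow Groth.Agent.Models

/-- The chart of the blow-up `b : X' ⟶ X` of a closed point `x` induced by a chart of `X` at `x` with `a = t²c`. -/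
structure BChart {R : Type u} [CommRing R] {ϖ : R} {X : Scheme.{u}} {p : X ⟶ Spec (CommRingCat.of R)} {x : X}
    (C : NChart R ϖ p x) (c : C.D) {X' : Scheme.{u}} (b : X' ⟶ X) (x' : X') where
  P : Scheme.{u}
  α : P ⟶ X'
  [etα : Etale α]
  z : P
  hz : α z = x'
  c' : C.D
  ψ : W C.D C.a →+* W C.D c'
  β : P ⟶ Spec (CommRingCat.of (W C.D c'))
  [etβ : Etale β]
  γ : P ⟶ C.U
  hγe : γ ≫ C.e = α ≫ b
  hγg : γ ≫ C.g = β ≫ Spec.map (CommRingCat.ofHom ψ)
  hγz : γ z = C.y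
  hψ : ∀ d, ψ (algebraMap C.D _ d) = algebraMap C.D _ d
  hc : ChartMap C.t c C.a c' ψ

attribute [instance] BChart.etα BChart.etβ

variable {R : Type u} [CommRing R] {ϖ : R} {X : Scheme.{u}} {p : X ⟶ Spec (CommRingCat.of R)} {x : X}

theorem exists_bchart [IsLocallyNoetherian X] (C : NChart R ϖ p x)
    (hreg : ¬ IsRegularLocalRing (X.presheaf.stalk x))
    (htm : algebraMap C.D (W C.D C.a) C.t ∈ (C.g C.y).asIdeal) (c : C.D) (hc : C.a = C.t ^ 2 * c)
    (hx : IsClosed ({x} : Set X)) {X' : Scheme.{u}} (b : X' ⟶ X)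
    (hb : IsBlowUp b (Scheme.IdealSheafData.vanishingIdeal ⟨{x}, hx⟩)) (x' : X') (hx' : b x' = x) :
    Nonempty (BChart C c b x') := by
  obtain ⟨U₀, hy, h1, h2⟩ := C.exists_shrink
  let e₀ : U₀.toScheme ⟶ X := U₀.ι ≫ C.e
  let g₀ : U₀.toScheme ⟶ Spec (CommRingCat.of (W C.D C.a)) := U₀.ι ≫ C.g
  have he₀ : Etale e₀ := inferInstance
  have hg₀ : Etale g₀ := inferInstance
  let y₀ : U₀.toScheme := ⟨C.y, hy⟩
  have hy₀ : U₀.ι y₀ = C.y := rfl
  have hey : e₀ y₀ = x := C.hy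
  obtain ⟨z, hz1, hz2⟩ := Scheme.Pullback.exists_preimage_pullback (f := e₀) (g := b) y₀ x' (hey.trans hx'.symm)
  have hU' := Groth.Agent.S1680.result e₀ _ b hb
  rw [EtRadical.comap_vanishingIdeal e₀] at hU'
  obtain ⟨W', b', hb'⟩ := Groth.Agent.Flat2C.BlowExist.exists_isBlowUp
      (idl (orig C.t C.a))
  have hW' := Groth.Agent.S1680.result g₀ _ b' hb'
  have hta : C.t ∣ C.a := ⟨C.t * c, by rw [hc]; ring⟩
  have hrad : (orig C.t C.a).IsRadical := (orig_isPrime C.irr hta).isRadical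
  rw [idl_eq_vanishingIdeal _ hrad, EtRadical.comap_vanishingIdeal g₀] at hW'
  have hsupp : (⟨{x}, hx⟩ : TopologicalSpace.Closeds X).preimage e₀.continuous =
      ((idl (orig C.t C.a)).support).preimage g₀.continuous := by
    ext u
    simp only [TopologicalSpace.Closeds.coe_preimage, Set.mem_preimage, SetLike.mem_coe]
    rw [C.eq_iff_mem_support _ (C.asIdeal_eq_orig hreg htm)]
    constructor
    · intro hu
      have h3 : C.e (U₀.ι u) = x := hu
      have h4 := h1 _ u.2 h3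
      change C.g (U₀.ι u) = _
      exact congrArg C.g h4
    · intro hu
      have h4 := h2 _ u.2 hu
      change C.e (U₀.ι u) = x
      exact (congrArg C.e h4).trans C.hy
  rw [hsupp] at hU'
  obtain ⟨θ, hθ, -⟩ := Groth.Agent.Flat2C.BlowProper.exists_iso hU' hW'
  let q : pullback e₀ b ⟶ W' := θ.hom ≫ pullback.snd g₀ b'
  have hqe : Etale q := inferInstance
  have hq : q ≫ b' = pullback.fst e₀ b ≫ g₀ := by
    rw [← hθ, Category.assoc, Category.assoc, pullback.condition]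
  obtain ⟨V, c', ψ, ε, hV, hε, hψ, hcm⟩ := NodeBlow.exists_chart C.t C.irr c hc b' hb' (q z)
  refine ⟨{ P := (q ⁻¹ᵁ V).toScheme, α := (q ⁻¹ᵁ V).ι ≫ pullback.snd e₀ b, z := ⟨z, hV⟩, hz := hz2, c' := c',
            ψ := ψ, β := (q ∣_ V) ≫ ε.hom, γ := (q ⁻¹ᵁ V).ι ≫ pullback.fst e₀ b ≫ U₀.ι, hγe := ?_, hγg := ?_,
            hγz := ?_, hψ := hψ, hc := hcm }⟩
  · rw [Category.assoc, Category.assoc, Category.assoc, ← pullback.condition]
  · rw [Category.assoc, Category.assoc, Category.assoc, hε, morphismRestrict_ι_assoc, hq]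
  · have h3 : ((q ⁻¹ᵁ V).ι ≫ pullback.fst e₀ b ≫ U₀.ι) ⟨z, hV⟩ = U₀.ι (pullback.fst e₀ b z) := rfl
    rw [h3, hz1, hy₀]

namespace BChart

variable {C : NChart R ϖ p x} {c : C.D} {X' : Scheme.{u}} {b : X' ⟶ X} {x' : X'} (B : BChart C c b x')

theorem w : B.β ≫ str C.D B.c' ≫ Spec.map (CommRingCat.ofHom (algebraMap R C.D)) = B.α ≫ b ≫ p := by
  have h1 : B.α ≫ b ≫ p = B.γ ≫ C.e ≫ p := by
    rw [← Category.assoc, ← B.hγe, Category.assoc]
  rw [h1, ← C.w, ← Category.assoc B.γ, B.hγg, Category.assoc]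
  congr 1
  rw [← Category.assoc]
  congr 1
  have h2 : B.ψ.comp (algebraMap C.D (W C.D C.a)) = algebraMap C.D (W C.D B.c') := RingHom.ext B.hψ
  change Spec.map (CommRingCat.ofHom (algebraMap C.D (W C.D B.c'))) = _ ≫ Spec.map (CommRingCat.ofHom (algebraMap C.D (W C.D C.a)))
  rw [← Spec.map_comp, ← CommRingCat.ofHom_comp, h2]

/-- the family `X' ⟶ Spec R` is nodal near `x'`, étale locally -/
theorem isNodalFamily : Curv2.IsNodalFamily (B.α ≫ b ≫ p) := by
  rw [← B.w]
  have h1 : Curv2.IsNodalFamily (str C.D B.c') := NodeNodal.isNodalFamily C.D B.c'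
  have h2 : Etale (Spec.map (CommRingCat.ofHom (algebraMap R C.D))) := by
    rw [HasRingHomProperty.Spec_iff (P := @Etale)]
    exact RingHom.etale_algebraMap.2 inferInstance
  exact Groth.Agent.S1592.result _ (Groth.Agent.S1595.result _ _ h1) B.β

end BChart

end K793.Chart
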