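import Groth.Agent.SemiFact.K793.NodeMin
import Groth.Agent.SemiFact.K793.Basic
import Groth.Agent.Divis.MapOpen
import Groth.Agent.Divis.UfdIdeal
import Groth.Agent.Divis.UfdColon
import Groth.Agent.CycA.StalkIdeal
import Groth.Agent.Sga7.H543.SecStalk

/-!
# Extension of effective Cartier divisors from the generic fibre
-/

set_option autoImplicit false
universe u
open CategoryTheory CategoryTheory.Limits AlgebraicGeometry IsLocalRing

namespace K793.Extend

open Groth.Agent.Divis.CartierBasic Groth.Agent.Divis.CartierStalk Groth.Agent.CycB.LocQuot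
  Groth.Agent.Divis.StalkPrime Groth.Agent.Divis.StalkAssoc Groth.Agent.Divis.MapOpen
open K793.NodeAlg K793.NodeDesc K793.NodeMin

section Local

variable {X Z : Scheme.{u}} [IsLocallyNoetherian X] (i : Z ⟶ X) [IsOpenImmersion i] [QuasiCompact i]

theorem sat_point (D : Z.IdealSheafData) (y : X) (hy : y ∉ Set.range i) : Sat (stalkIdeal (D.map i) y) := by
  intro c hc
  exact mem_stalkIdeal_ker_of_forall (D.subschemeι ≫ i) i.opensRange (fun z => by
      rw [Scheme.Hom.comp_apply]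
      exact ⟨_, rfl⟩) y hy _ hc

theorem exists_generator_of_mem (D : Z.IdealSheafData) (hD : BlowUp.IsEffCartierIdeal D) (z : Z) [IsLocallyNoetherian Z] :
    ∃ g ∈ nonZeroDivisors (X.presheaf.stalk (i z)), stalkIdeal (D.map i) (i z) = Ideal.span {g} :=
  exists_generator_of_comap (D.map i) i z (by
    rw [comap_map D i]; exact exists_stalkIdeal_eq_span hD _)

/-- the scheme-theoretic closure is principal at factorial points -/
theorem exists_generator_of_ufd [IsLocallyNoetherian Z] (D : Z.IdealSheafData) (hD : BlowUp.IsEffCartierIdeal D) (x : X)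
    (hxU : x ∉ Set.range i) [IsDomain (X.presheaf.stalk x)] [UniqueFactorizationMonoid (X.presheaf.stalk x)] :
    ∃ g ∈ nonZeroDivisors (X.presheaf.stalk x), stalkIdeal (D.map i) x = Ideal.span {g} := by
  have hin : ∀ x ∈ Set.range i, ∃ g ∈ nonZeroDivisors (X.presheaf.stalk x), stalkIdeal (D.map i) x = Ideal.span {g} := by
    rintro _ ⟨z, rfl⟩
    exact exists_generator_of_mem i D hD z
  have hass : ∀ (p : Ideal (X.presheaf.stalk x)) (hp : p.IsPrime) (a : X.presheaf.stalk x),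
      (∀ r, r ∈ p ↔ r * a ∈ stalkIdeal (D.map i) x) → ptOf (⟨p, hp⟩ : PrimeSpectrum _) ∈ Set.range i := by
    intro p hp a ha
    by_contra hy
    have h1 := mem_maximalIdeal_iff_of_colon (D.map i) ⟨p, hp⟩ a ha
    have h2 := sat_point i D (ptOf (⟨p, hp⟩ : PrimeSpectrum _)) hy _ (fun s hs => (h1 s).1 hs)
    have h3 := (h1 1).2 (by rw [one_mul]; exact h2)
    exact (Ideal.IsPrime.ne_top (I := IsLocalRing.maximalIdeal _) inferInstance) ((Ideal.eq_top_iff_one _).2 h3)
  have hne : stalkIdeal (D.map i) x ≠ ⊥ := by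
    intro hbot
    have h1 := hass ⊥ Ideal.isPrime_bot 1 (fun r => by rw [mul_one, hbot])
    obtain ⟨g, hg, h2⟩ := hin _ h1
    rw [← stalkIdeal_map_stalkSpecializes _ (ptOf_specializes _), hbot, Ideal.map_bot] at h2
    exact nonZeroDivisors.ne_zero hg (Ideal.span_singleton_eq_bot.1 h2.symm)
  have hprinc : (stalkIdeal (D.map i) x).IsPrincipal := by
    refine Groth.Agent.Divis.UfdIdeal.isPrincipal_of_assoc_principal _ hne ?_
    intro p hp a ha
    have h1 := hass p hp a ha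
    obtain ⟨g, hg, h2⟩ := hin _ h1
    have h3 := mem_maximalIdeal_iff_of_colon (D.map i) ⟨p, hp⟩ a ha
    rw [h2] at h3
    let := (X.presheaf.stalkSpecializes (ptOf_specializes (⟨p, hp⟩ : PrimeSpectrum _))).hom.toAlgebra
    have hloc := isLocalization_stalkSpecializes (ptOf_specializes (⟨p, hp⟩ : PrimeSpectrum (X.presheaf.stalk x)))
    have h4 := Groth.Agent.Divis.UfdColon.isPrincipal_of_atPrime_colon
      (RingHom.ker (Cyc.specMap x (ptOf ⟨p, hp⟩) (ptOf_specializes ⟨p, hp⟩)))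
      (X.presheaf.stalk (ptOf (⟨p, hp⟩ : PrimeSpectrum _))) g _ hg h3
    rw [← primeOf_asIdeal, primeOf_ptOf] at h4
    exact h4
  obtain ⟨g, hg⟩ := hprinc
  refine ⟨g, mem_nonZeroDivisors_of_ne_zero ?_, hg⟩
  rintro rfl
  exact hne (by rw [hg]; simp)

omit [IsLocallyNoetherian X] in
/-- if the localization of the ideal `I` at the prime of `ξ` is generated by `g`, there is `g' ∈ I` generating it at `ξ` -/
theorem exists_gen_of_stalk (J : X.IdealSheafData) {x ξ : X} (h : ξ ⤳ x) {g : X.presheaf.stalk ξ}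
    (hg : stalkIdeal J ξ = Ideal.span {g}) :
    ∃ g' ∈ stalkIdeal J x, ∀ b ∈ stalkIdeal J x, ∃ s, s ∉ (primeOf h).asIdeal ∧ s * b ∈ Ideal.span {g'} := by
  let := (X.presheaf.stalkSpecializes h).hom.toAlgebra
  have hloc := isLocalization_stalkSpecializes h
  rw [primeOf_asIdeal]
  set P := RingHom.ker (Cyc.specMap x ξ h)
  have h1 : (stalkIdeal J x).map (algebraMap (X.presheaf.stalk x) (X.presheaf.stalk ξ)) = Ideal.span {g} :=
    (stalkIdeal_map_stalkSpecializes J h).trans hg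
  have h2 : g ∈ (stalkIdeal J x).map (algebraMap (X.presheaf.stalk x) (X.presheaf.stalk ξ)) :=
    h1 ▸ Ideal.mem_span_singleton_self g
  obtain ⟨⟨⟨g', hg'⟩, s₀⟩, hgs⟩ := (IsLocalization.mem_map_algebraMap_iff P.primeCompl (X.presheaf.stalk ξ)).1 h2
  refine ⟨g', hg', fun b hb => ?_⟩
  have h3 : algebraMap (X.presheaf.stalk x) (X.presheaf.stalk ξ) b ∈ Ideal.span {g} := h1 ▸ Ideal.mem_map_of_mem _ hb
  have h4 : algebraMap (X.presheaf.stalk x) (X.presheaf.stalk ξ) b ∈
      (Ideal.span {g'}).map (algebraMap (X.presheaf.stalk x) (X.presheaf.stalk ξ)) := by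
    rw [Ideal.map_span, Set.image_singleton]
    obtain ⟨c, hc⟩ := Ideal.mem_span_singleton'.1 h3
    obtain ⟨w, hw⟩ := (IsLocalization.map_units (X.presheaf.stalk ξ) s₀).exists_right_inv
    refine Ideal.mem_span_singleton'.2 ⟨c * w, ?_⟩
    have hgs' : g * algebraMap (X.presheaf.stalk x) (X.presheaf.stalk ξ) s₀ = algebraMap (X.presheaf.stalk x) (X.presheaf.stalk ξ) g' := hgs
    rw [← hgs', ← hc]
    linear_combination c * g * hw
  obtain ⟨s, hs, h5⟩ := (IsLocalization.algebraMap_mem_map_algebraMap_iff P.primeCompl (X.presheaf.stalk ξ) _ _).1 h4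
  exact ⟨s, hs, h5⟩

theorem map_mem_nonZeroDivisors_of_bijective {A B : Type u} [CommRing A] [CommRing B] (φ : A →+* B) (h : Function.Bijective φ)
    {g : A} (hg : g ∈ nonZeroDivisors A) : φ g ∈ nonZeroDivisors B := by
  rw [mem_nonZeroDivisors_iff_right]
  intro z hz
  obtain ⟨w, rfl⟩ := h.2 z
  rw [← map_mul, map_eq_zero_iff φ h.1] at hz
  rw [(mul_right_mem_nonZeroDivisors_eq_zero_iff hg).1 hz, map_zero]

theorem exists_mem_nonZeroDivisors {A : Type u} [CommRing A] [IsNoetherianRing A] (I : Ideal A)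
    (h : ∀ p ∈ associatedPrimes A A, ¬ I ≤ p) : ∃ d ∈ I, d ∈ nonZeroDivisors A := by
  by_contra hcon
  push Not at hcon
  have h1 : (I : Set A) ⊆ ⋃ p ∈ associatedPrimes A A, (p : Set A) := by
    intro t ht
    rw [biUnion_associatedPrimes_eq_compl_nonZeroDivisors]
    exact hcon t ht
  have hfin := associatedPrimes.finite A A
  obtain ⟨p, hp, hle⟩ := (Ideal.subset_union_prime_finite (f := fun p : Ideal A => p) hfin ⊥ ⊥
    (fun p hp _ _ => hp.1)).1 h1
  exact h p hp hle

end Local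

section Specialize

variable {R : Type u} [CommRing R] {X : Scheme.{u}} (f : X ⟶ Spec (CommRingCat.of R))

theorem stalkSpecializes_stalkHom {x ξ : X} (h : ξ ⤳ x) (r : R) :
    (X.presheaf.stalkSpecializes h).hom (DualGr.stalkHom f x r) = DualGr.stalkHom f ξ r := by
  rw [Basic.stalkHom_eq_germ, Basic.stalkHom_eq_germ, ← RingHom.comp_apply, ← CommRingCat.hom_comp,
    TopCat.Presheaf.germ_stalkSpecializes]

theorem ordI_of_stalk (J : X.IdealSheafData) {x ξ : X} (h : ξ ⤳ x) {ϖ : R} {n : ℕ}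
    (hg : stalkIdeal J ξ = Ideal.span {DualGr.stalkHom f ξ ϖ ^ n}) :
    OrdI (primeOf h).asIdeal (DualGr.stalkHom f x ϖ) (stalkIdeal J x) n := by
  let := (X.presheaf.stalkSpecializes h).hom.toAlgebra
  have hloc := isLocalization_stalkSpecializes h
  rw [primeOf_asIdeal]
  set P := RingHom.ker (Cyc.specMap x ξ h)
  have hπ : algebraMap (X.presheaf.stalk x) (X.presheaf.stalk ξ) (DualGr.stalkHom f x ϖ) = DualGr.stalkHom f ξ ϖ :=
    stalkSpecializes_stalkHom f h ϖ
  have h1 : (stalkIdeal J x).map (algebraMap (X.presheaf.stalk x) (X.presheaf.stalk ξ)) =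
      Ideal.span {DualGr.stalkHom f ξ ϖ ^ n} :=
    (stalkIdeal_map_stalkSpecializes J h).trans hg
  constructor
  · intro b hb
    have h2 : algebraMap (X.presheaf.stalk x) (X.presheaf.stalk ξ) b ∈
        (Ideal.span {DualGr.stalkHom f x ϖ ^ n}).map (algebraMap (X.presheaf.stalk x) (X.presheaf.stalk ξ)) := by
      rw [Ideal.map_span, Set.image_singleton, map_pow, hπ, ← h1]
      exact Ideal.mem_map_of_mem _ hb
    obtain ⟨s, hs, h5⟩ := (IsLocalization.algebraMap_mem_map_algebraMap_iff P.primeCompl (X.presheaf.stalk ξ) _ _).1 h2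
    exact ⟨s, hs, h5⟩
  · have h2 : algebraMap (X.presheaf.stalk x) (X.presheaf.stalk ξ) (DualGr.stalkHom f x ϖ ^ n) ∈
        (stalkIdeal J x).map (algebraMap (X.presheaf.stalk x) (X.presheaf.stalk ξ)) := by
      rw [h1, map_pow, hπ]
      exact Ideal.mem_span_singleton_self _
    obtain ⟨s, hs, h5⟩ := (IsLocalization.algebraMap_mem_map_algebraMap_iff P.primeCompl (X.presheaf.stalk ξ) _ _).1 h2
    exact ⟨s, hs, h5⟩

end Specialize

section Main

variable {R : Type u} [CommRing R] [IsDomain R] [IsDiscreteValuationRing R] {X XK : Scheme.{u}}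
  (f : X ⟶ Spec (CommRingCat.of R)) [Flat f] [IsLocallyNoetherian X] (j : XK ⟶ X) [IsOpenImmersion j] [QuasiCompact j]

omit [IsLocallyNoetherian X] [IsOpenImmersion j] [QuasiCompact j] [Flat f] [IsDomain R] [IsDiscreteValuationRing R] in
theorem stalkIdeal_eq_of_comap_eq {U X : Scheme.{u}} (i : U ⟶ X) [IsOpenImmersion i] {I J : X.IdealSheafData}
    (h : I.comap i = J.comap i) (z : U) : stalkIdeal I (i z) = stalkIdeal J (i z) := by
  have h1 := congrArg (fun K => stalkIdeal K z) h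
  simp only [stalkIdeal_comap] at h1
  have hb : Function.Bijective (i.stalkMap z).hom := (asIso (i.stalkMap z)).commRingCatIsoToRingEquiv.bijective
  have h3 := congrArg (Ideal.comap (i.stalkMap z).hom) h1
  rwa [Ideal.comap_map_of_bijective _ hb, Ideal.comap_map_of_bijective _ hb] at h3

/-- **Extension of effective Cartier divisors.** -/
theorem exists_extension (hj : ∀ x : X, x ∈ Set.range j ↔ f x ≠ (closedPoint R : PrimeSpectrum R))
    {ϖ : R} (hϖ : Irreducible ϖ) {V E : Type} [Fintype V] (η : V → X)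
    (hη : ∀ v, f (η v) = (closedPoint R : PrimeSpectrum R)) (hinj : ∀ v w, η v ⤳ η w → v = w)
    (hmax : ∀ v, maximalIdeal (X.presheaf.stalk (η v)) = Ideal.span {DualGr.stalkHom f (η v) ϖ})
    (hufdη : ∀ v, ∃ _ : IsDomain (X.presheaf.stalk (η v)), UniqueFactorizationMonoid (X.presheaf.stalk (η v)))
    (pt : E → X)
    (hufd : ∀ x, f x = (closedPoint R : PrimeSpectrum R) → (∀ e, pt e ≠ x) → (∀ v, η v ≠ x) →
      ∃ _ : IsDomain (X.presheaf.stalk x), UniqueFactorizationMonoid (X.presheaf.stalk x))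
    (ends : E → V × V) (h1 : ∀ e, η (ends e).1 ⤳ pt e) (h2 : ∀ e, η (ends e).2 ⤳ pt e) (l : E → ℕ)
    (hnode : ∀ e, NodeLike (DualGr.stalkHom f (pt e) ϖ) (primeOf (h1 e)).asIdeal (primeOf (h2 e)).asIdeal (l e))
    (hgraph : ∀ δ : E → ℤ, ∃ φ : V → ℤ, ∀ e, (l e : ℤ) ∣ δ e - (φ (ends e).1 - φ (ends e).2))
    (D : XK.IdealSheafData) (hD : BlowUp.IsEffCartierIdeal D) :
    ∃ J : X.IdealSheafData, BlowUp.IsEffCartierIdeal J ∧ J.comap j = D := by
  have hNK : IsLocallyNoetherian XK := isLocallyNoetherian_of_isOpenImmersion j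
  have hπ0 : ∀ x, DualGr.stalkHom f x ϖ ∈ nonZeroDivisors (X.presheaf.stalk x) := fun x =>
    Basic.stalkHom_mem_nonZeroDivisors f x hϖ.ne_zero
  have hπu : ∀ x, IsUnit (DualGr.stalkHom f x ϖ) ↔ x ∈ Set.range j := fun x =>
    (Basic.isUnit_stalkHom_iff_ne f x hϖ).trans (hj x).symm
  let J₀ : X.IdealSheafData := D.map j
  have hJ₀K : ∀ y ∈ Set.range j, ∃ g ∈ nonZeroDivisors (X.presheaf.stalk y), stalkIdeal J₀ y = Ideal.span {g} := by
    rintro _ ⟨z, rfl⟩
    exact exists_generator_of_mem j D hD z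
  have hηj : ∀ v, η v ∉ Set.range j := fun v hv => (hj _).1 hv (hη v)
  -- the closure does not contain the generic points of the special fibre
  have hA : ∀ v, stalkIdeal J₀ (η v) = ⊤ := by
    intro v
    obtain ⟨hdom, hU⟩ := hufdη v
    obtain ⟨g, hg, hgJ⟩ := exists_generator_of_ufd j D hD (η v) (hηj v)
    change stalkIdeal J₀ (η v) = _ at hgJ
    by_contra hne
    have hgm : g ∈ maximalIdeal (X.presheaf.stalk (η v)) := by
      intro hu
      exact hne (by rw [hgJ]; exact Ideal.span_singleton_eq_top.2 hu)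
    rw [hmax v] at hgm
    obtain ⟨c, hc⟩ := Ideal.mem_span_singleton'.1 hgm
    have h3 : c ∈ stalkIdeal J₀ (η v) := by
      refine sat_point j D (η v) (hηj v) c fun z hz => ?_
      rw [hmax v] at hz
      obtain ⟨w, rfl⟩ := Ideal.mem_span_singleton'.1 hz
      change _ ∈ stalkIdeal J₀ (η v)
      rw [hgJ]
      exact Ideal.mem_span_singleton'.2 ⟨w, by rw [← hc]; ring⟩
    rw [hgJ] at h3
    obtain ⟨d, hd⟩ := Ideal.mem_span_singleton'.1 h3
    have h4 : (1 - d * DualGr.stalkHom f (η v) ϖ) * g = 0 := by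
      linear_combination (-DualGr.stalkHom f (η v) ϖ) * hd - hc
    have h5 := (mul_right_mem_nonZeroDivisors_eq_zero_iff hg).1 h4
    exact hηj v ((hπu _).1 (IsUnit.of_mul_eq_one d (by linear_combination -h5)))
  -- stalks of the vertical ideals
  have hP1 : ∀ v, ∀ y ∈ Set.range j, stalkIdeal (IntMult.ptIdeal (η v)) y = ⊤ := by
    intro v y hy
    exact Groth.Agent.CycA.StalkIdeal.stalkIdeal_ptIdeal_eq_top fun hs =>
      hηj v (hs.mem_open j.isOpenEmbedding.isOpen_range hy)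
  have hP2 : ∀ v w, v ≠ w → stalkIdeal (IntMult.ptIdeal (η v)) (η w) = ⊤ := by
    intro v w hvw
    exact Groth.Agent.CycA.StalkIdeal.stalkIdeal_ptIdeal_eq_top fun hs => hvw (hinj v w hs)
  have hP3 : ∀ v, stalkIdeal (IntMult.ptIdeal (η v)) (η v) = Ideal.span {DualGr.stalkHom f (η v) ϖ} := by
    intro v
    rw [← hmax v, ← ker_refl (η v)]
    exact Groth.Agent.CycA.StalkIdeal.stalkIdeal_ptIdeal (specializes_refl (η v))
  have hP4 : ∀ v x, DualGr.stalkHom f x ϖ ∈ stalkIdeal (IntMult.ptIdeal (η v)) x := by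
    intro v x
    by_cases hx : η v ⤳ x
    · have h3 : stalkIdeal (IntMult.ptIdeal (η v)) x = RingHom.ker (Cyc.specMap x (η v) hx) :=
        Groth.Agent.CycA.StalkIdeal.stalkIdeal_ptIdeal hx
      rw [h3, mem_ker_specMap_iff, stalkSpecializes_stalkHom, hπu]
      exact hηj v
    · have h3 : stalkIdeal (IntMult.ptIdeal (η v)) x = ⊤ :=
        Groth.Agent.CycA.StalkIdeal.stalkIdeal_ptIdeal_eq_top hx
      rw [h3]
      trivial
  -- the local conditions at the points `pt e`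
  have hB : ∀ e, ∃ δ : ℤ, ∀ (jj : Ideal (X.presheaf.stalk (pt e))) (o₁ o₂ : ℕ),
      PEq (DualGr.stalkHom f (pt e) ϖ) jj (stalkIdeal J₀ (pt e)) → Sat jj →
      OrdI (primeOf (h1 e)).asIdeal (DualGr.stalkHom f (pt e) ϖ) jj o₁ →
      OrdI (primeOf (h2 e)).asIdeal (DualGr.stalkHom f (pt e) ϖ) jj o₂ →
      (l e : ℤ) ∣ δ - ((o₁ : ℤ) - o₂) → ∃ g ∈ nonZeroDivisors _, jj = Ideal.span {g} := by
    intro e
    refine hnode e (stalkIdeal J₀ (pt e)) ?_ ?_
    · refine exists_mem_nonZeroDivisors _ fun p hp hle => ?_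
      have hpp : p.IsPrime := hp.1
      obtain ⟨a, ha⟩ := (isAssociatedPrime_iff.1 hp).2
      have hπp : DualGr.stalkHom f (pt e) ϖ ∉ p := by
        intro h3
        rw [ha, Submodule.mem_colon_singleton, Submodule.mem_bot, smul_eq_mul, mul_comm] at h3
        have h4 := (mul_right_mem_nonZeroDivisors_eq_zero_iff (hπ0 _)).1 h3
        rw [h4] at ha
        apply hpp.ne_top
        rw [Ideal.eq_top_iff_one, ha, Submodule.mem_colon_singleton]
        simp
      have hy : ptOf (⟨p, hpp⟩ : PrimeSpectrum (X.presheaf.stalk (pt e))) ∈ Set.range j := by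
        rw [← hπu, ← stalkSpecializes_stalkHom f (ptOf_specializes _), ← not_not (a := IsUnit _), ← mem_ker_specMap_iff,
          ← primeOf_asIdeal, primeOf_ptOf]
        exact hπp
      obtain ⟨g, hg, hgJ⟩ := hJ₀K _ hy
      have h5 : ∀ r, r ∈ p ↔ r * a ∈ stalkIdeal (⊥ : X.IdealSheafData) (pt e) := by
        intro r
        rw [stalkIdeal_bot, Ideal.mem_bot, ha, Submodule.mem_colon_singleton, Submodule.mem_bot, smul_eq_mul]
      have h6 := mem_maximalIdeal_iff_of_colon (⊥ : X.IdealSheafData) ⟨p, hpp⟩ a h5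
      rw [stalkIdeal_bot] at h6
      have h7 : g ∈ maximalIdeal _ := by
        have h8 : stalkIdeal J₀ (ptOf (⟨p, hpp⟩ : PrimeSpectrum (X.presheaf.stalk (pt e)))) ≤ maximalIdeal _ := by
          rw [← mem_support_iff_stalkIdeal_le]
          exact (fromSpecStalk_mem_support_iff J₀ (pt e) ⟨p, hpp⟩).2 hle
        exact h8 (hgJ ▸ Ideal.mem_span_singleton_self g)
      have h9 := (h6 g).1 h7
      rw [Ideal.mem_bot, mul_comm] at h9
      have h10 := (mul_right_mem_nonZeroDivisors_eq_zero_iff hg).1 h9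
      have h11 := (h6 1).2 (by rw [h10, mul_zero]; exact Ideal.zero_mem _)
      exact (Ideal.IsPrime.ne_top (I := maximalIdeal _) inferInstance) ((Ideal.eq_top_iff_one _).2 h11)
    · intro q hq hπq
      have hy : ptOf (⟨q, hq⟩ : PrimeSpectrum (X.presheaf.stalk (pt e))) ∈ Set.range j := by
        rw [← hπu, ← stalkSpecializes_stalkHom f (ptOf_specializes _), ← not_not (a := IsUnit _), ← mem_ker_specMap_iff,
          ← primeOf_asIdeal, primeOf_ptOf]
        exact hπq
      obtain ⟨g, hg, hgJ⟩ := hJ₀K _ hy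
      obtain ⟨g', hg', h3⟩ := exists_gen_of_stalk J₀ (ptOf_specializes _) hgJ
      rw [primeOf_ptOf] at h3
      exact ⟨g', hg', h3⟩
  choose δ hδ using hB
  obtain ⟨φ₀, hφ₀⟩ := hgraph δ
  -- shift to nonnegative integers
  obtain ⟨φ, hφ⟩ : ∃ φ : V → ℕ, ∀ e, (l e : ℤ) ∣ δ e - ((φ (ends e).1 : ℤ) - φ (ends e).2) := by
    let N : ℤ := ∑ v, |φ₀ v|
    have hN : ∀ v, 0 ≤ φ₀ v + N := by
      intro v
      have h3 : |φ₀ v| ≤ N := Finset.single_le_sum (f := fun v => |φ₀ v|) (fun _ _ => abs_nonneg _) (Finset.mem_univ v)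
      have h4 := neg_abs_le (φ₀ v)
      linarith
    refine ⟨fun v => (φ₀ v + N).toNat, fun e => ?_⟩
    rw [Int.toNat_of_nonneg (hN _), Int.toNat_of_nonneg (hN _)]
    convert hφ₀ e using 1
    ring
  let J' : X.IdealSheafData := J₀ * ∏ v, IntMult.ptIdeal (η v) ^ φ v
  have hJ' : ∀ x, stalkIdeal J' x = stalkIdeal J₀ x * ∏ v, stalkIdeal (IntMult.ptIdeal (η v)) x ^ φ v := by
    intro x
    rw [stalkIdeal_mul, Groth.Agent.Sga7.H543.SecStalk.stalkIdeal_prod]
    simp only [stalkIdeal_pow]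
  have hJ'K : ∀ y ∈ Set.range j, stalkIdeal J' y = stalkIdeal J₀ y := by
    intro y hy
    have h3 : ∏ v, stalkIdeal (IntMult.ptIdeal (η v)) y ^ φ v = 1 :=
      Finset.prod_eq_one fun v _ => by rw [hP1 v y hy, Ideal.top_pow, Ideal.one_eq_top]
    rw [hJ', h3, mul_one]
  have hJ'η : ∀ w, stalkIdeal J' (η w) = Ideal.span {DualGr.stalkHom f (η w) ϖ ^ φ w} := by
    intro w
    rw [hJ', hA, Ideal.top_mul]
    have : ∀ v ∈ Finset.univ, v ≠ w → stalkIdeal (IntMult.ptIdeal (η v)) (η w) ^ φ v = 1 := by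
      intro v _ hvw
      rw [hP2 v w hvw, Ideal.top_pow, Ideal.one_eq_top]
    rw [Finset.prod_eq_single w this (fun h => (h (Finset.mem_univ _)).elim), hP3, Ideal.span_singleton_pow]
  have hle' : ∀ x, Ideal.span {DualGr.stalkHom f x ϖ ^ (∑ v, φ v)} * stalkIdeal J₀ x ≤ stalkIdeal J' x := by
    intro x
    rw [hJ', mul_comm, ← Ideal.span_singleton_pow, ← Finset.prod_pow_eq_pow_sum]
    refine Ideal.mul_mono le_rfl (Finset.prod_le_prod' fun v _ => ?_)
    refine Ideal.pow_right_mono ?_ _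
    rw [Ideal.span_singleton_le_iff_mem]
    exact hP4 v x
  -- the open set where `J'` is invertible
  let U : X.Opens := ⟨{x | ∃ g ∈ nonZeroDivisors (X.presheaf.stalk x), stalkIdeal J' x = Ideal.span {g}}, by
    rw [isOpen_iff_forall_mem_open]
    rintro x ⟨g, hg, hgJ⟩
    obtain ⟨W, hxW, t, ht, hW⟩ := exists_generator_of_stalkIdeal J' x g hg hgJ
    refine ⟨W.1, ?_, W.1.2, hxW⟩
    intro y hy
    refine ⟨X.presheaf.germ W.1 y hy t, ?_, by rw [stalkIdeal_eq J' W hy, hW, Ideal.map_span, Set.image_singleton]⟩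
    let := X.presheaf.algebra_section_stalk (⟨y, hy⟩ : W.1)
    have := W.2.isLocalization_stalk ⟨y, hy⟩
    exact IsLocalization.map_nonZeroDivisors_le (W.2.primeIdealOf ⟨y, hy⟩).asIdeal.primeCompl
      (X.presheaf.stalk y) ⟨t, ht, rfl⟩⟩
  have hjU : ∀ y ∈ Set.range j, y ∈ U := by
    intro y hy
    obtain ⟨g, hg, hgJ⟩ := hJ₀K y hy
    exact ⟨g, hg, (hJ'K y hy).trans hgJ⟩
  have hηU : ∀ v, η v ∈ U := fun v => ⟨_, pow_mem (hπ0 _) _, hJ'η v⟩
  let D' := J'.comap U.ι
  have hD' : BlowUp.IsEffCartierIdeal D' := by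
    rw [isEffCartierIdeal_iff_stalkIdeal]
    intro z
    obtain ⟨g, hg, hgJ⟩ := z.2
    have hb : Function.Bijective (U.ι.stalkMap z).hom := (asIso (U.ι.stalkMap z)).commRingCatIsoToRingEquiv.bijective
    refine ⟨(U.ι.stalkMap z).hom g, map_mem_nonZeroDivisors_of_bijective _ hb hg, ?_⟩
    rw [stalkIdeal_comap]
    change (stalkIdeal J' z.1).map _ = _
    rw [hgJ, Ideal.map_span, Set.image_singleton]
    rfl
  let J : X.IdealSheafData := D'.map U.ι
  have hJU : ∀ x ∈ U, stalkIdeal J x = stalkIdeal J' x := by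
    intro x hx
    exact stalkIdeal_eq_of_comap_eq U.ι (comap_map D' U.ι) ⟨x, hx⟩
  have hJ'J : J' ≤ J := Scheme.IdealSheafData.le_map_comap _ _
  have hJK : J.comap j = D := by
    apply ext_stalkIdeal
    intro z
    rw [stalkIdeal_comap, hJU _ (hjU _ ⟨z, rfl⟩), hJ'K _ ⟨z, rfl⟩, ← stalkIdeal_comap, comap_map]
  have hJJ₀ : J ≤ J₀ := Scheme.IdealSheafData.le_map_iff_comap_le.2 hJK.le
  refine ⟨J, ?_, hJK⟩
  rw [isEffCartierIdeal_iff_stalkIdeal]
  intro x
  by_cases hxU : x ∈ U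
  · rw [hJU x hxU]
    exact hxU
  have hxr : x ∉ Set.range U.ι := by
    rw [Scheme.Opens.range_ι]
    exact hxU
  have hxc : f x = (closedPoint R : PrimeSpectrum R) := by
    by_contra h
    exact hxU (hjU x ((hj x).2 h))
  by_cases hxe : ∃ e, pt e = x
  · obtain ⟨e, rfl⟩ := hxe
    refine hδ e (stalkIdeal J (pt e)) (φ (ends e).1) (φ (ends e).2) ⟨fun b hb => ⟨0, ?_⟩, fun b hb => ⟨∑ v, φ v, ?_⟩⟩
      (sat_point U.ι D' (pt e) hxr) (ordI_of_stalk f J (h1 e) ((hJU _ (hηU _)).trans (hJ'η _)))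
      (ordI_of_stalk f J (h2 e) ((hJU _ (hηU _)).trans (hJ'η _))) (hφ e)
    · rw [pow_zero, one_mul]
      exact stalkIdeal_mono hJJ₀ _ hb
    · exact stalkIdeal_mono hJ'J _ (hle' _ (Ideal.mul_mem_mul (Ideal.mem_span_singleton_self _) hb))
  · push Not at hxe
    obtain ⟨hdom, hU⟩ := hufd x hxc hxe (fun v hv => hxU (hv ▸ hηU v))
    exact exists_generator_of_ufd U.ι D' hD' x hxr

end Main

end K793.Extend
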