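import Groth.Prelude.Def_W4c1nerontoraddGraph
import Mathlib.RingTheory.SimpleModule.Basic
import Mathlib.RingTheory.Finiteness.Basic
import Mathlib.LinearAlgebra.FiniteDimensional.Lemmas
import Mathlib.LinearAlgebra.Dimension.Constructions
import Mathlib.RingTheory.PrincipalIdealDomain
import Mathlib.Data.ZMod.Basic
import Mathlib.Tactic

/-!
# Labelled multigraphs: circuit-coprimality and solvability of congruences on the edges
-/

set_option autoImplicit false
set_option linter.unusedSectionVars false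
universe u

namespace K793.Graph

open LabGraph

variable {V E : Type u} [Fintype V] [Fintype E] [DecidableEq V] [DecidableEq E] (ends : E → V × V)

/-- the number of ends of `e` at `v` -/
def nb (e : E) (v : V) : ℕ := (if (ends e).1 = v then 1 else 0) + (if (ends e).2 = v then 1 else 0)

theorem endCount_eq (C : Finset E) (v : V) : endCount ends C v = ∑ e ∈ C, nb ends e v := rfl

theorem sum_nb (e : E) : ∑ v, nb ends e v = 2 := by
  unfold nb
  rw [Finset.sum_add_distrib, Finset.sum_ite_eq, Finset.sum_ite_eq]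
  simp

theorem sum_endCount (C : Finset E) : ∑ v, endCount ends C v = 2 * C.card := by
  simp only [endCount_eq]
  rw [Finset.sum_comm, Finset.sum_congr rfl fun e _ => sum_nb ends e, Finset.sum_const, smul_eq_mul, mul_comm]

theorem exists_touch (C : Finset E) (hC : C.Nonempty) : ∃ v, endCount ends C v ≠ 0 := by
  by_contra hcon
  push Not at hcon
  have h1 := sum_endCount ends C
  rw [Finset.sum_congr rfl fun v _ => hcon v, Finset.sum_const_zero] at h1
  have := hC.card_pos
  omega

theorem card_touched_le (F : Finset E) (h : ∀ v, endCount ends F v ≠ 1) :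
    (Finset.univ.filter fun v => endCount ends F v ≠ 0).card ≤ F.card := by
  have h1 := sum_endCount ends F
  have h2 : ∑ v ∈ Finset.univ.filter (fun v => endCount ends F v ≠ 0), 2 ≤ ∑ v, endCount ends F v := by
    calc ∑ v ∈ Finset.univ.filter (fun v => endCount ends F v ≠ 0), 2
        ≤ ∑ v ∈ Finset.univ.filter (fun v => endCount ends F v ≠ 0), endCount ends F v := by
          refine Finset.sum_le_sum fun v hv => ?_
          have h3 := (Finset.mem_filter.1 hv).2
          have h4 := h v
          omega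
      _ ≤ ∑ v, endCount ends F v := Finset.sum_le_sum_of_subset (Finset.filter_subset _ _)
  rw [Finset.sum_const, smul_eq_mul, h1] at h2
  omega

theorem nb_eq_zero {F : Finset E} {v : V} (h : endCount ends F v = 0) {e : E} (he : e ∈ F) : nb ends e v = 0 := by
  rw [endCount_eq] at h
  exact (Finset.sum_eq_zero_iff.1 h) e he

/-- existence of an even subset -/
theorem exists_even_subset (F : Finset E) (hF : F.Nonempty) (h : ∀ v, endCount ends F v ≠ 1) :
    ∃ C ⊆ F, C.Nonempty ∧ ∀ v, Even (endCount ends C v) := by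
  obtain ⟨v₀, hv₀⟩ := exists_touch ends F hF
  let T := (Finset.univ.filter fun v => endCount ends F v ≠ 0).erase v₀
  have hTF : T.card < F.card := by
    have h1 : v₀ ∈ Finset.univ.filter fun v => endCount ends F v ≠ 0 := Finset.mem_filter.2 ⟨Finset.mem_univ _, hv₀⟩
    have h2 := Finset.card_erase_lt_of_mem h1
    exact lt_of_lt_of_le h2 (card_touched_le ends F h)
  let Λ : (F → ZMod 2) →ₗ[ZMod 2] (T → ZMod 2) :=
    { toFun := fun c v => ∑ e : F, c e * (nb ends e.1 v.1 : ZMod 2)
      map_add' := fun c c' => by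
        funext v
        simp only [Pi.add_apply, add_mul, Finset.sum_add_distrib]
      map_smul' := fun a c => by
        funext v
        simp only [Pi.smul_apply, smul_eq_mul, mul_assoc, Finset.mul_sum, RingHom.id_apply] }
  have hker : LinearMap.ker Λ ≠ ⊥ := by
    apply LinearMap.ker_ne_bot_of_finrank_lt
    rw [Module.finrank_fintype_fun_eq_card, Module.finrank_fintype_fun_eq_card, Fintype.card_coe, Fintype.card_coe]
    exact hTF
  obtain ⟨c, hc, hc0⟩ := (Submodule.ne_bot_iff _).1 hker
  let C : Finset E := F.attach.filter (fun e => c e ≠ 0) |>.image Subtype.val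
  have hmem : ∀ e : E, e ∈ C ↔ ∃ h : e ∈ F, c ⟨e, h⟩ ≠ 0 := by
    intro e
    simp only [C, Finset.mem_image, Finset.mem_filter, Finset.mem_attach, true_and]
    constructor
    · rintro ⟨⟨e', he'⟩, h1, rfl⟩
      exact ⟨he', h1⟩
    · rintro ⟨h1, h2⟩
      exact ⟨⟨e, h1⟩, h2, rfl⟩
  have hCF : C ⊆ F := fun e he => ((hmem e).1 he).1
  have hcount : ∀ v, (endCount ends C v : ZMod 2) = ∑ e : F, c e * (nb ends e.1 v : ZMod 2) := by
    intro v
    rw [endCount_eq, Nat.cast_sum]
    have h1 : ∑ e ∈ C, (nb ends e v : ZMod 2) = ∑ e : F, if c e ≠ 0 then (nb ends e.1 v : ZMod 2) else 0 := by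
      rw [← Finset.sum_filter]
      simp only [C]
      rw [Finset.sum_image (fun a _ b _ hab => Subtype.ext hab)]
      rfl
    rw [h1]
    refine Finset.sum_congr rfl fun e _ => ?_
    split_ifs with h2
    · have h3 : c e = 1 := by
        generalize c e = z at h2
        revert z
        decide
      rw [h3, one_mul]
    · push Not at h2
      rw [h2, zero_mul]
  have hT : ∀ v ∈ T, Even (endCount ends C v) := by
    intro v hv
    have h1 : Λ c ⟨v, hv⟩ = 0 := congrFun (LinearMap.mem_ker.1 hc) _
    rw [← ZMod.natCast_eq_zero_iff_even, hcount v]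
    exact h1
  have hU : ∀ v, endCount ends F v = 0 → endCount ends C v = 0 := by
    intro v hv
    rw [endCount_eq]
    exact Finset.sum_eq_zero fun e he => nb_eq_zero ends hv (hCF he)
  have hne : ∀ v, v ≠ v₀ → Even (endCount ends C v) := by
    intro v hv
    by_cases h1 : endCount ends F v = 0
    · rw [hU v h1]; exact Even.zero
    · exact hT v (Finset.mem_erase.2 ⟨hv, Finset.mem_filter.2 ⟨Finset.mem_univ _, h1⟩⟩)
  refine ⟨C, hCF, ?_, fun v => ?_⟩
  · by_contra hempty
    rw [Finset.not_nonempty_iff_eq_empty] at hempty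
    apply hc0
    funext e
    by_contra h1
    have : e.1 ∈ C := (hmem e.1).2 ⟨e.2, h1⟩
    rw [hempty] at this
    exact absurd this (Finset.notMem_empty _)
  · by_cases hv : v = v₀
    · subst hv
      have h1 := sum_endCount ends C
      rw [← Finset.add_sum_erase _ _ (Finset.mem_univ v)] at h1
      have h2 : Even (∑ x ∈ Finset.univ.erase v, endCount ends C x) :=
        Finset.even_sum _ fun x hx => hne x (Finset.mem_erase.1 hx).1
      have h3 : Even (2 * C.card) := even_two_mul _
      rw [← h1] at h3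
      exact (Nat.even_add.1 h3).2 h2
    · exact hne v hv

theorem exists_circuit_subset (F : Finset E) (hF : F.Nonempty) (h : ∀ v, endCount ends F v ≠ 1) :
    ∃ C ⊆ F, IsCircuit ends C := by
  classical
  obtain ⟨C, hCF, hC, hev⟩ := exists_even_subset ends F hF h
  let S := F.powerset.filter fun C => C.Nonempty ∧ ∀ v, Even (endCount ends C v)
  have hS : S.Nonempty := ⟨C, Finset.mem_filter.2 ⟨Finset.mem_powerset.2 hCF, hC, hev⟩⟩
  obtain ⟨C₀, hC₀, hmin⟩ := Finset.exists_min_image S Finset.card hS
  obtain ⟨h1, h2, h3⟩ := Finset.mem_filter.1 hC₀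
  refine ⟨C₀, Finset.mem_powerset.1 h1, h2, h3, fun C' hC' hne => ?_⟩
  by_contra hcon
  push Not at hcon
  have h4 := hmin C' (Finset.mem_filter.2 ⟨Finset.mem_powerset.2 (hC'.1.trans (Finset.mem_powerset.1 h1)), hne, hcon⟩)
  have h5 := Finset.card_lt_card hC'
  omega

/-- **Solvability of the edge congruences on a circuit-coprime graph.** -/
theorem solvable_of_isCircuitCoprime (l : E → ℕ) (h : IsCircuitCoprime ends l) (δ : E → ℤ) :
    ∃ φ : V → ℤ, ∀ e, (l e : ℤ) ∣ δ e - (φ (ends e).1 - φ (ends e).2) := by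
  classical
  let N : Submodule ℤ (E → ℤ) :=
    { carrier := {δ | ∃ φ : V → ℤ, ∀ e, (l e : ℤ) ∣ δ e - (φ (ends e).1 - φ (ends e).2)}
      add_mem' := by
        rintro a b ⟨φ, hφ⟩ ⟨ψ, hψ⟩
        refine ⟨φ + ψ, fun e => ?_⟩
        have h3 : (a + b) e - ((φ + ψ) (ends e).1 - (φ + ψ) (ends e).2) =
            (a e - (φ (ends e).1 - φ (ends e).2)) + (b e - (ψ (ends e).1 - ψ (ends e).2)) := by
          change (a e + b e) - ((φ _ + ψ _) - (φ _ + ψ _)) = _
          ring
        rw [h3]
        exact dvd_add (hφ e) (hψ e)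
      zero_mem' := ⟨0, fun e => by simp⟩
      smul_mem' := by
        rintro c a ⟨φ, hφ⟩
        refine ⟨c • φ, fun e => ?_⟩
        have h3 : (c • a) e - ((c • φ) (ends e).1 - (c • φ) (ends e).2) = c * (a e - (φ (ends e).1 - φ (ends e).2)) := by
          change c * a e - (c * φ _ - c * φ _) = _
          ring
        rw [h3]
        exact (hφ e).mul_left c }
  change δ ∈ N
  suffices hN : N = ⊤ by rw [hN]; trivial
  by_contra hN
  obtain ⟨N', hN', hle⟩ := (eq_top_or_exists_le_coatom N).resolve_left hN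
  have hs := isSimpleModule_iff_isCoatom.2 hN'
  obtain ⟨I, hI, ⟨g⟩⟩ := isSimpleModule_iff_quot_maximal.1 hs
  have hpr := hI.isPrime
  have hdom : IsDomain (ℤ ⧸ I) := Ideal.Quotient.isDomain I
  let Λ : (E → ℤ) →ₗ[ℤ] (ℤ ⧸ I) := g.toLinearMap ∘ₗ N'.mkQ
  have hΛN : ∀ x ∈ N, Λ x = 0 := by
    intro x hx
    change g (N'.mkQ x) = 0
    have h1 : N'.mkQ x = 0 := (Submodule.Quotient.mk_eq_zero N').2 (hle hx)
    rw [h1, map_zero]
  have hΛ0 : ∃ x, Λ x ≠ 0 := by
    obtain ⟨x, hx⟩ : ∃ x, x ∉ N' := by
      by_contra hcon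
      push Not at hcon
      exact hN'.1 (eq_top_iff.2 fun x _ => hcon x)
    refine ⟨x, fun h0 => hx ?_⟩
    have h1 : N'.mkQ x = 0 := g.injective (h0.trans (map_zero g).symm)
    exact (Submodule.Quotient.mk_eq_zero N').1 h1
  let c : E → ℤ ⧸ I := fun e => Λ (Pi.single e 1)
  have hΛ : ∀ x : E → ℤ, Λ x = ∑ e, x e • c e := by
    intro x
    have h1 : x = ∑ e, x e • (Pi.single e 1 : E → ℤ) := by
      funext e'
      simp [Finset.sum_apply, Pi.single_apply]
    conv_lhs => rw [h1]
    rw [map_sum]
    exact Finset.sum_congr rfl fun e _ => map_smul Λ _ _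
  have hl : ∀ e, (l e : ℤ) • c e = 0 := by
    intro e
    have h1 : (l e : ℤ) • (Pi.single e 1 : E → ℤ) ∈ N := by
      refine ⟨0, fun e' => ?_⟩
      simp only [Pi.smul_apply, Pi.single_apply, smul_eq_mul, Pi.zero_apply, sub_zero]
      split_ifs with h2
      · subst h2; simp
      · simp
    rw [← map_smul]
    exact hΛN _ h1
  have hb : ∀ v, ∑ e, ((if (ends e).1 = v then (1 : ℤ) else 0) - (if (ends e).2 = v then 1 else 0)) • c e = 0 := by
    intro v
    rw [← hΛ]
    refine hΛN _ ⟨fun w => if w = v then 1 else 0, fun e => ?_⟩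
    simp
  let F : Finset E := Finset.univ.filter fun e => c e ≠ 0
  have hF : F.Nonempty := by
    obtain ⟨x, hx⟩ := hΛ0
    by_contra hcon
    rw [Finset.not_nonempty_iff_eq_empty] at hcon
    apply hx
    rw [hΛ]
    refine Finset.sum_eq_zero fun e _ => ?_
    have h1 : e ∉ F := by rw [hcon]; exact Finset.notMem_empty _
    have h2 : c e = 0 := by
      by_contra h2
      exact h1 (Finset.mem_filter.2 ⟨Finset.mem_univ _, h2⟩)
    rw [h2, smul_zero]
  have hF1 : ∀ v, endCount ends F v ≠ 1 := by
    intro v hv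
    rw [endCount_eq] at hv
    obtain ⟨e₀, he₀, h1⟩ : ∃ e₀ ∈ F, nb ends e₀ v ≠ 0 := by
      by_contra hcon
      push Not at hcon
      rw [Finset.sum_eq_zero hcon] at hv
      exact absurd hv (by decide)
    have h2 : nb ends e₀ v + ∑ e ∈ F.erase e₀, nb ends e v = 1 :=
      (Finset.add_sum_erase F (fun e => nb ends e v) he₀).trans hv
    have h3 : nb ends e₀ v = 1 := by omega
    have h4 : ∑ e ∈ F.erase e₀, nb ends e v = 0 := by omega
    have h5 : ∀ e ∈ F, e ≠ e₀ → nb ends e v = 0 := fun e he hne =>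
      (Finset.sum_eq_zero_iff.1 h4) e (Finset.mem_erase.2 ⟨hne, he⟩)
    have h6 := hb v
    have h7 : ∀ e, e ≠ e₀ → ((if (ends e).1 = v then (1 : ℤ) else 0) - (if (ends e).2 = v then 1 else 0)) • c e = 0 := by
      intro e hne
      by_cases he : e ∈ F
      · have h8 := h5 e he hne
        unfold nb at h8
        split_ifs at h8 ⊢ <;> simp at h8 ⊢
      · have h8 : c e = 0 := by
          by_contra h8
          exact he (Finset.mem_filter.2 ⟨Finset.mem_univ _, h8⟩)
        rw [h8, smul_zero]
    rw [Finset.sum_eq_single e₀ (fun e _ hne => h7 e hne) (fun hh => (hh (Finset.mem_univ _)).elim)] at h6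
    have h9 : c e₀ ≠ 0 := (Finset.mem_filter.1 he₀).2
    unfold nb at h3
    split_ifs at h3 h6 <;> simp at h3 h6
    · exact h9 h6
    · exact h9 h6
  obtain ⟨C, hCF, hC⟩ := exists_circuit_subset ends F hF hF1
  have hg := h C hC
  obtain ⟨p, hp⟩ := (IsPrincipalIdealRing.principal I).principal
  have hdvd : p.natAbs ∣ C.gcd l := by
    refine Finset.dvd_gcd fun e he => ?_
    have h1 := hl e
    have h2 : c e ≠ 0 := (Finset.mem_filter.1 (hCF he)).2
    obtain ⟨z, hz⟩ := Ideal.Quotient.mk_surjective (c e)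
    rw [← hz] at h1 h2
    have h3 : Ideal.Quotient.mk I ((l e : ℤ) * z) = 0 := h1
    rw [map_mul] at h3
    have h4 := (mul_eq_zero.1 h3).resolve_right h2
    rw [Ideal.Quotient.eq_zero_iff_mem, hp] at h4
    have h5 : p ∣ (l e : ℤ) := Ideal.mem_span_singleton.1 h4
    have h6 := Int.natAbs_dvd_natAbs.2 h5
    simpa using h6
  rw [hg, Nat.dvd_one, Int.natAbs_eq_iff] at hdvd
  apply hpr.ne_top
  rw [hp]
  rcases hdvd with h1 | h1
  · rw [h1]
    exact Ideal.span_singleton_eq_top.2 isUnit_one
  · rw [h1]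
    exact Ideal.span_singleton_eq_top.2 (isUnit_one.neg)

/-- the converse: if every basis congruence is solvable then the graph is circuit-coprime -/
theorem isCircuitCoprime_of_solvable (l : E → ℕ)
    (h : ∀ e₀, ∃ φ : V → ℤ, ∀ e, (l e : ℤ) ∣ (if e = e₀ then 1 else 0) - (φ (ends e).1 - φ (ends e).2)) :
    IsCircuitCoprime ends l := by
  classical
  intro C hC
  by_contra hg
  obtain ⟨p, hp, hpg⟩ : ∃ p : ℕ, p.Prime ∧ p ∣ C.gcd l := Nat.exists_prime_and_dvd hg
  have hpl : ∀ e ∈ C, p ∣ l e := fun e he => hpg.trans (Finset.gcd_dvd he)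
  have : Fact p.Prime := ⟨hp⟩
  -- the touched vertices
  obtain ⟨v₀, hv₀⟩ := exists_touch ends C hC.1
  let T' := Finset.univ.filter fun v => endCount ends C v ≠ 0
  have hT' : T'.card ≤ C.card := card_touched_le ends C fun v hv => by
    have := hC.2.1 v
    rw [hv] at this
    exact absurd this (by decide)
  have hv₀T : v₀ ∈ T' := Finset.mem_filter.2 ⟨Finset.mem_univ _, hv₀⟩
  have hends : ∀ e ∈ C, (ends e).1 ∈ T' ∧ (ends e).2 ∈ T' := by
    intro e he
    constructor
    · refine Finset.mem_filter.2 ⟨Finset.mem_univ _, fun h0 => ?_⟩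
      have h1 := nb_eq_zero ends h0 he
      unfold nb at h1
      simp at h1
    · refine Finset.mem_filter.2 ⟨Finset.mem_univ _, fun h0 => ?_⟩
      have h1 := nb_eq_zero ends h0 he
      unfold nb at h1
      simp at h1
  let ext : (T'.erase v₀ → ZMod p) → V → ZMod p := fun c v => if hv : v ∈ T'.erase v₀ then c ⟨v, hv⟩ else 0
  let Λ : (T'.erase v₀ → ZMod p) →ₗ[ZMod p] (C → ZMod p) :=
    { toFun := fun c e => ext c (ends e.1).1 - ext c (ends e.1).2
      map_add' := fun c c' => by
        have h1 : ∀ v, ext (c + c') v = ext c v + ext c' v := fun v => by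
          simp only [ext]
          split_ifs
          · rfl
          · rw [add_zero]
        funext e
        simp only [Pi.add_apply, h1]
        ring
      map_smul' := fun a c => by
        have h1 : ∀ v, ext (a • c) v = a * ext c v := fun v => by
          simp only [ext]
          split_ifs
          · rfl
          · rw [mul_zero]
        funext e
        simp only [Pi.smul_apply, h1, smul_eq_mul, RingHom.id_apply]
        ring }
  have hcard : Module.finrank (ZMod p) (T'.erase v₀ → ZMod p) < Module.finrank (ZMod p) (C → ZMod p) := by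
    rw [Module.finrank_fintype_fun_eq_card, Module.finrank_fintype_fun_eq_card, Fintype.card_coe, Fintype.card_coe]
    exact lt_of_lt_of_le (Finset.card_erase_lt_of_mem hv₀T) hT'
  have hsurj : Function.Surjective Λ := by
    rw [← LinearMap.range_eq_top, eq_top_iff]
    have hsp : ∀ e₀ : C, (Pi.single e₀ 1 : C → ZMod p) ∈ LinearMap.range Λ := by
      intro e₀
      obtain ⟨φ, hφ⟩ := h e₀.1
      refine ⟨fun v => ((φ v.1 - φ v₀ : ℤ) : ZMod p), ?_⟩
      have h1 : ∀ v ∈ T', ext (fun v => ((φ v.1 - φ v₀ : ℤ) : ZMod p)) v = ((φ v - φ v₀ : ℤ) : ZMod p) := by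
        intro v hv
        simp only [ext]
        split_ifs with h2
        · rfl
        · have h3 : v = v₀ := by
            by_contra h3
            exact h2 (Finset.mem_erase.2 ⟨h3, hv⟩)
          rw [h3, sub_self, Int.cast_zero]
      funext e
      change ext (fun v => ((φ v.1 - φ v₀ : ℤ) : ZMod p)) (ends e.1).1 - ext (fun v => ((φ v.1 - φ v₀ : ℤ) : ZMod p)) (ends e.1).2 = _
      rw [h1 _ (hends e.1 e.2).1, h1 _ (hends e.1 e.2).2, ← Int.cast_sub]
      have h4 : (p : ℤ) ∣ (if e.1 = e₀.1 then 1 else 0) - (φ (ends e.1).1 - φ (ends e.1).2) :=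
        (Int.natCast_dvd_natCast.2 (hpl e.1 e.2)).trans (hφ e.1)
      rw [← ZMod.intCast_zmod_eq_zero_iff_dvd] at h4
      rw [Pi.single_apply]
      push_cast at h4 ⊢
      have h5 : (if e = e₀ then (1 : ZMod p) else 0) = if e.1 = e₀.1 then 1 else 0 := by
        simp only [Subtype.ext_iff]
      rw [h5]
      linear_combination -h4
    intro x _
    have h6 : x = ∑ e, x e • (Pi.single e 1 : C → ZMod p) := by
      funext e'
      simp [Finset.sum_apply, Pi.single_apply]
    rw [h6]
    exact Submodule.sum_mem _ fun e _ => Submodule.smul_mem _ _ (hsp e)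
  have h7 := LinearMap.finrank_range_le Λ
  rw [LinearMap.range_eq_top.2 hsurj, finrank_top] at h7
  omega

end K793.Graph
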