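import Mathlib.RingTheory.Localization.AtPrime.Basic
import Mathlib.RingTheory.Localization.Submodule
import Mathlib.RingTheory.LocalRing.Basic
import Mathlib.RingTheory.Filtration
import Mathlib.RingTheory.Finiteness.Ideal
import Mathlib.RingTheory.Ideal.Quotient.Noetherian
import Mathlib.RingTheory.Jacobson.Ideal
import Mathlib.RingTheory.Nilpotent.Lemmas
import Mathlib.RingTheory.DiscreteValuationRing.Basic

/-!
# Local algebra of nodes over a discrete valuation ring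

`IsNode ϖ x y a`: the local `S`-algebra `B` with elements `x, y`, `x y = a ∈ S`, whose reduction mod `ϖ` has the two branches
`P₁ = (x, ϖ)` and `P₂ = (y, ϖ)`.  `Ord P π g n`: `g` is `π ^ n` up to units at the prime `P`.
-/

set_option autoImplicit false
set_option linter.unusedSectionVars false
universe u

open IsLocalRing

namespace K793.NodeAlg

/-- At the prime `P`, the element `g` is `π ^ n` up to units. -/
def Ord {B : Type u} [CommRing B] (P : Ideal B) (π g : B) (n : ℕ) : Prop :=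
  ∃ s t : B, s ∉ P ∧ t ∉ P ∧ s * g = t * π ^ n

section Ord

variable {B : Type u} [CommRing B] {P : Ideal B} [P.IsPrime] {π : B}

theorem Ord.unique (hπ : π ∈ nonZeroDivisors B) (hπP : π ∈ P) {g : B} {n m : ℕ} (h : Ord P π g n) (h' : Ord P π g m) :
    n = m := by
  have key : ∀ {g : B} {n m : ℕ}, n < m → Ord P π g n → Ord P π g m → False := by
    rintro g n m hnm ⟨s, t, hs, ht, h⟩ ⟨s', t', hs', ht', h'⟩
    obtain ⟨k, rfl⟩ := Nat.exists_eq_add_of_lt hnm
    have h1 : (s' * t - s * t' * π ^ (k + 1)) * π ^ n = 0 := by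
      have : s' * (t * π ^ n) = s * (t' * π ^ (n + k + 1)) := by rw [← h, ← h']; ring
      rw [sub_mul, mul_assoc, this]
      ring
    have h2 := (mul_right_mem_nonZeroDivisors_eq_zero_iff (pow_mem hπ n)).1 h1
    have h3 : s' * t ∈ P := by
      rw [sub_eq_zero.1 h2]
      exact P.mul_mem_left _ (Ideal.pow_mem_of_mem _ hπP _ (Nat.succ_pos k))
    exact (Ideal.IsPrime.mem_or_mem ‹_› h3).elim hs' ht
  rcases lt_trichotomy n m with h1 | h1 | h1
  · exact (key h1 h h').elim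
  · exact h1
  · exact (key h1 h' h).elim

theorem Ord.mul {g g' : B} {n m : ℕ} (h : Ord P π g n) (h' : Ord P π g' m) : Ord P π (g * g') (n + m) := by
  obtain ⟨s, t, hs, ht, h⟩ := h
  obtain ⟨s', t', hs', ht', h'⟩ := h'
  refine ⟨s * s', t * t', fun h1 => (Ideal.IsPrime.mem_or_mem ‹_› h1).elim hs hs',
    fun h1 => (Ideal.IsPrime.mem_or_mem ‹_› h1).elim ht ht', ?_⟩
  have : s * s' * (g * g') = (s * g) * (s' * g') := by ring
  rw [this, h, h', pow_add]
  ring

theorem ord_zero_iff {g : B} : Ord P π g 0 ↔ g ∉ P := by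
  constructor
  · rintro ⟨s, t, hs, ht, h⟩ hg
    rw [pow_zero, mul_one] at h
    exact ht (h ▸ P.mul_mem_left _ hg)
  · intro hg
    exact ⟨1, g, (Ideal.ne_top_iff_one P).1 (Ideal.IsPrime.ne_top ‹_›), hg, by ring⟩

theorem Ord.mem {g : B} {n : ℕ} (hπP : π ∈ P) (h : Ord P π g n) (hn : n ≠ 0) : g ∈ P := by
  obtain ⟨s, t, hs, ht, h⟩ := h
  have h1 : s * g ∈ P := h ▸ P.mul_mem_left _ (Ideal.pow_mem_of_mem _ hπP _ (Nat.pos_of_ne_zero hn))
  exact (Ideal.IsPrime.mem_or_mem ‹_› h1).resolve_left hs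

theorem ord_pow (n : ℕ) : Ord P π (π ^ n) n :=
  ⟨1, 1, (Ideal.ne_top_iff_one P).1 (Ideal.IsPrime.ne_top ‹_›), (Ideal.ne_top_iff_one P).1 (Ideal.IsPrime.ne_top ‹_›), rfl⟩

theorem Ord.cancel (hπ : π ∈ nonZeroDivisors B) {g : B} {n m : ℕ} (h : Ord P π (π ^ m * g) (n + m)) : Ord P π g n := by
  obtain ⟨s, t, hs, ht, h⟩ := h
  refine ⟨s, t, hs, ht, ?_⟩
  have h1 : (s * g - t * π ^ n) * π ^ m = 0 := by
    rw [pow_add] at h
    linear_combination h
  exact sub_eq_zero.1 ((mul_right_mem_nonZeroDivisors_eq_zero_iff (pow_mem hπ m)).1 h1)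

theorem Ord.pow {g : B} {n : ℕ} (h : Ord P π g n) (k : ℕ) : Ord P π (g ^ k) (n * k) := by
  induction k with
  | zero =>
    rw [pow_zero, mul_zero, ord_zero_iff]
    exact (Ideal.ne_top_iff_one P).1 (Ideal.IsPrime.ne_top ‹_›)
  | succ k ih => rw [pow_succ, Nat.mul_succ]; exact ih.mul h

end Ord

variable {S B : Type u} [CommRing S] [CommRing B] [IsLocalRing B] [Algebra S B]

/-- `x y = a`, and mod `ϖ` the ring `B` has the two branches `(x, ϖ)` and `(y, ϖ)`. -/
structure IsNode (ϖ : S) (x y : B) (a : S) : Prop where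
  mul : x * y = algebraMap S B a
  reg : algebraMap S B ϖ ∈ nonZeroDivisors B
  max : maximalIdeal B = Ideal.span {x, y, algebraMap S B ϖ}
  surj : ∀ b : B, ∃ s : S, b - algebraMap S B s ∈ maximalIdeal B
  prime₁ : (Ideal.span {x, algebraMap S B ϖ}).IsPrime
  prime₂ : (Ideal.span {y, algebraMap S B ϖ}).IsPrime
  notMem₁ : y ∉ Ideal.span {x, algebraMap S B ϖ}
  notMem₂ : x ∉ Ideal.span {y, algebraMap S B ϖ}
  inf : Ideal.span {x, algebraMap S B ϖ} ⊓ Ideal.span {y, algebraMap S B ϖ} ≤ Ideal.span {algebraMap S B ϖ}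

namespace IsNode

variable {ϖ : S} {x y : B} {a : S} (h : IsNode ϖ x y a)

local notation "π" => algebraMap S B ϖ
local notation "P₁" => Ideal.span {x, algebraMap S B ϖ}
local notation "P₂" => Ideal.span {y, algebraMap S B ϖ}

include h

theorem symm : IsNode ϖ y x a where
  mul := by rw [mul_comm]; exact h.mul
  reg := h.reg
  max := by
    rw [h.max]
    congr 1
    ext z
    simp only [Set.mem_insert_iff, Set.mem_singleton_iff]
    tauto
  surj := h.surj
  prime₁ := h.prime₂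
  prime₂ := h.prime₁
  notMem₁ := h.notMem₂
  notMem₂ := h.notMem₁
  inf := by rw [inf_comm]; exact h.inf

omit h in
theorem x_mem : x ∈ P₁ := Ideal.subset_span (by simp)

omit h in
theorem π_mem : π ∈ P₁ := Ideal.subset_span (by simp)

theorem x_mem_max : x ∈ maximalIdeal B := h.max ▸ Ideal.subset_span (by simp)

theorem y_mem_max : y ∈ maximalIdeal B := h.max ▸ Ideal.subset_span (by simp)

theorem π_mem_max : π ∈ maximalIdeal B := h.max ▸ Ideal.subset_span (by simp)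

theorem xy_mem : x * y ∈ Ideal.span {π} :=
  h.inf ⟨Ideal.mul_mem_right _ _ x_mem, Ideal.mul_mem_left _ _ (x_mem (x := y))⟩

/-- `y P₁ ⊆ (π)` -/
theorem exists_mul_eq {p : B} (hp : p ∈ P₁) : ∃ q, y * p = π * q := by
  obtain ⟨c, d, rfl⟩ := Ideal.mem_span_pair.1 hp
  obtain ⟨e, he⟩ := Ideal.mem_span_singleton'.1 h.xy_mem
  exact ⟨c * e + d * y, by linear_combination (-c) * he⟩

/-- elements of both branches are divisible by `π` -/
theorem exists_eq_mul {g : B} (h1 : g ∈ P₁) (h2 : g ∈ P₂) : ∃ g', g = π * g' := by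
  obtain ⟨e, he⟩ := Ideal.mem_span_singleton'.1 (h.inf ⟨h1, h2⟩)
  exact ⟨e, by rw [← he]; ring⟩

theorem ord₁_iff {g : B} {n : ℕ} : Ord P₁ π g n ↔ ∃ g', g' ∉ P₁ ∧ y ^ n * g = π ^ n * g' := by
  have := h.prime₁
  constructor
  · intro ho
    induction n generalizing g with
    | zero => exact ⟨g, ord_zero_iff.1 ho, by simp⟩
    | succ n ih =>
      have h1 := ho.mem π_mem (Nat.succ_ne_zero n)
      obtain ⟨q, hq⟩ := h.exists_mul_eq h1
      have hy : Ord P₁ π y 0 := ord_zero_iff.2 h.notMem₁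
      have h2 : Ord P₁ π q n := by
        have h3 := hy.mul ho
        rw [zero_add, hq] at h3
        exact Ord.cancel (m := 1) h.reg (by rw [pow_one]; exact h3)
      obtain ⟨g', hg', h4⟩ := ih h2
      refine ⟨g', hg', ?_⟩
      calc y ^ (n + 1) * g = y ^ n * (y * g) := by ring
        _ = π * (y ^ n * q) := by rw [hq]; ring
        _ = π ^ (n + 1) * g' := by rw [h4]; ring
  · rintro ⟨g', hg', h1⟩
    refine ⟨y ^ n, g', ?_, hg', by rw [h1]; ring⟩
    intro hy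
    exact h.notMem₁ (Ideal.IsPrime.mem_of_pow_mem ‹_› _ hy)

/-- a nonzerodivisor has an order along the first branch -/
theorem exists_ord₁ [IsNoetherianRing B] {g : B} (hg : g ∈ nonZeroDivisors B) : ∃ n, Ord P₁ π g n := by
  have hp := h.prime₁
  by_contra hcon
  push Not at hcon
  have key : ∀ n : ℕ, ∃ q ∈ P₁, y ^ n * g = π ^ n * q := by
    intro n
    induction n with
    | zero =>
      refine ⟨g, ?_, by simp⟩
      by_contra hgP
      exact hcon 0 (ord_zero_iff.2 hgP)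
    | succ n ih =>
      obtain ⟨q, hq, h1⟩ := ih
      obtain ⟨r, hr⟩ := h.exists_mul_eq hq
      have h2 : y ^ (n + 1) * g = π ^ (n + 1) * r := by
        calc y ^ (n + 1) * g = y * (y ^ n * g) := by ring
          _ = π ^ n * (y * q) := by rw [h1]; ring
          _ = _ := by rw [hr]; ring
      refine ⟨r, ?_, h2⟩
      by_contra hrP
      exact hcon (n + 1) (h.ord₁_iff.2 ⟨r, hrP, h2⟩)
  have h3 : algebraMap B (Localization.AtPrime P₁) g = 0 := by
    have h4 : ∀ n : ℕ, algebraMap B (Localization.AtPrime P₁) g ∈ maximalIdeal (Localization.AtPrime P₁) ^ n := by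
      intro n
      obtain ⟨q, -, h1⟩ := key n
      have hu : IsUnit (algebraMap B (Localization.AtPrime P₁) (y ^ n)) := by
        rw [map_pow]
        exact ((IsLocalization.AtPrime.isUnit_to_map_iff _ P₁ y).2 h.notMem₁).pow n
      obtain ⟨v, hv⟩ := hu.exists_left_inv
      have h5 : algebraMap B (Localization.AtPrime P₁) g = v * (algebraMap B (Localization.AtPrime P₁) π ^ n * algebraMap B _ q) := by
        rw [← map_pow, ← map_mul, ← h1, map_mul, ← mul_assoc, hv, one_mul]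
      rw [h5]
      refine Ideal.mul_mem_left _ _ (Ideal.mul_mem_right _ _ (Ideal.pow_mem_pow ?_ n))
      exact (IsLocalization.AtPrime.to_map_mem_maximal_iff _ P₁ _).2 π_mem
    have hN : IsNoetherianRing (Localization.AtPrime P₁) :=
      IsLocalization.isNoetherianRing (P₁).primeCompl (Localization.AtPrime P₁) inferInstance
    have h5 := Ideal.iInf_pow_eq_bot_of_isLocalRing (maximalIdeal (Localization.AtPrime P₁)) (Ideal.IsPrime.ne_top inferInstance)
    have h6 : algebraMap B (Localization.AtPrime P₁) g ∈ ⨅ n : ℕ, maximalIdeal (Localization.AtPrime P₁) ^ n :=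
      (Submodule.mem_iInf _).2 h4
    rw [h5] at h6
    exact h6
  rw [IsLocalization.map_eq_zero_iff (P₁).primeCompl] at h3
  obtain ⟨s, hs⟩ := h3
  have h7 : (s : B) = 0 := (mul_right_mem_nonZeroDivisors_eq_zero_iff hg).1 hs
  exact s.2 (h7 ▸ Ideal.zero_mem _)

/-- divisibility by powers of `π` is detected on the two branches -/
theorem exists_eq_pow_mul {e n₁ n₂ : ℕ} {g : B} (h1 : Ord P₁ π g n₁) (h2 : Ord P₂ π g n₂) (he₁ : e ≤ n₁) (he₂ : e ≤ n₂) :
    ∃ g', g = π ^ e * g' ∧ Ord P₁ π g' (n₁ - e) ∧ Ord P₂ π g' (n₂ - e) := by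
  have hp₁ := h.prime₁
  have hp₂ := h.prime₂
  induction e with
  | zero => exact ⟨g, by simp, h1, h2⟩
  | succ e ih =>
    obtain ⟨g', hg', h3, h4⟩ := ih (by omega) (by omega)
    obtain ⟨g'', hg''⟩ := h.exists_eq_mul (h3.mem π_mem (by omega)) (h4.mem π_mem (by omega))
    refine ⟨g'', by rw [hg', hg'']; ring, ?_, ?_⟩
    · refine Ord.cancel (m := 1) h.reg ?_
      rw [pow_one, ← hg'', show n₁ - (e + 1) + 1 = n₁ - e by omega]
      exact h3
    · refine Ord.cancel (m := 1) h.reg ?_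
      rw [pow_one, ← hg'', show n₂ - (e + 1) + 1 = n₂ - e by omega]
      exact h4

end IsNode

theorem isLocalRing_quotient (I : Ideal B) (hI : I ≠ ⊤) : IsLocalRing (B ⧸ I) := by
  have : Nontrivial (B ⧸ I) := Ideal.Quotient.nontrivial_iff.2 hI
  exact IsLocalRing.of_surjective' (Ideal.Quotient.mk I) Ideal.Quotient.mk_surjective

/-- Krull's intersection theorem for the quotient by an ideal. -/
theorem mem_of_forall_mem_sup_pow [IsNoetherianRing B] (I : Ideal B) (hI : I ≠ ⊤) {z b : B} (hz : z ∈ maximalIdeal B)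
    (hb : ∀ n : ℕ, b ∈ Ideal.span {z ^ n} ⊔ I) : b ∈ I := by
  have hl := isLocalRing_quotient I hI
  have h1 := Ideal.iInf_pow_eq_bot_of_isLocalRing (maximalIdeal (B ⧸ I)) (Ideal.IsPrime.ne_top inferInstance)
  rw [← Ideal.Quotient.eq_zero_iff_mem]
  have h2 : Ideal.Quotient.mk I b ∈ ⨅ n : ℕ, maximalIdeal (B ⧸ I) ^ n := by
    refine (Submodule.mem_iInf _).2 fun n => ?_
    obtain ⟨c, hc, d, hd, hcd⟩ := Submodule.mem_sup.1 (hb n)
    obtain ⟨e, rfl⟩ := Ideal.mem_span_singleton'.1 hc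
    rw [← hcd, map_add, Ideal.Quotient.eq_zero_iff_mem.2 hd, add_zero, map_mul, map_pow]
    refine Ideal.mul_mem_left _ _ (Ideal.pow_mem_pow ?_ n)
    have hloc : IsLocalHom (Ideal.Quotient.mk I) := IsLocalHom.of_surjective _ Ideal.Quotient.mk_surjective
    exact (IsLocalRing.mem_maximalIdeal _).2 (fun hu => hz (isUnit_of_map_unit (Ideal.Quotient.mk I) z hu))
  rw [h1] at h2
  exact h2

namespace IsNode

variable {ϖ : S} {x y : B} {a : S} (h : IsNode ϖ x y a)

local notation "π" => algebraMap S B ϖ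
local notation "P₁" => Ideal.span {x, algebraMap S B ϖ}
local notation "P₂" => Ideal.span {y, algebraMap S B ϖ}

include h

theorem P₁_le : P₁ ≤ maximalIdeal B := by
  rw [Ideal.span_le]
  rintro z (rfl | rfl)
  · exact h.x_mem_max
  · exact h.π_mem_max

/-- the second branch is a discrete valuation ring with parameter `x` -/
theorem exists_branch₂ [IsNoetherianRing B] {s : B} (hs : s ∉ P₂) : ∃ (k : ℕ) (u : B), IsUnit u ∧ s - x ^ k * u ∈ P₂ := by
  have hp := h.prime₂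
  have h1 : ∃ n, s ∉ Ideal.span {x ^ n} ⊔ P₂ := by
    by_contra hcon
    push Not at hcon
    exact hs (mem_of_forall_mem_sup_pow _ hp.ne_top h.x_mem_max hcon)
  classical
  obtain ⟨k, hk⟩ : ∃ k, Nat.find h1 = k + 1 := by
    refine Nat.exists_eq_succ_of_ne_zero fun h0 => ?_
    have := Nat.find_spec h1
    rw [h0] at this
    simp at this
  have h2 : s ∈ Ideal.span {x ^ k} ⊔ P₂ := by
    have := Nat.find_min h1 (m := k) (by omega)
    exact not_not.1 this
  have h3 := Nat.find_spec h1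
  rw [hk] at h3
  obtain ⟨c, hc, d, hd, hcd⟩ := Submodule.mem_sup.1 h2
  obtain ⟨b, rfl⟩ := Ideal.mem_span_singleton'.1 hc
  refine ⟨k, b, ?_, by rw [← hcd]; ring_nf; exact hd⟩
  by_contra hb
  have hb' : b ∈ maximalIdeal B := hb
  rw [h.max, Ideal.mem_span_insert] at hb'
  obtain ⟨α, z, hz, rfl⟩ := hb'
  apply h3
  rw [← hcd]
  refine Ideal.add_mem _ ?_ (Ideal.mem_sup_right hd)
  rw [add_mul]
  refine Ideal.add_mem _ (Ideal.mem_sup_left ?_) (Ideal.mem_sup_right (Ideal.mul_mem_right _ _ hz))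
  exact Ideal.mem_span_singleton'.2 ⟨α, by ring⟩

theorem x_mem_radical [IsNoetherianRing B] {c : Ideal B} (hπ : π ∈ c.radical) {s : B} (hs : s ∉ P₂) (hsc : s ∈ c) :
    x ∈ c.radical := by
  obtain ⟨k, u, hu, hk⟩ := h.exists_branch₂ hs
  obtain ⟨α, β, hαβ⟩ := Ideal.mem_span_pair.1 hk
  obtain ⟨e, he⟩ := Ideal.mem_span_singleton'.1 h.xy_mem
  obtain ⟨v, hv⟩ := hu.exists_right_inv
  have h1 : x ^ (k + 1) = v * x * s + π * (-(v * (α * e + β * x))) := by
    linear_combination (v * x) * hαβ + v * α * he - x ^ (k + 1) * hv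
  have h2 : x ^ (k + 1) ∈ c.radical := by
    rw [h1]
    exact Ideal.add_mem _ (Ideal.mul_mem_left _ _ (Ideal.le_radical hsc)) (Ideal.mul_mem_right _ _ hπ)
  rw [← Ideal.radical_idem]
  exact ⟨k + 1, h2⟩

/-- an ideal not contained in the branches and containing a power of `π` is primary to the maximal ideal -/
theorem exists_pow_le [IsNoetherianRing B] {c : Ideal B} {n : ℕ} (hπ : π ^ n ∈ c) {s₁ s₂ : B} (hs₁ : s₁ ∉ P₁) (hc₁ : s₁ ∈ c)
    (hs₂ : s₂ ∉ P₂) (hc₂ : s₂ ∈ c) : ∃ N : ℕ, maximalIdeal B ^ N ≤ c := by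
  have h0 : π ∈ c.radical := ⟨n, hπ⟩
  refine Ideal.exists_pow_le_of_le_radical_of_fg_radical ?_ (IsNoetherian.noetherian _)
  rw [h.max, Ideal.span_le]
  rintro z (rfl | rfl | rfl)
  · exact h.x_mem_radical h0 hs₂ hc₂
  · exact h.symm.x_mem_radical h0 hs₁ hc₁
  · exact h0

end IsNode

/-- `𝔧 : 𝔪 = 𝔧` -/
def Sat (j : Ideal B) : Prop := ∀ c : B, (∀ z ∈ maximalIdeal B, z * c ∈ j) → c ∈ j

theorem Sat.pow {j : Ideal B} (hj : Sat j) (N : ℕ) (c : B) (hc : ∀ z ∈ maximalIdeal B ^ N, z * c ∈ j) : c ∈ j := by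
  induction N generalizing c with
  | zero => simpa using hc 1 (by simp)
  | succ N ih =>
    refine ih c fun w hw => hj _ fun z hz => ?_
    rw [← mul_assoc]
    refine hc _ ?_
    rw [pow_succ']
    exact Ideal.mul_mem_mul hz hw

namespace IsNode

variable {ϖ : S} {x y : B} {a : S} (h : IsNode ϖ x y a)

local notation "π" => algebraMap S B ϖ
local notation "P₁" => Ideal.span {x, algebraMap S B ϖ}
local notation "P₂" => Ideal.span {y, algebraMap S B ϖ}

include h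

/-- membership in a saturated ideal is checked on the punctured spectrum -/
theorem mem_of_sat [IsNoetherianRing B] {j : Ideal B} (hj : Sat j) {b : B} {n : ℕ} (hπ : π ^ n * b ∈ j) {s₁ s₂ : B} (hs₁ : s₁ ∉ P₁)
    (hc₁ : s₁ * b ∈ j) (hs₂ : s₂ ∉ P₂) (hc₂ : s₂ * b ∈ j) : b ∈ j := by
  let c : Ideal B := Submodule.comap (LinearMap.toSpanSingleton B B b) j
  obtain ⟨N, hN⟩ := h.exists_pow_le (c := c) (n := n) hπ hs₁ hc₁ hs₂ hc₂
  exact hj.pow N b fun z hz => hN hz

theorem sat_span_singleton {g : B} (hg : g ∈ nonZeroDivisors B) : Sat (Ideal.span {g}) := by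
  have hp₁ := h.prime₁
  have hp₂ := h.prime₂
  intro c hc
  obtain ⟨u, hu⟩ := Ideal.mem_span_singleton'.1 (hc π h.π_mem_max)
  obtain ⟨v, hv⟩ := Ideal.mem_span_singleton'.1 (hc (x + y) (Ideal.add_mem _ h.x_mem_max h.y_mem_max))
  have h1 : (π * v - (x + y) * u) * g = 0 := by linear_combination π * hv - (x + y) * hu
  have h2 := (mul_right_mem_nonZeroDivisors_eq_zero_iff hg).1 h1
  have h3 : (x + y) * u ∈ P₁ := by
    rw [← sub_eq_zero.1 h2]
    exact Ideal.mul_mem_right _ _ π_mem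
  have h4 : (x + y) * u ∈ P₂ := by
    rw [← sub_eq_zero.1 h2]
    exact Ideal.mul_mem_right _ _ π_mem
  have h5 : u ∈ P₁ := by
    refine (hp₁.mem_or_mem h3).resolve_left fun h6 => h.notMem₁ ?_
    exact (Submodule.add_mem_iff_right _ x_mem).1 h6
  have h6 : u ∈ P₂ := by
    refine (hp₂.mem_or_mem h4).resolve_left fun h6 => h.notMem₂ ?_
    exact (Submodule.add_mem_iff_left _ (x_mem (x := y))).1 h6
  obtain ⟨u', rfl⟩ := h.exists_eq_mul h5 h6
  rw [Ideal.mem_span_singleton']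
  refine ⟨u', ?_⟩
  have h7 : (u' * g - c) * π = 0 := by linear_combination hu
  exact sub_eq_zero.1 ((mul_right_mem_nonZeroDivisors_eq_zero_iff h.reg).1 h7)

end IsNode

/-- the ideals `j` and `j'` agree after inverting `π` -/
def PEq {B : Type u} [CommRing B] (π : B) (j j' : Ideal B) : Prop :=
  (∀ b ∈ j, ∃ n : ℕ, π ^ n * b ∈ j') ∧ (∀ b ∈ j', ∃ n : ℕ, π ^ n * b ∈ j)

/-- the ideal `j` is generated by `π ^ n` at the prime `P` -/
def OrdI {B : Type u} [CommRing B] (P : Ideal B) (π : B) (j : Ideal B) (n : ℕ) : Prop :=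
  (∀ b ∈ j, ∃ s, s ∉ P ∧ s * b ∈ Ideal.span {π ^ n}) ∧ (∃ s, s ∉ P ∧ s * π ^ n ∈ j)

theorem PEq.symm {π : B} {j j' : Ideal B} (h : PEq π j j') : PEq π j' j := ⟨h.2, h.1⟩

theorem PEq.trans {π : B} {j j' j'' : Ideal B} (h : PEq π j j') (h' : PEq π j' j'') : PEq π j j'' := by
  have key : ∀ {j j' j'' : Ideal B}, (∀ b ∈ j, ∃ n : ℕ, π ^ n * b ∈ j') → (∀ b ∈ j', ∃ n : ℕ, π ^ n * b ∈ j'') →
      (∀ b ∈ j, ∃ n : ℕ, π ^ n * b ∈ j'') := by
    intro j j' j'' h h' b hb
    obtain ⟨n, hn⟩ := h b hb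
    obtain ⟨m, hm⟩ := h' _ hn
    exact ⟨m + n, by rw [pow_add, mul_assoc]; exact hm⟩
  exact ⟨key h.1 h'.1, key h'.2 h.2⟩

theorem peq_span_mul {π g u : B} {n : ℕ} (hu : u ∣ π ^ n) : PEq π (Ideal.span {g * u}) (Ideal.span {g}) := by
  obtain ⟨v, hv⟩ := hu
  constructor
  · intro b hb
    obtain ⟨c, rfl⟩ := Ideal.mem_span_singleton'.1 hb
    exact ⟨0, Ideal.mem_span_singleton'.2 ⟨c * u, by ring⟩⟩
  · intro b hb
    obtain ⟨c, rfl⟩ := Ideal.mem_span_singleton'.1 hb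
    exact ⟨n, Ideal.mem_span_singleton'.2 ⟨c * v, by rw [hv]; ring⟩⟩

namespace IsNode

variable {ϖ : S} {x y : B} {a : S} (h : IsNode ϖ x y a)

local notation "π" => algebraMap S B ϖ
local notation "P₁" => Ideal.span {x, algebraMap S B ϖ}
local notation "P₂" => Ideal.span {y, algebraMap S B ϖ}

include h

/-- a saturated ideal with the same localizations as `(g)` is `(g)` -/
theorem eq_span_of_ord [IsNoetherianRing B] {j : Ideal B} (hj : Sat j) {g : B} (hg : g ∈ nonZeroDivisors B)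
    (hp : PEq π j (Ideal.span {g})) {o₁ o₂ : ℕ} (h1 : OrdI P₁ π j o₁) (h2 : OrdI P₂ π j o₂) (hg1 : Ord P₁ π g o₁)
    (hg2 : Ord P₂ π g o₂) : j = Ideal.span {g} := by
  have hp₁ := h.prime₁
  have hp₂ := h.prime₂
  have keyA : ∀ (P : Ideal B) (_ : P.IsPrime) (o : ℕ), OrdI P π j o → Ord P π g o →
      ∀ b ∈ j, ∃ s, s ∉ P ∧ s * b ∈ Ideal.span {g} := by
    rintro P hP o ⟨hj1, -⟩ ⟨s', t', hs', ht', hst⟩ b hb
    obtain ⟨s, hs, hsb⟩ := hj1 b hb
    obtain ⟨c, hc⟩ := Ideal.mem_span_singleton'.1 hsb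
    refine ⟨t' * s, fun h3 => (hP.mem_or_mem h3).elim ht' hs, Ideal.mem_span_singleton'.2 ⟨c * s', ?_⟩⟩
    rw [mul_assoc c, hst, mul_assoc t', ← hc]
    ring
  have keyB : ∀ (P : Ideal B) (_ : P.IsPrime) (o : ℕ), OrdI P π j o → Ord P π g o → ∃ s, s ∉ P ∧ s * g ∈ j := by
    rintro P hP o ⟨-, s, hs, hsj⟩ ⟨s', t', hs', ht', hst⟩
    refine ⟨s * s', fun h3 => (hP.mem_or_mem h3).elim hs hs', ?_⟩
    have h4 : s * s' * g = t' * (s * π ^ o) := by rw [mul_assoc s, hst]; ring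
    rw [h4]
    exact Ideal.mul_mem_left _ _ hsj
  apply le_antisymm
  · intro b hb
    obtain ⟨n, hn⟩ := hp.1 b hb
    obtain ⟨s₁, hs₁, hb₁⟩ := keyA _ hp₁ _ h1 hg1 b hb
    obtain ⟨s₂, hs₂, hb₂⟩ := keyA _ hp₂ _ h2 hg2 b hb
    exact h.mem_of_sat (h.sat_span_singleton hg) hn hs₁ hb₁ hs₂ hb₂
  · rw [Ideal.span_singleton_le_iff_mem]
    obtain ⟨n, hn⟩ := hp.2 g (Ideal.mem_span_singleton_self g)
    obtain ⟨s₁, hs₁, hb₁⟩ := keyB _ hp₁ _ h1 hg1
    obtain ⟨s₂, hs₂, hb₂⟩ := keyB _ hp₂ _ h2 hg2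
    exact h.mem_of_sat hj hn hs₁ hb₁ hs₂ hb₂

/-- principality from balanced orders -/
theorem exists_eq_span [IsNoetherianRing B] {j : Ideal B} (hj : Sat j) {b : B} (hb : b ∈ nonZeroDivisors B)
    (hp : PEq π j (Ideal.span {b})) {o₁ o₂ n₁ n₂ : ℕ} (h1 : OrdI P₁ π j o₁) (h2 : OrdI P₂ π j o₂) (hb1 : Ord P₁ π b n₁)
    (hb2 : Ord P₂ π b n₂) (hn : n₁ + o₂ = n₂ + o₁) : ∃ g ∈ nonZeroDivisors B, j = Ideal.span {g} := by
  have hp₁ := h.prime₁
  have hp₂ := h.prime₂
  rcases le_total o₁ n₁ with hle | hle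
  · obtain ⟨e, rfl⟩ := Nat.exists_eq_add_of_le hle
    obtain ⟨g, hg, hg1, hg2⟩ := h.exists_eq_pow_mul (e := e) hb1 hb2 (by omega) (by omega)
    rw [show o₁ + e - e = o₁ by omega] at hg1
    rw [show n₂ - e = o₂ by omega] at hg2
    have hg0 : g ∈ nonZeroDivisors B := by
      rw [hg] at hb
      exact (mul_mem_nonZeroDivisors.1 hb).2
    refine ⟨g, hg0, h.eq_span_of_ord hj hg0 (hp.trans ?_) h1 h2 hg1 hg2⟩
    rw [hg, mul_comm]
    exact peq_span_mul (n := e) dvd_rfl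
  · obtain ⟨e, rfl⟩ := Nat.exists_eq_add_of_le hle
    have hg0 : π ^ e * b ∈ nonZeroDivisors B := mul_mem (pow_mem h.reg e) hb
    refine ⟨π ^ e * b, hg0, h.eq_span_of_ord hj hg0 (hp.trans ?_) h1 h2 ?_ ?_⟩
    · rw [mul_comm]
      exact (peq_span_mul (n := e) dvd_rfl).symm
    · rw [add_comm]; exact (ord_pow e).mul hb1
    · rw [show o₂ = e + n₂ by omega]; exact (ord_pow e).mul hb2

theorem ord₂_y {l : ℕ} (ha : algebraMap S B a = π ^ l) : Ord P₂ π y l := by
  have hp₂ := h.prime₂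
  exact ⟨x, 1, h.notMem₂, (Ideal.ne_top_iff_one _).1 hp₂.ne_top, by rw [h.mul, ha, one_mul]⟩

theorem ord₁_y : Ord P₁ π y 0 := by
  have hp₁ := h.prime₁
  exact ord_zero_iff.2 h.notMem₁

theorem y_mem_nonZeroDivisors {l : ℕ} (ha : algebraMap S B a = π ^ l) : y ∈ nonZeroDivisors B := by
  have h1 : x * y ∈ nonZeroDivisors B := by rw [h.mul, ha]; exact pow_mem h.reg l
  exact (mul_mem_nonZeroDivisors.1 h1).2

/-- principality from orders balanced modulo the thickness -/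
theorem exists_eq_span_of_zmod [IsNoetherianRing B] {j : Ideal B} (hj : Sat j) {b : B} (hb : b ∈ nonZeroDivisors B)
    (hp : PEq π j (Ideal.span {b})) {o₁ o₂ n₁ n₂ : ℕ} (h1 : OrdI P₁ π j o₁) (h2 : OrdI P₂ π j o₂) (hb1 : Ord P₁ π b n₁)
    (hb2 : Ord P₂ π b n₂) {l : ℕ} (hl : l = 0 ∨ algebraMap S B a = π ^ l)
    (hn : (l : ℤ) ∣ ((n₁ : ℤ) - o₁) - ((n₂ : ℤ) - o₂)) : ∃ g ∈ nonZeroDivisors B, j = Ideal.span {g} := by
  have hp₁ := h.prime₁
  have hp₂ := h.prime₂
  rcases hl with rfl | ha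
  · have h3 : ((n₁ : ℤ) - o₁) - ((n₂ : ℤ) - o₂) = 0 := by simpa using hn
    exact h.exists_eq_span hj hb hp h1 h2 hb1 hb2 (by omega)
  · obtain ⟨m, hm⟩ := hn
    have hyd : ∀ m : ℕ, y ^ m ∣ π ^ (l * m) := by
      intro m
      rw [pow_mul, ← ha, ← h.mul, mul_pow]
      exact dvd_mul_left _ _
    have hxd : ∀ m : ℕ, x ^ m ∣ π ^ (l * m) := by
      intro m
      rw [pow_mul, ← ha, ← h.mul, mul_pow]
      exact dvd_mul_right _ _
    rcases le_total 0 m with h0 | h0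
    · obtain ⟨m, rfl⟩ := Int.eq_ofNat_of_zero_le h0
      have h3 : b * y ^ m ∈ nonZeroDivisors B := mul_mem hb (pow_mem (h.y_mem_nonZeroDivisors ha) m)
      refine h.exists_eq_span hj h3 (hp.trans (peq_span_mul (hyd m)).symm) h1 h2 (n₁ := n₁) (n₂ := n₂ + l * m) ?_ ?_ ?_
      · have := hb1.mul (h.ord₁_y.pow m)
        rwa [zero_mul, add_zero] at this
      · exact hb2.mul ((h.ord₂_y ha).pow m)
      · zify
        linarith
    · obtain ⟨m, rfl⟩ := Int.exists_eq_neg_ofNat h0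
      have ha' : algebraMap S B a = π ^ l := ha
      have h3 : b * x ^ m ∈ nonZeroDivisors B := mul_mem hb (pow_mem (h.symm.y_mem_nonZeroDivisors ha) m)
      refine h.exists_eq_span hj h3 (hp.trans (peq_span_mul (hxd m)).symm) h1 h2 (n₁ := n₁ + l * m) (n₂ := n₂) ?_ ?_ ?_
      · exact hb1.mul ((h.symm.ord₂_y ha).pow m)
      · have := hb2.mul (h.symm.ord₁_y.pow m)
        rwa [zero_mul, add_zero] at this
      · zify
        linarith

end IsNode

end K793.NodeAlg
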