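import Groth.Agent.Models.NodeStep
import Groth.Agent.Models.NodeNodal

/-!
The blow-up of `Spec D[u,v]/(uv - t²c)` at `(u, v, t)` is covered by spectra of `D[u,v]/(uv - c)` and
`D[u,v]/(uv - t)`; `c = 0` is allowed.  The maps on coordinates are recorded.
-/

set_option autoImplicit false
universe u

open BlowUp CategoryTheory AlgebraicGeometry

namespace K793.NodeBlow

open Groth.Agent.Models.NodeRing Groth.Agent.Models.NodeBlow

section Algebra

variable {D : Type u} [CommRing D] {a : D}

/-- The chart of the blow-up where the first coordinate generates. -/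
theorem exists_equiv_coord (t c : D) (ha : a = t ^ 2 * c)
    (hD : IsDomain (W D t)) (ht : t ≠ 0) (x y : W D a) (hxy : IsCoord a x y)
    (I : Ideal (W D a)) (hI : I = Ideal.span {x, y, algebraMap D _ t}) :
    ∃ e : affineAlgebra (W D a) I x ≃+* W D t, (∀ d : D,
      e (algebraMap (W D a) _ (algebraMap D _ d)) = algebraMap D _ d) ∧
      e (algebraMap (W D a) _ x) = uu D t ∧
      e (algebraMap (W D a) _ y) = algebraMap D _ (t * c) * vv D t := by
  have hst := uu_mul_vv D t
  obtain ⟨ψ, hψD, hψx, hψy⟩ := hxy.lift (algebraMap D (W D t)) (uu D t)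
    (algebraMap D _ (t * c) * vv D t) (by
      rw [ha]
      simp only [map_mul, map_pow]
      linear_combination (algebraMap D (W D t) t) * (algebraMap D (W D t) c) * hst)
  have hxI : x ∈ I := by rw [hI]; exact Ideal.subset_span (by simp)
  have htI : algebraMap D (W D a) t ∈ I := by rw [hI]; exact Ideal.subset_span (by simp)
  have hreg : ψ x ∈ nonZeroDivisors (W D t) := by
    rw [hψx]
    exact mem_nonZeroDivisors_of_ne_zero (uu_ne_zero ht)
  have hdiv : ∀ z ∈ I, ∃ s, ψ z = ψ x * s := by
    have hle : I ≤ (Ideal.span {ψ x}).comap ψ := by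
      rw [hI, Ideal.span_le]
      rintro z (rfl | rfl | rfl)
      · exact Ideal.mem_span_singleton_self _
      · rw [SetLike.mem_coe, Ideal.mem_comap, Ideal.mem_span_singleton, hψy, hψx]
        refine ⟨(algebraMap D (W D t) c) * vv D t ^ 2, ?_⟩
        rw [map_mul]
        linear_combination -(algebraMap D (W D t) c) * vv D t * hst
      · rw [SetLike.mem_coe, Ideal.mem_comap, Ideal.mem_span_singleton, hψD, hψx]
        exact ⟨vv D t, hst.symm⟩
    intro z hz
    exact Ideal.mem_span_singleton.1 (hle hz)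
  obtain ⟨θ, hθ⟩ := Groth.Agent.Divis.BlowAlg.exists_hom I x ψ hreg hdiv
  have hθ' : ∀ z, θ (algebraMap (W D a) _ z) = ψ z := fun z => congr($hθ z)
  have hregA := Groth.Agent.Divis.BlowAlg.algebraMap_mem_nonZeroDivisors I x
  -- the inverse
  obtain ⟨s, hs⟩ : ∃ s : affineAlgebra (W D a) I x, algebraMap (W D a) _ (algebraMap D _ t) =
      algebraMap (W D a) _ x * s := by
    have := Ideal.mem_map_of_mem (algebraMap (W D a) (affineAlgebra (W D a) I x)) htI
    rw [Groth.Agent.Divis.BlowAlg.map_eq_span I x hxI] at this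
    exact Ideal.mem_span_singleton.1 this
  let η : W D t →+* affineAlgebra (W D a) I x :=
    Groth.Agent.Models.NodeRing.lift ((algebraMap (W D a) _).comp (algebraMap D (W D a))) (algebraMap _ _ x) s hs.symm
  have hηD : ∀ d, η (algebraMap D _ d) = algebraMap (W D a) _ (algebraMap D _ d) := by
    intro d; simp [η]
  have hηu : η (uu D t) = algebraMap (W D a) _ x := by simp [η]
  have hηv : η (vv D t) = s := by simp [η]
  have h1 : θ.comp η = RingHom.id _ := by
    apply hom_ext
    · intro d
      rw [RingHom.comp_apply, hηD, hθ', hψD, RingHom.id_apply]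
    · rw [RingHom.comp_apply, hηu, hθ', hψx, RingHom.id_apply]
    · rw [RingHom.comp_apply, hηv, RingHom.id_apply]
      have h2 : θ (algebraMap (W D a) _ (algebraMap D _ t)) = θ (algebraMap (W D a) _ x * s) :=
        congrArg θ hs
      rw [map_mul, hθ', hθ', hψD, hψx, ← hst] at h2
      exact (mul_left_cancel₀ (uu_ne_zero ht) h2).symm
  have h2 : η.comp θ = RingHom.id _ := by
    apply Groth.Agent.Divis.BlowAlg.hom_ext I x
    · apply hxy.ext
      · intro d
        simp only [RingHom.comp_apply, RingHom.id_apply]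
        rw [hθ', hψD, hηD]
      · simp only [RingHom.comp_apply, RingHom.id_apply]
        rw [hθ', hψx, hηu]
      · simp only [RingHom.comp_apply, RingHom.id_apply]
        rw [hθ', hψy, map_mul, hηD, hηv]
        have h3 : algebraMap (W D a) (affineAlgebra (W D a) I x) (x * y) =
            algebraMap (W D a) _ (algebraMap D _ (t ^ 2 * c)) := by
          rw [hxy.mul_eq]
          exact congrArg _ (congrArg _ ha)
        rw [map_mul] at h3
        refine (mul_cancel_left_mem_nonZeroDivisors hregA).1 ?_
        rw [h3]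
        simp only [map_pow, map_mul]
        linear_combination -(algebraMap (W D a) (affineAlgebra (W D a) I x)
          (algebraMap D (W D a) t)) * (algebraMap (W D a) (affineAlgebra (W D a) I x)
          (algebraMap D (W D a) c)) * hs
    · change η (θ (algebraMap (W D a) _ x)) ∈ _
      rw [hθ', hψx, hηu]
      exact hregA
  refine ⟨RingEquiv.ofRingHom θ η h1 h2, fun d => ?_, ?_, ?_⟩
  · change θ _ = _
    rw [hθ', hψD]
  · change θ _ = _
    rw [hθ', hψx]
  · change θ _ = _
    rw [hθ', hψy]

/-- The chart of the blow-up where `t` generates. -/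
theorem exists_equiv_t (t c : D) (ha : a = t ^ 2 * c) (hreg0 : ∀ b : D,
      algebraMap D (W D b) t ∈ nonZeroDivisors (W D b))
    (I : Ideal (W D a)) (hI : I = Ideal.span {uu D a, vv D a, algebraMap D _ t}) :
    ∃ e : affineAlgebra (W D a) I (algebraMap D _ t) ≃+* W D c, (∀ d : D,
      e (algebraMap (W D a) _ (algebraMap D _ d)) = algebraMap D _ d) ∧
      e (algebraMap (W D a) _ (uu D a)) = algebraMap D _ t * uu D c ∧
      e (algebraMap (W D a) _ (vv D a)) = algebraMap D _ t * vv D c := by
  have hst := uu_mul_vv D c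
  let x : W D a := algebraMap D _ t
  let ψ : W D a →+* W D c := Groth.Agent.Models.NodeRing.lift (algebraMap D _)
    (algebraMap D _ t * uu D c) (algebraMap D _ t * vv D c) (by
      rw [ha]
      simp only [map_mul, map_pow]
      linear_combination (algebraMap D (W D c) t) ^ 2 * hst)
  have hψD : ∀ d, ψ (algebraMap D _ d) = algebraMap D _ d := by intro d; simp [ψ]
  have hψu : ψ (uu D a) = algebraMap D _ t * uu D c := by simp [ψ]
  have hψv : ψ (vv D a) = algebraMap D _ t * vv D c := by simp [ψ]
  have hxI : x ∈ I := by rw [hI]; exact Ideal.subset_span (by simp [x])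
  have huI : uu D a ∈ I := by rw [hI]; exact Ideal.subset_span (by simp)
  have hvI : vv D a ∈ I := by rw [hI]; exact Ideal.subset_span (by simp)
  have hreg : ψ x ∈ nonZeroDivisors (W D c) := by
    rw [hψD]
    exact hreg0 c
  have hdiv : ∀ z ∈ I, ∃ s, ψ z = ψ x * s := by
    have hle : I ≤ (Ideal.span {ψ x}).comap ψ := by
      rw [hI, Ideal.span_le]
      rintro z (rfl | rfl | rfl)
      · rw [SetLike.mem_coe, Ideal.mem_comap, Ideal.mem_span_singleton, hψu, hψD]
        exact dvd_mul_right _ _
      · rw [SetLike.mem_coe, Ideal.mem_comap, Ideal.mem_span_singleton, hψv, hψD]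
        exact dvd_mul_right _ _
      · exact Ideal.mem_span_singleton_self _
    intro z hz
    exact Ideal.mem_span_singleton.1 (hle hz)
  obtain ⟨θ, hθ⟩ := Groth.Agent.Divis.BlowAlg.exists_hom I x ψ hreg hdiv
  have hθ' : ∀ z, θ (algebraMap (W D a) _ z) = ψ z := fun z => congr($hθ z)
  have hregA := Groth.Agent.Divis.BlowAlg.algebraMap_mem_nonZeroDivisors I x
  have hex : ∀ z ∈ I, ∃ s : affineAlgebra (W D a) I x, algebraMap (W D a) _ z =
      algebraMap (W D a) _ x * s := by
    intro z hz
    have := Ideal.mem_map_of_mem (algebraMap (W D a) (affineAlgebra (W D a) I x)) hz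
    rw [Groth.Agent.Divis.BlowAlg.map_eq_span I x hxI] at this
    exact Ideal.mem_span_singleton.1 this
  obtain ⟨r, hr⟩ := hex _ huI
  obtain ⟨s, hs⟩ := hex _ hvI
  have hrs : r * s = algebraMap (W D a) _ (algebraMap D (W D a) c) := by
    have h3 : algebraMap (W D a) (affineAlgebra (W D a) I x) (uu D a * vv D a) =
        algebraMap (W D a) _ (algebraMap D _ (t ^ 2 * c)) := by
      rw [uu_mul_vv]
      exact congrArg _ (congrArg _ ha)
    rw [map_mul, hr, hs] at h3
    refine (mul_cancel_left_mem_nonZeroDivisors (mul_mem hregA hregA)).1 ?_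
    simp only [map_pow, map_mul] at h3 ⊢
    linear_combination h3
  let η : W D c →+* affineAlgebra (W D a) I x :=
    Groth.Agent.Models.NodeRing.lift ((algebraMap (W D a) _).comp (algebraMap D (W D a))) r s hrs
  have hηD : ∀ d, η (algebraMap D _ d) = algebraMap (W D a) _ (algebraMap D _ d) := by
    intro d; simp [η]
  have hηu : η (uu D c) = r := by simp [η]
  have hηv : η (vv D c) = s := by simp [η]
  have h1 : θ.comp η = RingHom.id _ := by
    apply hom_ext
    · intro d
      rw [RingHom.comp_apply, hηD, hθ', hψD, RingHom.id_apply]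
    · rw [RingHom.comp_apply, hηu, RingHom.id_apply]
      have h2 := congrArg θ hr
      rw [map_mul, hθ', hθ', hψu, hψD] at h2
      exact ((mul_cancel_left_mem_nonZeroDivisors (hreg0 c)).1 h2).symm
    · rw [RingHom.comp_apply, hηv, RingHom.id_apply]
      have h2 := congrArg θ hs
      rw [map_mul, hθ', hθ', hψv, hψD] at h2
      exact ((mul_cancel_left_mem_nonZeroDivisors (hreg0 c)).1 h2).symm
  have h2 : η.comp θ = RingHom.id _ := by
    apply Groth.Agent.Divis.BlowAlg.hom_ext I x
    · apply hom_ext
      · intro d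
        simp only [RingHom.comp_apply, RingHom.id_apply]
        rw [hθ', hψD, hηD]
      · simp only [RingHom.comp_apply, RingHom.id_apply]
        rw [hθ', hψu, map_mul, hηu, hηD, hr]
      · simp only [RingHom.comp_apply, RingHom.id_apply]
        rw [hθ', hψv, map_mul, hηv, hηD, hs]
    · change η (θ (algebraMap (W D a) _ x)) ∈ _
      rw [hθ', hψD, hηD]
      exact hregA
  refine ⟨RingEquiv.ofRingHom θ η h1 h2, fun d => ?_, ?_, ?_⟩
  · change θ _ = _
    rw [hθ', hψD]
  · change θ _ = _
    rw [hθ', hψu]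
  · change θ _ = _
    rw [hθ', hψv]

end Algebra

section Geometry

open Groth.Agent.Divis.BlowChart Groth.Agent.Divis.IdealComap

theorem algebraMap_mem_nonZeroDivisors {D : Type u} [CommRing D] [IsDomain D] {t : D} (ht : t ≠ 0) (b : D) :
    algebraMap D (W D b) t ∈ nonZeroDivisors (W D b) := by
  have h4 : IsSMulRegular D t := by
    rw [isSMulRegular_iff_right_eq_zero_of_smul]
    intro y hy
    exact (mul_eq_zero.mp hy).resolve_left ht
  have h5 : IsSMulRegular (W D b) (algebraMap D (W D b) t) := h4.of_flat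
  rw [isSMulRegular_iff_right_eq_zero_of_smul] at h5
  rw [mem_nonZeroDivisors_iff_right]
  intro s hs
  exact h5 s (by rw [smul_eq_mul, mul_comm]; exact hs)

/-- The possible shapes of a chart map `W D a → W D c'` of the blow-up of `uv = a = t²c` at the origin. -/
inductive ChartMap {D : Type u} [CommRing D] (t c a c' : D) (ψ : W D a →+* W D c') : Prop
  | u (h : c' = t) (hu : ψ (uu D a) = uu D c') (hv : ψ (vv D a) = algebraMap D _ (t * c) * vv D c')
  | v (h : c' = t) (hv : ψ (vv D a) = uu D c') (hu : ψ (uu D a) = algebraMap D _ (t * c) * vv D c')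
  | t (h : c' = c) (hu : ψ (uu D a) = algebraMap D _ t * uu D c') (hv : ψ (vv D a) = algebraMap D _ t * vv D c')

/-- Charts of the blow-up of `Spec D[u,v]/(uv - t²c)` at the origin. -/
theorem exists_chart {D : Type u} [CommRing D] [IsDomain D] [IsDiscreteValuationRing D] (t : D)
    (ht : Irreducible t) {a : D} (c : D) (ha : a = t ^ 2 * c) {X' : Scheme.{u}}
    (b : X' ⟶ Spec (CommRingCat.of (W D a)))
    (hb : IsBlowUp b (idl (Ideal.span {uu D a, vv D a, algebraMap D _ t}))) (x' : X') :
    ∃ (V : X'.Opens) (c' : D) (ψ : W D a →+* W D c') (e : V.toScheme ≅ Spec (CommRingCat.of (W D c'))),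
      x' ∈ V ∧ e.hom ≫ Spec.map (CommRingCat.ofHom ψ) = V.ι ≫ b ∧ (∀ d, ψ (algebraMap D _ d) = algebraMap D _ d) ∧
      ChartMap t c a c' ψ := by
  set I : Ideal (W D a) := Ideal.span {uu D a, vv D a, algebraMap D _ t} with hI
  have huI : uu D a ∈ I := by rw [hI]; exact Ideal.subset_span (by simp)
  have hvI : vv D a ∈ I := by rw [hI]; exact Ideal.subset_span (by simp)
  have htI : algebraMap D _ t ∈ I := by rw [hI]; exact Ideal.subset_span (by simp)
  -- a chart given by a ring isomorphism
  have key : ∀ (z : W D a) (_ : z ∈ I) (_ : x' ∈ chartLocus I b z) (c' : D)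
      (e : affineAlgebra (W D a) I z ≃+* W D c')
      (_ : ChartMap t c a c' (e.toRingHom.comp (algebraMap (W D a) (affineAlgebra (W D a) I z))))
      (_ : ∀ d : D, e (algebraMap (W D a) _ (algebraMap D _ d)) = algebraMap D _ d),
      ∃ (V : X'.Opens) (c' : D) (ψ : W D a →+* W D c') (e : V.toScheme ≅ Spec (CommRingCat.of (W D c'))),
      x' ∈ V ∧ e.hom ≫ Spec.map (CommRingCat.ofHom ψ) = V.ι ≫ b ∧ (∀ d, ψ (algebraMap D _ d) = algebraMap D _ d) ∧
      ChartMap t c a c' ψ := by
    intro z hz hx c' e hψ he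
    obtain ⟨e', he'⟩ := exists_iso I b hb hz
    refine ⟨chartLocus I b z, c', _, e' ≪≫ (Scheme.Spec.mapIso e.toCommRingCatIso.symm.op), hx, ?_, he, hψ⟩
    rw [← he']
    simp only [Iso.trans_hom, Category.assoc]
    congr 1
    have h1 : (Scheme.Spec.mapIso e.toCommRingCatIso.symm.op).hom =
        Spec.map (CommRingCat.ofHom (e.symm : W D c' →+* _)) := rfl
    rw [h1, ← Spec.map_comp]
    have h2 : chartMap I z = Spec.map (CommRingCat.ofHom (algebraMap (W D a) (affineAlgebra (W D a) I z))) := rfl
    rw [h2]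
    congr 1
    rw [← CommRingCat.ofHom_comp]
    congr 1
    ext d
    · simp
    · simp
  obtain ⟨z, hz, hx⟩ := exists_mem_chartLocus_of_span I b _ hI hb.1 x'
  rcases hz with rfl | rfl | hz
  · obtain ⟨e, he, h1, h2⟩ := exists_equiv_coord t c ha (isDomain D _ ht.ne_zero) ht.ne_zero _ _
      isCoord_uv I hI
    exact key _ huI hx t e (ChartMap.u rfl h1 h2) he
  · obtain ⟨e, he, h1, h2⟩ := exists_equiv_coord t c ha (isDomain D _ ht.ne_zero) ht.ne_zero _ _
      isCoord_vu I (by rw [hI, Set.insert_comm])
    exact key _ hvI hx t e (ChartMap.v rfl h1 h2) he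
  · obtain rfl : z = algebraMap D _ t := hz
    obtain ⟨e, he, h1, h2⟩ := exists_equiv_t t c ha (algebraMap_mem_nonZeroDivisors ht.ne_zero) I hI
    exact key _ htI hx c e (ChartMap.t rfl h1 h2) he

end Geometry

end K793.NodeBlow
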