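import Groth.Agent.SemiFact.K793.NodeMin
import Groth.Agent.Ega4A.CplSurj
import Groth.Agent.CurvesB.CplMap
import Groth.Agent.CalgB.MilFlat
import Groth.Prelude.Def_CurvBase

/-!
# Deformations of the split node: a flat local algebra over a discrete valuation ring whose fibre is a split node
-/

set_option autoImplicit false
universe u

open IsLocalRing

namespace K793.NodeDef

open K793.NodeAlg K793.NodeSer K793.NodeDesc K793.NodeMin K793.NodeThick K934.SerNode

/-- the local ring of a pair of crossing lines -/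
structure IsCross (K : Type u) {Q : Type u} [Field K] [CommRing Q] [IsLocalRing Q] [Algebra K Q] (u v : Q) : Prop where
  mul : u * v = 0
  max : maximalIdeal Q = Ideal.span {u, v}
  surj : ∀ q : Q, ∃ c : K, q - algebraMap K Q c ∈ maximalIdeal Q
  prime₁ : (Ideal.span {u}).IsPrime
  prime₂ : (Ideal.span {v}).IsPrime
  notMem₁ : v ∉ Ideal.span {u}
  notMem₂ : u ∉ Ideal.span {v}
  inf : Ideal.span {u} ⊓ Ideal.span {v} ≤ ⊥

theorem isCross_NN (K : Type u) [Field K] [IsLocalRing (NN (0 : K))] : IsCross K (xx (0 : K) 0) (xx (0 : K) 1) := by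
  have hfg : (⊥ : Ideal K).FG := ⟨∅, by simp⟩
  have h0 : (0 : K) ∈ (⊥ : Ideal K) := Ideal.zero_mem _
  have hP : ∀ {i j : Fin 2}, i ≠ j → Ideal.span {xx (0 : K) j} = RingHom.ker (nax (0 : K) ⊥ h0 i) := by
    intro i j hij
    rw [ker_nax (0 : K) _ hfg h0 hij, Ideal.map_bot, bot_sup_eq]
  have hpr : ∀ i : Fin 2, (RingHom.ker (nax (0 : K) ⊥ h0 i)).IsPrime := fun i => by
    have hb : (⊥ : Ideal K).IsPrime := Ideal.isPrime_bot
    have : IsDomain (K ⧸ (⊥ : Ideal K)) := Ideal.Quotient.isDomain _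
    exact RingHom.ker_isPrime _
  have h01 : Ideal.span {xx (0 : K) 0} = RingHom.ker (nax (0 : K) ⊥ h0 1) := hP (by decide)
  have h10 : Ideal.span {xx (0 : K) 1} = RingHom.ker (nax (0 : K) ⊥ h0 0) := hP (by decide)
  have hnm : ∀ i : Fin 2, xx (0 : K) i ∉ RingHom.ker (nax (0 : K) ⊥ h0 i) := by
    intro i h
    rw [RingHom.mem_ker, nax_mk, axI_X_self] at h
    have : Nontrivial (K ⧸ (⊥ : Ideal K)) := Ideal.Quotient.nontrivial_iff.2 (Ideal.isPrime_bot.ne_top)
    exact PowerSeries.X_ne_zero h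
  have hle : Ideal.span {xx (0 : K) 0, xx (0 : K) 1} ≤ maximalIdeal (NN (0 : K)) := by
    rw [Ideal.span_le]
    have h0 := IsLocalRing.le_maximalIdeal (h01 ▸ (hpr 1).ne_top : Ideal.span {xx (0 : K) 0} ≠ ⊤)
    have h1 := IsLocalRing.le_maximalIdeal (h10 ▸ (hpr 0).ne_top : Ideal.span {xx (0 : K) 1} ≠ ⊤)
    rintro z (rfl | rfl)
    · exact h0 (Ideal.subset_span (by simp))
    · exact h1 (Ideal.subset_span (by simp))
  have hdec : ∀ F : S2 K, Ideal.Quotient.mk (srel (0 : K)) F - algebraMap K (NN (0 : K)) (MvPowerSeries.constantCoeff F) ∈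
      Ideal.span {xx (0 : K) 0, xx (0 : K) 1} := by
    intro F
    have h2 : F - MvPowerSeries.C (MvPowerSeries.constantCoeff F) ∈ Groth.Agent.Ega41.MvPS.varIdeal (Fin 2) K := by
      rw [Groth.Agent.Ega41.MvPS.mem_varIdeal_iff]
      simp
    have h3 : Groth.Agent.Ega41.MvPS.varIdeal (Fin 2) K = Ideal.span {MvPowerSeries.X 0, MvPowerSeries.X 1} := by
      unfold Groth.Agent.Ega41.MvPS.varIdeal
      congr 1
      ext z
      simp only [Set.mem_range, Set.mem_insert_iff, Set.mem_singleton_iff, Fin.exists_fin_two]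
      tauto
    rw [h3] at h2
    have h4 := Ideal.mem_map_of_mem (Ideal.Quotient.mk (srel (0 : K))) h2
    rw [Ideal.map_span, Set.image_insert_eq, Set.image_singleton, map_sub] at h4
    exact h4
  refine ⟨?_, ?_, ?_, ?_, ?_, ?_, ?_, ?_⟩
  · rw [xx_mul, map_zero]
  · refine le_antisymm ?_ hle
    intro b hb
    obtain ⟨F, rfl⟩ := Ideal.Quotient.mk_surjective b
    have h1 : MvPowerSeries.constantCoeff F = 0 := by
      by_contra hne
      exact hb ((MvPowerSeries.isUnit_iff_constantCoeff.2 (IsUnit.mk0 _ hne)).map (Ideal.Quotient.mk (srel (0 : K))))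
    have h2 := hdec F
    rw [h1, map_zero, sub_zero] at h2
    exact h2
  · intro b
    obtain ⟨F, rfl⟩ := Ideal.Quotient.mk_surjective b
    exact ⟨MvPowerSeries.constantCoeff F, hle (hdec F)⟩
  · rw [h01]; exact hpr 1
  · rw [h10]; exact hpr 0
  · rw [h01]; exact hnm 1
  · rw [h10]; exact hnm 0
  · rw [h01, h10]
    rintro z ⟨hz1, hz0⟩
    obtain ⟨F, rfl⟩ := Ideal.Quotient.mk_surjective z
    have h2 := axI_inf _ hfg (F := F) hz0 hz1
    rw [Ideal.map_bot, bot_sup_eq] at h2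
    obtain ⟨G, rfl⟩ := Ideal.mem_span_singleton'.1 h2
    rw [Ideal.mem_bot, map_mul, map_mul]
    have h3 : Ideal.Quotient.mk (srel (0 : K)) (MvPowerSeries.X 0) * Ideal.Quotient.mk (srel (0 : K)) (MvPowerSeries.X 1) = 0 := by
      have := xx_mul (0 : K)
      rw [map_zero] at this
      exact this
    rw [h3, mul_zero]

theorem isCross_of_ringEquiv {K Q Q' : Type u} [Field K] [CommRing Q] [CommRing Q'] [IsLocalRing Q] [IsLocalRing Q'] [Algebra K Q]
    [Algebra K Q'] (e : Q ≃+* Q') (he : ∀ s, e (algebraMap K Q s) = algebraMap K Q' s) {x y : Q}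
    (h : IsCross K x y) : IsCross K (e x) (e y) := by
  have hmap : ∀ I : Ideal Q, I.map (e : Q →+* Q') = I.comap (e.symm : Q' →+* Q) := fun I => by
    ext z
    constructor
    · intro hz
      rw [Ideal.mem_map_iff_of_surjective (e : Q →+* Q') e.surjective] at hz
      obtain ⟨w, hw, rfl⟩ := hz
      change e.symm (e w) ∈ I
      rwa [e.symm_apply_apply]
    · intro hz
      have : z = (e : Q →+* Q') (e.symm z) := (e.apply_symm_apply z).symm
      rw [this]
      exact Ideal.mem_map_of_mem _ hz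
  have hs : ∀ x : Q, Ideal.span {e x} = (Ideal.span {x}).map (e : Q →+* Q') := by
    intro x
    rw [Ideal.map_span, Set.image_singleton]
    rfl
  have hmem : ∀ (I : Ideal Q) (z : Q), e z ∈ I.map (e : Q →+* Q') ↔ z ∈ I := by
    intro I z
    rw [hmap, Ideal.mem_comap]
    change e.symm (e z) ∈ I ↔ _
    rw [e.symm_apply_apply]
  have hpr : ∀ (I : Ideal Q), I.IsPrime → (I.map (e : Q →+* Q')).IsPrime := by
    intro I hI
    rw [hmap]
    exact hI.comap _
  have hmax : ∀ z : Q, e z ∈ maximalIdeal Q' ↔ z ∈ maximalIdeal Q := by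
    intro z
    rw [IsLocalRing.mem_maximalIdeal, IsLocalRing.mem_maximalIdeal, mem_nonunits_iff, mem_nonunits_iff,
      MulEquiv.isUnit_map e]
  refine ⟨?_, ?_, ?_, ?_, ?_, ?_, ?_, ?_⟩
  · rw [← map_mul, h.mul, map_zero]
  · ext z
    obtain ⟨w, rfl⟩ := e.surjective z
    have : Ideal.span {e x, e y} = (Ideal.span {x, y}).map (e : Q →+* Q') := by
      rw [Ideal.map_span, Set.image_insert_eq, Set.image_singleton]
      rfl
    rw [hmax, this, hmem, h.max]
  · intro b
    obtain ⟨w, rfl⟩ := e.surjective b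
    obtain ⟨s, hs⟩ := h.surj w
    exact ⟨s, by rw [← he, ← map_sub, hmax]; exact hs⟩
  · rw [hs]; exact hpr _ h.prime₁
  · rw [hs]; exact hpr _ h.prime₂
  · rw [hs, hmem]; exact h.notMem₁
  · rw [hs, hmem]; exact h.notMem₂
  · intro z hz
    obtain ⟨w, rfl⟩ := e.surjective z
    rw [Ideal.mem_inf, hs, hs, hmem, hmem] at hz
    have h1 := h.inf ⟨hz.1, hz.2⟩
    rw [Ideal.mem_bot] at h1 ⊢
    rw [h1, map_zero]

/-- the completed local ring of a split node is a cross -/
theorem exists_isCross (K A : Type u) [Field K] [CommRing A] [Algebra K A] [IsLocalRing A] [IsNoetherianRing A] (h : Curv2.IsOrdDoublePt K A) :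
    ∃ u v : Curv2.cpl A, ∀ (alg : Algebra K (Curv2.cpl A)) (_ : ∀ c, @algebraMap K (Curv2.cpl A) _ _ alg c =
      algebraMap A (Curv2.cpl A) (algebraMap K A c)), @IsCross K (Curv2.cpl A) _ _ _ alg u v := by
  obtain ⟨e, he⟩ := h
  have hsrel : Ideal.span {(MvPowerSeries.X 0 * MvPowerSeries.X 1 : MvPowerSeries (Fin 2) K)} = srel (0 : K) := by
    rw [srel_eq, map_zero, sub_zero]
  let e2 : (MvPowerSeries (Fin 2) K ⧸ Ideal.span {(MvPowerSeries.X 0 * MvPowerSeries.X 1 : MvPowerSeries (Fin 2) K)}) ≃+* NN (0 : K) :=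
    Ideal.quotEquivOfEq hsrel
  let e3 : NN (0 : K) ≃+* Curv2.cpl A := (e.trans e2).symm
  have hloc : IsLocalRing (NN (0 : K)) := e3.symm.isLocalRing
  refine ⟨e3 (xx 0 0), e3 (xx 0 1), fun alg halg => ?_⟩
  refine isCross_of_ringEquiv e3 (fun s => ?_) (isCross_NN K)
  rw [halg, RingEquiv.symm_apply_eq]
  change _ = e2 (e (algebraMap A (Curv2.cpl A) (algebraMap K A s)))
  rw [he]
  rfl

section Lift

variable {S B Q K : Type u} [CommRing S] [CommRing B] [IsLocalRing B] [Algebra S B] [CommRing Q] [IsLocalRing Q]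
  [Field K] [Algebra K Q] (ρ : B →+* Q) (hρ : Function.Surjective ρ) {ϖ : S}
  (hker : RingHom.ker ρ = Ideal.span {algebraMap S B ϖ}) {u v : Q} (hc : IsCross K u v)
  (hS : ∀ c : K, ∃ s : S, ρ (algebraMap S B s) = algebraMap K Q c)

include hρ hker hc hS

theorem isNode_of_cross {x y : B} (hx : ρ x = u) (hy : ρ y = v) {a : S} (hxy : x * y = algebraMap S B a)
    (hreg : algebraMap S B ϖ ∈ nonZeroDivisors B) : IsNode ϖ x y a := by
  have hπ : ρ (algebraMap S B ϖ) = 0 := by
    rw [← RingHom.mem_ker, hker]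
    exact Ideal.mem_span_singleton_self _
  have hcomap : ∀ x : B, Ideal.span {x, algebraMap S B ϖ} = (Ideal.span {ρ x}).comap ρ := by
    intro x
    ext z
    constructor
    · intro hz
      obtain ⟨α, β, rfl⟩ := Ideal.mem_span_pair.1 hz
      rw [Ideal.mem_comap, map_add, map_mul, map_mul, hπ, mul_zero, add_zero]
      exact Ideal.mul_mem_left _ _ (Ideal.mem_span_singleton_self _)
    · intro hz
      obtain ⟨w, hw⟩ := Ideal.mem_span_singleton'.1 (Ideal.mem_comap.1 hz)
      obtain ⟨w, rfl⟩ := hρ w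
      have h1 : z - w * x ∈ RingHom.ker ρ := by
        rw [RingHom.mem_ker, map_sub, map_mul, hw, sub_self]
      rw [hker] at h1
      obtain ⟨t, ht⟩ := Ideal.mem_span_singleton'.1 h1
      exact Ideal.mem_span_pair.2 ⟨w, t, by rw [ht]; ring⟩
  have hloc : IsLocalHom ρ := IsLocalHom.of_surjective ρ hρ
  have hmaxc : ∀ z : B, z ∈ maximalIdeal B ↔ ρ z ∈ maximalIdeal Q := by
    intro z
    rw [IsLocalRing.mem_maximalIdeal, IsLocalRing.mem_maximalIdeal, mem_nonunits_iff, mem_nonunits_iff, not_iff_not]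
    exact ⟨fun h => h.map ρ, fun h => isUnit_of_map_unit ρ z h⟩
  refine ⟨hxy, hreg, ?_, ?_, ?_, ?_, ?_, ?_, ?_⟩
  · ext z
    rw [hmaxc, hc.max]
    constructor
    · intro hz
      obtain ⟨α, β, h1⟩ := Ideal.mem_span_pair.1 hz
      obtain ⟨α, rfl⟩ := hρ α
      obtain ⟨β, rfl⟩ := hρ β
      have h2 : z - (α * x + β * y) ∈ RingHom.ker ρ := by
        rw [RingHom.mem_ker, map_sub, map_add, map_mul, map_mul, hx, hy, h1, sub_self]
      rw [hker] at h2
      have h3 : z = α * x + β * y + (z - (α * x + β * y)) := by ring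
      rw [h3]
      refine add_mem (add_mem (Ideal.mul_mem_left _ _ (Ideal.subset_span (by simp))) (Ideal.mul_mem_left _ _ (Ideal.subset_span (by simp))))
        (Ideal.span_mono (by simp) h2)
    · intro hz
      have h1 := Ideal.mem_map_of_mem ρ hz
      rw [Ideal.map_span, Set.image_insert_eq, Set.image_insert_eq, Set.image_singleton, hx, hy, hπ] at h1
      refine (Ideal.span_le.2 ?_ : Ideal.span {u, v, 0} ≤ _) h1
      rintro w (rfl | rfl | rfl)
      · exact Ideal.subset_span (by simp)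
      · exact Ideal.subset_span (by simp)
      · exact Ideal.zero_mem _
  · intro b
    obtain ⟨c, hcb⟩ := hc.surj (ρ b)
    obtain ⟨s, hs⟩ := hS c
    exact ⟨s, by rw [hmaxc, map_sub, hs]; exact hcb⟩
  · rw [hcomap, hx]; have := hc.prime₁; exact this.comap ρ
  · rw [hcomap, hy]; have := hc.prime₂; exact this.comap ρ
  · rw [hcomap, hx, Ideal.mem_comap, hy]; exact hc.notMem₁
  · rw [hcomap, hy, Ideal.mem_comap, hx]; exact hc.notMem₂
  · rw [hcomap, hcomap, ← Ideal.comap_inf, hx, hy]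
    intro z hz
    have h1 := hc.inf hz
    rw [Ideal.mem_bot, ← RingHom.mem_ker, hker] at h1
    exact h1

/-- **Lifting the equation of the cross.** -/
theorem exists_lift [IsNoetherianRing B] [IsNoetherianRing Q] [IsAdicComplete (maximalIdeal B) B] [IsAdicComplete (Ideal.span {ϖ}) S]
    (hϖ : algebraMap S B ϖ ∈ maximalIdeal B) :
    ∃ (x y : B) (a : S), ρ x = u ∧ ρ y = v ∧ x * y = algebraMap S B a := by
  have hπ : ρ (algebraMap S B ϖ) = 0 := by
    rw [← RingHom.mem_ker, hker]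
    exact Ideal.mem_span_singleton_self _
  let P : ℕ → B × B × S → Prop := fun n t => ρ t.1 = u ∧ ρ t.2.1 = v ∧
    t.1 * t.2.1 - algebraMap S B t.2.2 ∈ Ideal.span {algebraMap S B ϖ ^ (n + 1)}
  let Rl : ℕ → B × B × S → B × B × S → Prop := fun n t t' => t'.1 - t.1 ∈ Ideal.span {algebraMap S B ϖ ^ (n + 1)} ∧
    t'.2.1 - t.2.1 ∈ Ideal.span {algebraMap S B ϖ ^ (n + 1)} ∧ t'.2.2 - t.2.2 ∈ Ideal.span {ϖ ^ (n + 1)}
  have h0 : ∃ t, P 0 t := by
    obtain ⟨x, hx⟩ := hρ u
    obtain ⟨y, hy⟩ := hρ v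
    refine ⟨(x, y, 0), hx, hy, ?_⟩
    have h1 : x * y ∈ RingHom.ker ρ := by rw [RingHom.mem_ker, map_mul, hx, hy, hc.mul]
    rw [hker] at h1
    simpa using h1
  have hstep : ∀ n t, P n t → ∃ t', P (n + 1) t' ∧ Rl n t t' := by
    rintro n ⟨x, y, a⟩ ⟨hx, hy, hxy⟩
    simp only at hx hy hxy
    obtain ⟨r, hr⟩ := Ideal.mem_span_singleton'.1 hxy
    obtain ⟨c, hcr⟩ := hc.surj (ρ r)
    obtain ⟨s, hs⟩ := hS c
    rw [hc.max] at hcr
    obtain ⟨α, β, h1⟩ := Ideal.mem_span_pair.1 hcr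
    obtain ⟨α, rfl⟩ := hρ α
    obtain ⟨β, rfl⟩ := hρ β
    have h2 : r - algebraMap S B s - (α * x + β * y) ∈ RingHom.ker ρ := by
      rw [RingHom.mem_ker, map_sub, map_sub, map_add, map_mul, map_mul, hx, hy, h1, hs]
      ring
    rw [hker] at h2
    obtain ⟨r', hr'⟩ := Ideal.mem_span_singleton'.1 h2
    refine ⟨(x - algebraMap S B ϖ ^ (n + 1) * β, y - algebraMap S B ϖ ^ (n + 1) * α, a + ϖ ^ (n + 1) * s), ⟨?_, ?_, ?_⟩, ?_, ?_, ?_⟩
    · simp only
      rw [map_sub, map_mul, map_pow, hπ, pow_succ, mul_zero, zero_mul, sub_zero, hx]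
    · simp only
      rw [map_sub, map_mul, map_pow, hπ, pow_succ, mul_zero, zero_mul, sub_zero, hy]
    · simp only
      rw [map_add, map_mul, map_pow]
      refine Ideal.mem_span_singleton'.2 ⟨r' + algebraMap S B ϖ ^ n * (α * β), ?_⟩
      have h3 : r = algebraMap S B s + (α * x + β * y) + r' * algebraMap S B ϖ := by linear_combination -hr'
      have h4 : x * y = algebraMap S B a + r * algebraMap S B ϖ ^ (n + 1) := by linear_combination -hr
      rw [h3] at h4
      linear_combination -h4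
    · simp only
      refine Ideal.mem_span_singleton'.2 ⟨-β, by ring⟩
    · simp only
      refine Ideal.mem_span_singleton'.2 ⟨-α, by ring⟩
    · simp only
      refine Ideal.mem_span_singleton'.2 ⟨s, by ring⟩
  choose! g hg1 hg2 using hstep
  obtain ⟨t₀, ht₀⟩ := h0
  let t : ℕ → B × B × S := fun n => Nat.rec t₀ (fun n s => g n s) n
  have htP : ∀ n, P n (t n) := by
    intro n
    induction n with
    | zero => exact ht₀
    | succ n ih => exact hg1 n _ ih
  have htR : ∀ n, Rl n (t n) (t (n + 1)) := fun n => hg2 n _ (htP n)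
  have hpow : ∀ n, Ideal.span {algebraMap S B ϖ ^ (n + 1)} ≤ maximalIdeal B ^ n := by
    intro n
    rw [Ideal.span_singleton_le_iff_mem]
    exact Ideal.pow_le_pow_right (Nat.le_succ n) (Ideal.pow_mem_pow hϖ _)
  have hcau : ∀ {M : Type u} [AddCommGroup M] (f : ℕ → M) (N : ℕ → AddSubgroup M) (_ : Antitone N)
      (_ : ∀ n, f (n + 1) - f n ∈ N n) {m n : ℕ}, m ≤ n → f n - f m ∈ N m := by
    intro M _ f N hN hf m n hmn
    induction n, hmn using Nat.le_induction with
    | base => rw [sub_self]; exact zero_mem _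
    | succ n hmn ih =>
      have : f (n + 1) - f m = (f (n + 1) - f n) + (f n - f m) := by abel
      rw [this]
      exact add_mem (hN hmn (hf n)) ih
  have hBlim : ∀ f : ℕ → B, (∀ n, f (n + 1) - f n ∈ Ideal.span {algebraMap S B ϖ ^ (n + 1)}) →
      ∃ L : B, ∀ n, f n - L ∈ maximalIdeal B ^ n := by
    intro f hf
    obtain ⟨L, hL⟩ := IsPrecomplete.prec (I := maximalIdeal B) (M := B) inferInstance (f := f) (by
      intro m n hmn
      rw [SModEq.sub_mem, smul_eq_mul, Ideal.mul_top]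
      have h1 := hcau f (fun n => (maximalIdeal B ^ n).toAddSubgroup) (fun a b hab => Ideal.pow_le_pow_right hab)
        (fun n => hpow n (hf n)) hmn
      have h2 := neg_mem h1
      rw [neg_sub] at h2
      exact h2)
    refine ⟨L, fun n => ?_⟩
    have h1 := hL n
    rw [SModEq.sub_mem, smul_eq_mul, Ideal.mul_top] at h1
    exact h1
  obtain ⟨x, hx⟩ := hBlim (fun n => (t n).1) fun n => (htR n).1
  obtain ⟨y, hy⟩ := hBlim (fun n => (t n).2.1) fun n => (htR n).2.1
  obtain ⟨a, ha⟩ : ∃ a : S, ∀ n, (t n).2.2 - a ∈ Ideal.span {ϖ} ^ n := by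
    obtain ⟨L, hL⟩ := IsPrecomplete.prec (I := Ideal.span {ϖ}) (M := S) inferInstance (f := fun n => (t n).2.2) (by
      intro m n hmn
      rw [SModEq.sub_mem, smul_eq_mul, Ideal.mul_top]
      have h1 := hcau (fun n => (t n).2.2) (fun n => (Ideal.span {ϖ} ^ n).toAddSubgroup)
        (fun a b hab => Ideal.pow_le_pow_right hab)
        (fun n => by
          have h2 := (htR n).2.2
          rw [← Ideal.span_singleton_pow] at h2
          exact Ideal.pow_le_pow_right (Nat.le_succ n) h2) hmn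
      have h2 := neg_mem h1
      rw [neg_sub] at h2
      exact h2)
    refine ⟨L, fun n => ?_⟩
    have h1 := hL n
    rw [SModEq.sub_mem, smul_eq_mul, Ideal.mul_top] at h1
    exact h1
  have hkrull : ∀ {C : Type u} [CommRing C] [IsLocalRing C] [IsNoetherianRing C] (z : C), (∀ n : ℕ, z ∈ maximalIdeal C ^ n) → z = 0 := by
    intro C _ _ _ z hz
    have h1 := Ideal.iInf_pow_eq_bot_of_isLocalRing (maximalIdeal C) (Ideal.IsPrime.ne_top inferInstance)
    rw [← Ideal.mem_bot, ← h1, Submodule.mem_iInf]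
    exact hz
  have hloc : IsLocalHom ρ := IsLocalHom.of_surjective ρ hρ
  have hρm : ∀ (n : ℕ) (z : B), z ∈ maximalIdeal B ^ n → ρ z ∈ maximalIdeal Q ^ n := by
    intro n z hz
    have h1 : (maximalIdeal B ^ n).map ρ ≤ maximalIdeal Q ^ n := by
      rw [Ideal.map_pow]
      refine Ideal.pow_right_mono ?_ n
      rw [Ideal.map_le_iff_le_comap]
      intro w hw hu
      exact hw (isUnit_of_map_unit ρ w hu)
    exact h1 (Ideal.mem_map_of_mem ρ hz)
  refine ⟨x, y, a, ?_, ?_, ?_⟩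
  · rw [← sub_eq_zero]
    refine hkrull _ fun n => ?_
    have h1 := hρm n _ (hx n)
    rw [map_sub, (htP n).1] at h1
    have h2 := neg_mem h1
    rw [neg_sub] at h2
    exact h2
  · rw [← sub_eq_zero]
    refine hkrull _ fun n => ?_
    have h1 := hρm n _ (hy n)
    rw [map_sub, (htP n).2.1] at h1
    have h2 := neg_mem h1
    rw [neg_sub] at h2
    exact h2
  · rw [← sub_eq_zero]
    refine hkrull _ fun n => ?_
    have h1 := hpow n (htP n).2.2
    have h2 : algebraMap S B ((t n).2.2 - a) ∈ maximalIdeal B ^ n := by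
      have h3 := Ideal.mem_map_of_mem (algebraMap S B) (ha n)
      rw [Ideal.map_pow, Ideal.map_span, Set.image_singleton] at h3
      refine Ideal.pow_right_mono ?_ n h3
      rw [Ideal.span_singleton_le_iff_mem]
      exact hϖ
    have h3 : x * y - algebraMap S B a = ((t n).1 * (t n).2.1 - algebraMap S B (t n).2.2) - (t n).1 * ((t n).2.1 - y) -
        y * ((t n).1 - x) + algebraMap S B ((t n).2.2 - a) := by
      rw [map_sub]
      ring
    rw [h3]
    exact add_mem (sub_mem (sub_mem h1 (Ideal.mul_mem_left _ _ (hy n))) (Ideal.mul_mem_left _ _ (hx n))) h2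

end Lift

theorem isNode_unit_mul {S B : Type u} [CommRing S] [CommRing B] [IsLocalRing B] [Algebra S B] {ϖ : S} {x y : B} {a w : S}
    (hw : IsUnit w) (h : IsNode ϖ x y a) : IsNode ϖ (algebraMap S B w * x) y (w * a) := by
  have hu : IsUnit (algebraMap S B w) := hw.map _
  obtain ⟨w', hw'⟩ := hu.exists_right_inv
  have h1 : Ideal.span {algebraMap S B w * x, algebraMap S B ϖ} = Ideal.span {x, algebraMap S B ϖ} := by
    rw [Ideal.span_insert, Ideal.span_insert, Ideal.span_singleton_mul_left_unit hu]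
  have h2 : Ideal.span {algebraMap S B w * x, y, algebraMap S B ϖ} = Ideal.span {x, y, algebraMap S B ϖ} := by
    rw [Ideal.span_insert, Ideal.span_insert x, Ideal.span_singleton_mul_left_unit hu]
  refine ⟨?_, h.reg, ?_, h.surj, ?_, h.prime₂, ?_, ?_, ?_⟩
  · rw [mul_assoc, h.mul, map_mul]
  · rw [h2]; exact h.max
  · rw [h1]; exact h.prime₁
  · rw [h1]; exact h.notMem₁
  · intro hcon
    apply h.notMem₂
    have h3 := Ideal.mul_mem_left _ w' hcon
    rwa [← mul_assoc, mul_comm w', hw', one_mul] at h3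
  · rw [h1]; exact h.inf

/-- the completion of the local ring is a cross -/
def IsCplCross (K Ā : Type u) [Field K] [CommRing Ā] [IsLocalRing Ā] [Algebra K Ā] : Prop :=
  ∃ u v : Curv2.cpl Ā, ∀ (_ : IsLocalRing (Curv2.cpl Ā)) (alg : Algebra K (Curv2.cpl Ā)) (_ : ∀ c, @algebraMap K (Curv2.cpl Ā) _ _ alg c =
      algebraMap Ā (Curv2.cpl Ā) (algebraMap K Ā c)), @IsCross K (Curv2.cpl Ā) _ _ _ alg u v

theorem isCplCross_of_isOrdDoublePt (K A : Type u) [Field K] [CommRing A] [Algebra K A] [IsLocalRing A] [IsNoetherianRing A] (h : Curv2.IsOrdDoublePt K A) :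
    IsCplCross K A := by
  obtain ⟨u, v, huv⟩ := exists_isCross K A h
  exact ⟨u, v, fun _ alg halg => huv alg halg⟩

/-- **The completed local ring at a split node of the fibre.** -/
theorem exists_isNode_of_fibre (R A Ā K : Type u) [CommRing R] [IsDomain R] [IsDiscreteValuationRing R] [CommRing A] [IsLocalRing A]
    [IsNoetherianRing A] (φ : R →+* A) {ϖ : R} (hϖ : Irreducible ϖ) (hreg : φ ϖ ∈ nonZeroDivisors A) [Field K] (ψ : R →+* K)
    (hψ : Function.Surjective ψ) [CommRing Ā] [IsLocalRing Ā] [Algebra K Ā] (χ : A →+* Ā) (hχ : Function.Surjective χ)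
    (hχk : RingHom.ker χ = Ideal.span {φ ϖ}) (hcomp : ∀ r, χ (φ r) = algebraMap K Ā (ψ r)) (h : IsCplCross K Ā) :
    ∃ (_ : Algebra (Curv2.cpl R) (Curv2.cpl A)) (x y : Curv2.cpl A) (a : Curv2.cpl R) (l : ℕ),
      algebraMap (Curv2.cpl R) (Curv2.cpl A) a =
        (if l = 0 then 0 else algebraMap (Curv2.cpl R) (Curv2.cpl A) (algebraMap R (Curv2.cpl R) ϖ) ^ l) ∧
      (∀ r : R, algebraMap (Curv2.cpl R) (Curv2.cpl A) (algebraMap R (Curv2.cpl R) r) = algebraMap A (Curv2.cpl A) (φ r)) ∧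
      IsNode (algebraMap R (Curv2.cpl R) ϖ) x y a := by
  obtain ⟨hd, hdvr⟩ := isDiscreteValuationRing_cpl R
  have hN : IsNoetherianRing (Curv2.cpl A) := Groth.Agent.Ega4A.CplQuot.isNoetherianRing_cpl A
  have hF : Module.FaithfullyFlat A (Curv2.cpl A) := Groth.Agent.Ega4A.CplQuot.faithfullyFlat_cpl A
  have hNA : IsNoetherianRing Ā := isNoetherianRing_of_surjective A Ā χ hχ
  have hNQ : IsNoetherianRing (Curv2.cpl Ā) := Groth.Agent.Ega4A.CplQuot.isNoetherianRing_cpl Ā
  have hϖ' := irreducible_cpl R hϖ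
  have hc : IsAdicComplete (Ideal.span {algebraMap R (Curv2.cpl R) ϖ}) (Curv2.cpl R) := by
    rw [← hϖ'.maximalIdeal_eq]
    infer_instance
  have hφm : φ ϖ ∈ maximalIdeal A := by
    intro hu
    have h1 : IsUnit (χ (φ ϖ)) := hu.map χ
    have h2 : χ (φ ϖ) = 0 := by
      rw [← RingHom.mem_ker, hχk]
      exact Ideal.mem_span_singleton_self _
    rw [h2, isUnit_zero_iff] at h1
    exact zero_ne_one h1
  have hle : maximalIdeal R ≤ (maximalIdeal A).comap φ := by
    rw [hϖ.maximalIdeal_eq, Ideal.span_singleton_le_iff_mem]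
    exact hφm
  let algS : Algebra (Curv2.cpl R) (Curv2.cpl A) :=
    (Groth.Agent.CurvesB.CplMap.map (maximalIdeal R) (maximalIdeal A) φ hle).toAlgebra
  have hSB : ∀ r : R, algebraMap (Curv2.cpl R) (Curv2.cpl A) (algebraMap R (Curv2.cpl R) r) = algebraMap A (Curv2.cpl A) (φ r) :=
    fun r => Groth.Agent.CurvesB.CplMap.map_algebraMap _ _ _ _ r
  let algA : Algebra A Ā := χ.toAlgebra
  obtain ⟨ρ, hρ, hρk, hρa⟩ := Groth.Agent.Ega4A.CplSurj.exists_cplMap A Ā hχ
  have hker : RingHom.ker ρ = Ideal.span {algebraMap (Curv2.cpl R) (Curv2.cpl A) (algebraMap R (Curv2.cpl R) ϖ)} := by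
    rw [hρk, hSB]
    change (RingHom.ker χ).map _ = _
    rw [hχk, Ideal.map_span, Set.image_singleton]
  let algK : Algebra K (Curv2.cpl Ā) := ((algebraMap Ā (Curv2.cpl Ā)).comp (algebraMap K Ā)).toAlgebra
  obtain ⟨u, v, huv⟩ := h
  have hcr := huv inferInstance algK (fun c => rfl)
  have hS : ∀ c : K, ∃ s : Curv2.cpl R, ρ (algebraMap (Curv2.cpl R) (Curv2.cpl A) s) = @algebraMap K (Curv2.cpl Ā) _ _ algK c := by
    intro c
    obtain ⟨r, rfl⟩ := hψ c
    refine ⟨algebraMap R (Curv2.cpl R) r, ?_⟩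
    rw [hSB]
    refine (hρa (φ r)).trans ?_
    change algebraMap Ā (Curv2.cpl Ā) (χ (φ r)) = algebraMap Ā (Curv2.cpl Ā) (algebraMap K Ā (ψ r))
    rw [hcomp]
  have hregB : algebraMap (Curv2.cpl R) (Curv2.cpl A) (algebraMap R (Curv2.cpl R) ϖ) ∈ nonZeroDivisors (Curv2.cpl A) := by
    rw [hSB]
    have h3 : IsSMulRegular A (φ ϖ) := fun x y hxy => by
      have h4 : (x - y) * φ ϖ = 0 := by
        have : φ ϖ * x = φ ϖ * y := hxy
        linear_combination this
      exact sub_eq_zero.1 ((mul_right_mem_nonZeroDivisors_eq_zero_iff hreg).1 h4)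
    have h5 := h3.of_flat (S := Curv2.cpl A)
    rw [mem_nonZeroDivisors_iff_right]
    intro x hx
    apply h5
    simp only [smul_eq_mul, mul_zero]
    rw [mul_comm]
    exact hx
  have hϖB : algebraMap (Curv2.cpl R) (Curv2.cpl A) (algebraMap R (Curv2.cpl R) ϖ) ∈ maximalIdeal (Curv2.cpl A) := by
    rw [hSB]
    intro hu
    exact hφm (isUnit_of_map_unit (algebraMap A (Curv2.cpl A)) _ hu)
  obtain ⟨x, y, a, hx, hy, hxy⟩ := exists_lift (B := Curv2.cpl A) (Q := Curv2.cpl Ā) ρ hρ hker hcr hS hϖB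
  have hn := isNode_of_cross (B := Curv2.cpl A) (Q := Curv2.cpl Ā) ρ hρ hker hcr hS hx hy hxy hregB
  by_cases ha : a = 0
  · refine ⟨algS, x, y, a, 0, ?_, hSB, hn⟩
    rw [ha, map_zero, if_pos rfl]
  · obtain ⟨l, w, hw⟩ := IsDiscreteValuationRing.eq_unit_mul_pow_irreducible ha hϖ'
    have hl : l ≠ 0 := by
      rintro rfl
      rw [pow_zero, mul_one] at hw
      have h1 : x * y ∈ maximalIdeal (Curv2.cpl A) := Ideal.mul_mem_right _ _ hn.x_mem_max
      rw [hxy, hw] at h1
      exact h1 (w.isUnit.map _)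
    refine ⟨algS, _, y, _, l, ?_, hSB, isNode_unit_mul (w := ↑w⁻¹) (Units.isUnit _) hn⟩
    rw [if_neg hl, hw, ← mul_assoc, Units.inv_mul, one_mul, map_pow]

theorem exists_nodeData_of_fibre (R A Ā K : Type u) [CommRing R] [IsDomain R] [IsDiscreteValuationRing R] [CommRing A] [IsLocalRing A]
    [IsNoetherianRing A] (φ : R →+* A) {ϖ : R} (hϖ : Irreducible ϖ) (hreg : φ ϖ ∈ nonZeroDivisors A) [Field K] (ψ : R →+* K)
    (hψ : Function.Surjective ψ) [CommRing Ā] [IsLocalRing Ā] [Algebra K Ā] (χ : A →+* Ā) (hχ : Function.Surjective χ)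
    (hχk : RingHom.ker χ = Ideal.span {φ ϖ}) (hcomp : ∀ r, χ (φ r) = algebraMap K Ā (ψ r)) (h : IsCplCross K Ā) :
    ∃ (l : ℕ) (p₁ p₂ : Ideal A), NodeData (φ ϖ) l p₁ p₂ := by
  obtain ⟨alg, x, y, a, l, ha, hπ, hn⟩ := exists_isNode_of_fibre R A Ā K φ hϖ hreg ψ hψ χ hχ hχk hcomp h
  obtain ⟨hd, hdvr⟩ := isDiscreteValuationRing_cpl R
  have hN : IsNoetherianRing (Curv2.cpl A) := Groth.Agent.Ega4A.CplQuot.isNoetherianRing_cpl A
  have hF : Module.FaithfullyFlat A (Curv2.cpl A) := Groth.Agent.Ega4A.CplQuot.faithfullyFlat_cpl A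
  have hϖ' := irreducible_cpl R hϖ
  have hc : IsAdicComplete (Ideal.span {algebraMap R (Curv2.cpl R) ϖ}) (Curv2.cpl R) := by
    rw [← hϖ'.maximalIdeal_eq]
    infer_instance
  exact ⟨l, _, _, nodeData_of_isNode hn (hπ ϖ).symm hϖ' ha⟩

theorem exists_sub_mem_pow (R : Type u) [CommRing R] [IsLocalRing R] [IsNoetherianRing R]
    (n : ℕ) (x : Curv2.cpl R) : ∃ a : R, x - algebraMap R (Curv2.cpl R) a ∈ maximalIdeal (Curv2.cpl R) ^ n := by
  obtain ⟨a, ha⟩ := Ideal.Quotient.mk_surjective (AdicCompletion.evalₐ (maximalIdeal R) n x)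
  refine ⟨a, ?_⟩
  have h1 : x - algebraMap R (Curv2.cpl R) a ∈ (maximalIdeal R) ^ n •
      (⊤ : Submodule R (AdicCompletion (maximalIdeal R) R)) := by
    rw [AdicCompletion.pow_smul_top_eq_ker_eval (maximalIdeal R).fg_of_isNoetherianRing,
      LinearMap.mem_ker, AdicCompletion.eval_apply]
    have h2 : AdicCompletion.evalₐ (maximalIdeal R) n (x - algebraMap R (Curv2.cpl R) a) = 0 := by
      rw [map_sub, ← ha, AlgHom.commutes]
      exact sub_self _
    have h3 := AdicCompletion.factor_evalₐ_eq_eval (maximalIdeal R) (n := n)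
      (x - algebraMap R (Curv2.cpl R) a) (Ideal.mul_top _).ge
    rw [h2, map_zero] at h3
    exact h3.symm
  rw [Ideal.smul_top_eq_map, Submodule.restrictScalars_mem, Ideal.map_pow,
    ← AdicCompletion.maximalIdeal_eq_map] at h1
  exact h1

/-- the completion of a cross is a cross -/
theorem isCplCross_of_isCross (K Q : Type u) [Field K] [CommRing Q] [IsLocalRing Q] [IsNoetherianRing Q] [Algebra K Q] {u v : Q}
    (h : IsCross K u v) : IsCplCross K Q := by
  have hN : IsNoetherianRing (Curv2.cpl Q) := Groth.Agent.Ega4A.CplQuot.isNoetherianRing_cpl Q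
  have hF : Module.FaithfullyFlat Q (Curv2.cpl Q) := Groth.Agent.Ega4A.CplQuot.faithfullyFlat_cpl Q
  have hum : u ∈ maximalIdeal Q := by rw [h.max]; exact Ideal.subset_span (by simp)
  have hvm : v ∈ maximalIdeal Q := by rw [h.max]; exact Ideal.subset_span (by simp)
  have hmap : ∀ w : Q, Ideal.span {algebraMap Q (Curv2.cpl Q) w} = (Ideal.span {w}).map (algebraMap Q (Curv2.cpl Q)) := fun w => by
    rw [Ideal.map_span, Set.image_singleton]
  have hmem : ∀ w w' : Q, algebraMap Q (Curv2.cpl Q) w' ∈ Ideal.span {algebraMap Q (Curv2.cpl Q) w} → w' ∈ Ideal.span {w} := by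
    intro w w' hw
    rw [hmap, ← Ideal.mem_comap, Ideal.comap_map_eq_self_of_faithfullyFlat] at hw
    exact hw
  have hmaxc : maximalIdeal (Curv2.cpl Q) = (maximalIdeal Q).map (algebraMap Q (Curv2.cpl Q)) :=
    AdicCompletion.maximalIdeal_eq_map
  -- primes
  have hprime : ∀ {a b : Q}, (Ideal.span {a}).IsPrime → maximalIdeal Q = Ideal.span {a, b} → b ∉ Ideal.span {a} →
      (Ideal.span {algebraMap Q (Curv2.cpl Q) a}).IsPrime := by
    intro a b ha hm hb
    have hdom : IsDomain (Q ⧸ Ideal.span {a}) := Ideal.Quotient.isDomain _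
    have hloc : IsLocalRing (Q ⧸ Ideal.span {a}) := IsLocalRing.of_surjective' (Ideal.Quotient.mk _) Ideal.Quotient.mk_surjective
    have hmq : maximalIdeal (Q ⧸ Ideal.span {a}) = Ideal.span {Ideal.Quotient.mk (Ideal.span {a}) b} := by
      have h1 : (maximalIdeal Q).map (Ideal.Quotient.mk (Ideal.span {a})) = maximalIdeal (Q ⧸ Ideal.span {a}) := by
        have hl : IsLocalHom (Ideal.Quotient.mk (Ideal.span {a})) := IsLocalHom.of_surjective _ Ideal.Quotient.mk_surjective
        apply le_antisymm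
        · exact ((IsLocalRing.local_hom_TFAE (Ideal.Quotient.mk (Ideal.span {a}))).out 0 2 rfl rfl).mp hl
        · intro z hz
          obtain ⟨z, rfl⟩ := Ideal.Quotient.mk_surjective z
          exact Ideal.mem_map_of_mem _ fun hu => hz (hu.map _)
      rw [← h1, hm, Ideal.map_span, Set.image_pair,
        (Ideal.Quotient.eq_zero_iff_mem.2 (Ideal.mem_span_singleton_self a) : Ideal.Quotient.mk (Ideal.span {a}) a = 0),
        Ideal.span_insert, Ideal.span_singleton_eq_bot.2 rfl, bot_sup_eq]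
    have hb0 : Ideal.Quotient.mk (Ideal.span {a}) b ≠ 0 := fun h0 => hb (Ideal.Quotient.eq_zero_iff_mem.1 h0)
    have hnf : ¬ IsField (Q ⧸ Ideal.span {a}) := by
      intro hf
      have h1 := (IsLocalRing.isField_iff_maximalIdeal_eq).1 hf
      rw [hmq, Ideal.span_singleton_eq_bot] at h1
      exact hb0 h1
    have hdvr : IsDiscreteValuationRing (Q ⧸ Ideal.span {a}) := by
      refine ((IsDiscreteValuationRing.TFAE (Q ⧸ Ideal.span {a}) hnf).out 0 4).mpr ?_
      rw [hmq]
      exact ⟨⟨_, rfl⟩⟩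
    obtain ⟨hd, -⟩ := isDiscreteValuationRing_cpl (Q ⧸ Ideal.span {a})
    rw [hmap, ← Ideal.Quotient.isDomain_iff_prime]
    exact MulEquiv.isDomain (Curv2.cpl (Q ⧸ Ideal.span {a})) (Groth.Agent.Ega4A.CplQuot.equivQuot Q (Ideal.span {a})).symm.toMulEquiv
  refine ⟨algebraMap Q (Curv2.cpl Q) u, algebraMap Q (Curv2.cpl Q) v, fun _ alg halg => ?_⟩
  refine ⟨?_, ?_, ?_, ?_, ?_, ?_, ?_, ?_⟩
  · rw [← map_mul, h.mul, map_zero]
  · exact (hmaxc.trans (congrArg (Ideal.map (algebraMap Q (Curv2.cpl Q))) h.max)).trans (by rw [Ideal.map_span, Set.image_pair])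
  · intro q
    obtain ⟨a, ha⟩ := exists_sub_mem_pow Q 1 q
    rw [pow_one] at ha
    obtain ⟨c, hc⟩ := h.surj a
    refine ⟨c, ?_⟩
    rw [halg]
    have h2 : algebraMap Q (Curv2.cpl Q) (a - algebraMap K Q c) ∈ maximalIdeal (Curv2.cpl Q) := by
      rw [hmaxc]; exact Ideal.mem_map_of_mem _ hc
    have h3 := add_mem ha h2
    rw [map_sub] at h3
    rwa [sub_add_sub_cancel] at h3
  · exact hprime h.prime₁ h.max h.notMem₁
  · exact hprime h.prime₂ (h.max.trans (by rw [Set.pair_comm])) h.notMem₂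
  · exact fun hm => h.notMem₁ (hmem _ _ hm)
  · exact fun hm => h.notMem₂ (hmem _ _ hm)
  · rw [hmap, hmap, Groth.Agent.CalgB.MilFlat.map_inf_map_eq_bot _ _ (le_bot_iff.1 h.inf)]

end K793.NodeDef
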