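import Groth.Agent.SemiFact.K793.NodeUnit
import Groth.Agent.S0544
import Mathlib.RingTheory.Polynomial.Content
import Mathlib.Algebra.Polynomial.CancelLeads
import Mathlib.RingTheory.IntegralClosure.IsIntegral.Basic
import Mathlib.RingTheory.DiscreteValuationRing.Basic
import Mathlib.RingTheory.Nakayama

/-!
# Finiteness of quotients of a node over a complete discrete valuation ring
-/

set_option autoImplicit false
set_option linter.unusedSectionVars false
universe u

open IsLocalRing Polynomial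

namespace K793.NodeAlg

variable {S B : Type u} [CommRing S] [CommRing B] [IsLocalRing B] [Algebra S B]

/-- closed under division by `π` -/
def PSat {B : Type u} [CommRing B] (π : B) (c : Ideal B) : Prop := ∀ z, π * z ∈ c → z ∈ c

theorem PSat.pow {B : Type u} [CommRing B] {π : B} {c : Ideal B} (h : PSat π c) (n : ℕ) {z : B} (hz : π ^ n * z ∈ c) : z ∈ c := by
  induction n with
  | zero => simpa using hz
  | succ n ih =>
    refine ih (h _ ?_)
    rw [← mul_assoc, ← pow_succ']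
    exact hz

/-- the saturation with respect to `π` -/
def psat {B : Type u} [CommRing B] (π : B) (c : Ideal B) : Ideal B where
  carrier := {z | ∃ n : ℕ, π ^ n * z ∈ c}
  zero_mem' := ⟨0, by simp⟩
  add_mem' := by
    rintro z w ⟨n, hn⟩ ⟨m, hm⟩
    refine ⟨n + m, ?_⟩
    have : π ^ (n + m) * (z + w) = π ^ m * (π ^ n * z) + π ^ n * (π ^ m * w) := by ring
    rw [this]
    exact Ideal.add_mem _ (Ideal.mul_mem_left _ _ hn) (Ideal.mul_mem_left _ _ hm)
  smul_mem' := by
    rintro r z ⟨n, hn⟩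
    refine ⟨n, ?_⟩
    have : π ^ n * (r • z) = r * (π ^ n * z) := by rw [smul_eq_mul]; ring
    rw [this]
    exact Ideal.mul_mem_left _ _ hn

theorem mem_psat {B : Type u} [CommRing B] {π : B} {c : Ideal B} {z : B} : z ∈ psat π c ↔ ∃ n : ℕ, π ^ n * z ∈ c := Iff.rfl

theorem le_psat {B : Type u} [CommRing B] (π : B) (c : Ideal B) : c ≤ psat π c := fun z hz => ⟨0, by simpa using hz⟩

theorem pSat_psat {B : Type u} [CommRing B] (π : B) (c : Ideal B) : PSat π (psat π c) := by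
  rintro z ⟨n, hn⟩
  exact ⟨n + 1, by rw [pow_succ, mul_assoc]; exact hn⟩

theorem peq_psat {B : Type u} [CommRing B] (π : B) (c : Ideal B) : PEq π (psat π c) c :=
  ⟨fun _ hb => hb, fun _ hb => ⟨0, by simpa using le_psat π c hb⟩⟩

/-- `psat` is contained in any saturated ideal containing the ideal -/
theorem psat_le {B : Type u} [CommRing B] {π : B} {c d : Ideal B} (h : c ≤ d) (hd : PSat π d) : psat π c ≤ d := by
  rintro z ⟨n, hn⟩
  exact hd.pow n (h hn)

namespace IsNode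

variable {ϖ : S} {x y : B} {a : S} (h : IsNode ϖ x y a)

local notation "π" => algebraMap S B ϖ
local notation "P₁" => Ideal.span {x, algebraMap S B ϖ}
local notation "P₂" => Ideal.span {y, algebraMap S B ϖ}

include h

theorem exists_decomp (b : B) : ∃ (s : S) (b₁ b₂ b₃ : B), b = algebraMap S B s + x * b₁ + y * b₂ + π * b₃ := by
  obtain ⟨s, hs⟩ := h.surj b
  rw [h.max, Ideal.mem_span_insert] at hs
  obtain ⟨b₁, z, hz, hs⟩ := hs
  obtain ⟨b₂, b₃, rfl⟩ := Ideal.mem_span_pair.1 hz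
  exact ⟨s, b₁, b₂, b₃, by linear_combination hs⟩

omit h in
/-- monomials of degree `< N` -/
def mons (S : Type u) [CommRing S] [Algebra S B] (x y : B) (N : ℕ) : Submodule S B :=
  Submodule.span S ((fun p : Fin N × Fin N => x ^ (p.1 : ℕ) * y ^ (p.2 : ℕ)) '' Set.univ)

omit h in
theorem mons_le_adjoin (N : ℕ) : mons S x y N ≤ (Algebra.adjoin S {x, y}).toSubmodule := by
  refine Submodule.span_le.2 ?_
  rintro _ ⟨p, -, rfl⟩
  change x ^ (p.1 : ℕ) * y ^ (p.2 : ℕ) ∈ Algebra.adjoin S {x, y}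
  exact mul_mem (pow_mem (Algebra.subset_adjoin (by simp)) _) (pow_mem (Algebra.subset_adjoin (by simp)) _)

omit h in
theorem mul_mons {N : ℕ} {b : B} (hb : b ∈ mons S x y N) : x * b ∈ mons S x y (N + 1) ∧ y * b ∈ mons S x y (N + 1) ∧
    b ∈ mons S x y (N + 1) := by
  induction hb using Submodule.span_induction with
  | mem z hz =>
    obtain ⟨⟨i, j⟩, -, rfl⟩ := hz
    refine ⟨?_, ?_, ?_⟩
    · refine Submodule.subset_span ⟨(⟨i + 1, by omega⟩, ⟨j, by omega⟩), trivial, ?_⟩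
      simp only [pow_succ]; ring
    · refine Submodule.subset_span ⟨(⟨i, by omega⟩, ⟨j + 1, by omega⟩), trivial, ?_⟩
      simp only [pow_succ]; ring
    · exact Submodule.subset_span ⟨(⟨i, by omega⟩, ⟨j, by omega⟩), trivial, rfl⟩
  | zero => simp
  | add z w _ _ hz hw =>
    rw [mul_add, mul_add]
    exact ⟨Submodule.add_mem _ hz.1 hw.1, Submodule.add_mem _ hz.2.1 hw.2.1, Submodule.add_mem _ hz.2.2 hw.2.2⟩
  | smul s z _ hz =>
    rw [mul_smul_comm, mul_smul_comm]
    exact ⟨Submodule.smul_mem _ _ hz.1, Submodule.smul_mem _ _ hz.2.1, Submodule.smul_mem _ _ hz.2.2⟩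

theorem exists_mons (N : ℕ) (b : B) : ∃ c ∈ mons S x y N, ∃ d ∈ maximalIdeal B ^ N, ∃ e, b = c + d + π * e := by
  induction N generalizing b with
  | zero => exact ⟨0, Submodule.zero_mem _, b, by simp, 0, by simp⟩
  | succ N ih =>
    obtain ⟨s, b₁, b₂, b₃, rfl⟩ := h.exists_decomp b
    obtain ⟨c₁, hc₁, d₁, hd₁, e₁, rfl⟩ := ih b₁
    obtain ⟨c₂, hc₂, d₂, hd₂, e₂, rfl⟩ := ih b₂
    refine ⟨algebraMap S B s + x * c₁ + y * c₂, ?_, x * d₁ + y * d₂, ?_, b₃ + x * e₁ + y * e₂, by ring⟩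
    · refine Submodule.add_mem _ (Submodule.add_mem _ ?_ (mul_mons hc₁).1) (mul_mons hc₂).2.1
      rw [Algebra.algebraMap_eq_smul_one]
      refine Submodule.smul_mem _ _ (Submodule.subset_span ⟨(⟨0, by omega⟩, ⟨0, by omega⟩), trivial, by simp⟩)
    · rw [pow_succ']
      exact Ideal.add_mem _ (Ideal.mul_mem_mul h.x_mem_max hd₁) (Ideal.mul_mem_mul h.y_mem_max hd₂)

/-- quotients by ideals not contained in the branches are finite over the complete base -/
theorem finite_quotient [IsNoetherianRing B] [IsAdicComplete (Ideal.span {ϖ}) S] {c : Ideal B} {s₁ s₂ : B} (hs₁ : s₁ ∉ P₁)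
    (hc₁ : s₁ ∈ c) (hs₂ : s₂ ∉ P₂) (hc₂ : s₂ ∈ c) : Module.Finite S (B ⧸ c) := by
  obtain ⟨N, hN⟩ := h.exists_pow_le (c := c ⊔ Ideal.span {π}) (n := 1)
    (by rw [pow_one]; exact Ideal.mem_sup_right (Ideal.mem_span_singleton_self _)) hs₁ (Ideal.mem_sup_left hc₁) hs₂
    (Ideal.mem_sup_left hc₂)
  have hH : IsHausdorff (Ideal.span {ϖ}) (B ⧸ c) := by
    by_cases hctop : c = ⊤
    · subst hctop
      exact ⟨fun z _ => Subsingleton.elim _ _⟩
    refine ⟨fun z hz => ?_⟩
    obtain ⟨b, rfl⟩ := Ideal.Quotient.mk_surjective z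
    rw [Ideal.Quotient.eq_zero_iff_mem]
    refine mem_of_forall_mem_sup_pow c hctop h.π_mem_max fun n => ?_
    have h1 := hz n
    rw [SModEq.zero, Ideal.span_singleton_pow, Submodule.ideal_span_singleton_smul] at h1
    obtain ⟨w, -, hw⟩ := h1
    obtain ⟨w, rfl⟩ := Ideal.Quotient.mk_surjective w
    have h2 : Ideal.Quotient.mk c (π ^ n * w - b) = 0 := by
      rw [map_sub, map_mul, map_pow, sub_eq_zero]
      have hw' : ϖ ^ n • (Ideal.Quotient.mk c w) = Ideal.Quotient.mk c b := hw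
      rw [← hw', Algebra.smul_def, map_pow]
      rfl
    rw [Ideal.Quotient.eq_zero_iff_mem] at h2
    refine Submodule.mem_sup.2 ⟨π ^ n * w, Ideal.mem_span_singleton'.2 ⟨w, by ring⟩, -(π ^ n * w - b), ?_, by ring⟩
    exact (Ideal.neg_mem_iff _).2 h2
  refine Groth.Agent.S0544.result S (Ideal.span {ϖ}) (B ⧸ c) ?_
  let M := (B ⧸ c) ⧸ (Ideal.span {ϖ} • (⊤ : Submodule S (B ⧸ c)))
  let ψ : B →ₗ[S] M := (Submodule.mkQ _).comp (Ideal.Quotient.mkₐ S c).toLinearMap
  have hψs : Function.Surjective ψ := by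
    intro z
    obtain ⟨w, rfl⟩ := Submodule.Quotient.mk_surjective _ z
    obtain ⟨b, rfl⟩ := Ideal.Quotient.mk_surjective w
    exact ⟨b, rfl⟩
  have hψπ : ∀ e, ψ (π * e) = 0 := by
    intro e
    have h1 : π * e = ϖ • e := by rw [Algebra.smul_def]
    rw [h1]
    change (Submodule.mkQ _) ((Ideal.Quotient.mkₐ S c) (ϖ • e)) = 0
    rw [map_smul]
    exact (Submodule.Quotient.mk_eq_zero _).2 (Submodule.smul_mem_smul (Ideal.mem_span_singleton_self _) trivial)
  have hψc : ∀ e ∈ c, ψ e = 0 := by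
    intro e he
    change (Submodule.mkQ _) ((Ideal.Quotient.mk c) e) = 0
    rw [Ideal.Quotient.eq_zero_iff_mem.2 he, map_zero]
  have hmap : (mons S x y N).map ψ = ⊤ := by
    rw [eq_top_iff]
    rintro z -
    obtain ⟨b, rfl⟩ := hψs z
    obtain ⟨c', hc', d, hd, e, rfl⟩ := h.exists_mons N b
    refine ⟨c', hc', ?_⟩
    obtain ⟨u, hu, v, hv, huv⟩ := Submodule.mem_sup.1 (hN hd)
    obtain ⟨w, rfl⟩ := Ideal.mem_span_singleton'.1 hv
    rw [map_add, map_add, ← huv, map_add, hψc u hu, hψπ e, mul_comm w, hψπ w]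
    simp
  refine ⟨?_⟩
  rw [← hmap]
  refine Submodule.FG.map _ (Submodule.fg_span ?_)
  exact Set.Finite.image _ Set.finite_univ

/-- every element is a polynomial in `x, y` modulo an ideal not contained in the branches -/
theorem exists_adjoin [IsLocalRing S] (hϖ : ϖ ∈ maximalIdeal S) [IsNoetherianRing B] [IsAdicComplete (Ideal.span {ϖ}) S] {c : Ideal B}
    {s₁ s₂ : B} (hs₁ : s₁ ∉ P₁)
    (hc₁ : s₁ ∈ c) (hs₂ : s₂ ∉ P₂) (hc₂ : s₂ ∈ c) (b : B) : ∃ b' ∈ Algebra.adjoin S {x, y}, b - b' ∈ c := by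
  have hfin := h.finite_quotient hs₁ hc₁ hs₂ hc₂
  obtain ⟨N, hN⟩ := h.exists_pow_le (c := c ⊔ Ideal.span {π}) (n := 1)
    (by rw [pow_one]; exact Ideal.mem_sup_right (Ideal.mem_span_singleton_self _)) hs₁ (Ideal.mem_sup_left hc₁) hs₂
    (Ideal.mem_sup_left hc₂)
  let φ : B →ₗ[S] (B ⧸ c) := (Ideal.Quotient.mkₐ S c).toLinearMap
  have key : (⊤ : Submodule S (B ⧸ c)) ≤ (Algebra.adjoin S {x, y}).toSubmodule.map φ := by
    refine Submodule.le_of_le_smul_of_le_jacobson_bot (I := Ideal.span {ϖ}) hfin.1 ?_ ?_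
    · rw [Ideal.span_singleton_le_iff_mem, IsLocalRing.jacobson_eq_maximalIdeal _ bot_ne_top]
      exact hϖ
    · rintro z -
      obtain ⟨b, rfl⟩ := Ideal.Quotient.mk_surjective z
      obtain ⟨c', hc', d, hd, e, rfl⟩ := h.exists_mons N b
      obtain ⟨u, hu, v, hv, huv⟩ := Submodule.mem_sup.1 (hN hd)
      obtain ⟨w, rfl⟩ := Ideal.mem_span_singleton'.1 hv
      refine Submodule.mem_sup.2 ⟨φ c', ⟨c', mons_le_adjoin N hc', rfl⟩, ϖ • φ (w + e),
        Submodule.smul_mem_smul (Ideal.mem_span_singleton_self _) trivial, ?_⟩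
      rw [← map_smul, ← map_add]
      change Ideal.Quotient.mk c _ = _
      rw [Ideal.Quotient.eq]
      have : c' + ϖ • (w + e) - (c' + d + π * e) = -u := by
        rw [← huv, Algebra.smul_def]; ring
      rw [this]
      exact (Ideal.neg_mem_iff _).2 hu
  obtain ⟨b', hb', h1⟩ := key (show Ideal.Quotient.mk c b ∈ (⊤ : Submodule S (B ⧸ c)) from trivial)
  refine ⟨b', hb', ?_⟩
  rw [← Ideal.Quotient.eq]
  exact h1.symm

end IsNode

end K793.NodeAlg
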