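import Groth.Agent.SemiFact.K793.NodeFin
import Mathlib.RingTheory.Multiplicity
import Mathlib.RingTheory.Polynomial.Basic

/-!
# Ideals of the generic fibre of a node over a complete discrete valuation ring are principal
-/

set_option autoImplicit false
set_option linter.unusedSectionVars false
universe u

open IsLocalRing Polynomial

namespace K793.NodeAlg

variable {S B : Type u} [CommRing S] [CommRing B] [IsLocalRing B] [Algebra S B]

theorem aeval_divX (x : B) (q : S[X]) : aeval x q = x * aeval x q.divX + algebraMap S B (q.coeff 0) := by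
  have h1 := congrArg (aeval x) (divX_mul_X_add q)
  rw [map_add, map_mul, aeval_X, aeval_C] at h1
  rw [← h1]
  ring

namespace IsNode

variable {ϖ : S} {x y : B} {a : S} (h : IsNode ϖ x y a)

local notation "π" => algebraMap S B ϖ
local notation "P₁" => Ideal.span {x, algebraMap S B ϖ}
local notation "P₂" => Ideal.span {y, algebraMap S B ϖ}

include h

/-- a polynomial in `x` which lies in the second branch is divisible by `ϖ` -/
theorem C_dvd_of_aeval_mem [IsDomain S] [IsDiscreteValuationRing S] (hϖ : Irreducible ϖ) (q : S[X]) (hq : aeval x q ∈ P₂) :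
    C ϖ ∣ q := by
  have hp₂ := h.prime₂
  have hc : ∀ s : S, algebraMap S B s ∈ maximalIdeal B → ϖ ∣ s := by
    intro s hs
    rw [← Ideal.mem_span_singleton, ← hϖ.maximalIdeal_eq]
    exact fun hu => hs (hu.map _)
  induction hn : q.natDegree using Nat.strong_induction_on generalizing q with
  | _ n ih =>
  have h1 : aeval x q = x * aeval x q.divX + algebraMap S B (q.coeff 0) := aeval_divX x q
  have h2 : ϖ ∣ q.coeff 0 := by
    refine hc _ ?_
    have h3 : algebraMap S B (q.coeff 0) = aeval x q - x * aeval x q.divX := by rw [h1]; ring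
    rw [h3]
    exact Ideal.sub_mem _ (h.symm.P₁_le hq) (Ideal.mul_mem_right _ _ h.x_mem_max)
  obtain ⟨c, hc'⟩ := h2
  by_cases h0 : q.natDegree = 0
  · rw [eq_C_of_natDegree_eq_zero h0, hc', C_mul]
    exact dvd_mul_right _ _
  have h4 : aeval x q.divX ∈ P₂ := by
    have h5 : x * aeval x q.divX ∈ P₂ := by
      have h6 : x * aeval x q.divX = aeval x q - algebraMap S B (q.coeff 0) := by rw [h1]; ring
      rw [h6, hc', map_mul]
      exact Ideal.sub_mem _ hq (Ideal.mul_mem_right _ _ (π_mem (x := y)))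
    exact (hp₂.mem_or_mem h5).resolve_left h.notMem₂
  have h7 : C ϖ ∣ q.divX := by
    refine ih q.divX.natDegree ?_ q.divX h4 rfl
    rw [natDegree_divX_eq_natDegree_tsub_one]
    omega
  obtain ⟨r, hr⟩ := h7
  refine ⟨r * X + C c, ?_⟩
  conv_lhs => rw [← divX_mul_X_add q, hr, hc']
  rw [C_mul]
  ring

/-- a minimal polynomial of `x` modulo a saturated ideal -/
theorem exists_minpoly [IsDomain S] [IsDiscreteValuationRing S] (hϖ : Irreducible ϖ) [IsNoetherianRing B]
    [IsAdicComplete (Ideal.span {ϖ}) S] {c : Ideal B} (hc : PSat π c) {s₁ s₂ : B} (hs₁ : s₁ ∉ P₁)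
    (hc₁ : s₁ ∈ c) (hs₂ : s₂ ∉ P₂) (hc₂ : s₂ ∈ c) :
    ∃ q : S[X], q ≠ 0 ∧ aeval x q ∈ c ∧ aeval x q ∉ P₂ ∧ ∀ p : S[X], p ≠ 0 → aeval x p ∈ c → q.natDegree ≤ p.natDegree := by
  have hfin := h.finite_quotient hs₁ hc₁ hs₂ hc₂
  have hex : ∃ n : ℕ, ∃ q : S[X], q ≠ 0 ∧ aeval x q ∈ c ∧ q.natDegree = n := by
    obtain ⟨q, hq, hqx⟩ := (Algebra.IsIntegral.of_finite S (B ⧸ c)).isIntegral (Ideal.Quotient.mk c x)
    refine ⟨_, q, hq.ne_zero, ?_, rfl⟩
    rw [← Ideal.Quotient.eq_zero_iff_mem, ← hqx]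
    rw [← aeval_def]
    exact (aeval_algHom_apply (Ideal.Quotient.mkₐ S c) x q).symm
  classical
  obtain ⟨q, hq0, hqc, hqn⟩ := Nat.find_spec hex
  have hCϖ : ¬ IsUnit (C ϖ : S[X]) := by
    rw [isUnit_C]
    exact hϖ.not_isUnit
  have hfm : FiniteMultiplicity (C ϖ) q := FiniteMultiplicity.of_not_isUnit hCϖ hq0
  obtain ⟨r, hr, hrd⟩ := hfm.exists_eq_pow_mul_and_not_dvd
  have hr0 : r ≠ 0 := by
    rintro rfl
    exact hrd (dvd_zero _)
  have hdeg : r.natDegree = q.natDegree := by
    rw [hr, ← C_pow, natDegree_C_mul (pow_ne_zero _ hϖ.ne_zero)]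
  refine ⟨r, hr0, ?_, fun hm => hrd (h.C_dvd_of_aeval_mem hϖ r hm), ?_⟩
  · refine hc.pow (multiplicity (C ϖ) q) ?_
    rw [hr] at hqc
    simpa using hqc
  · intro p hp hpc
    rw [hdeg, hqn]
    exact Nat.find_min' hex ⟨p, hp, hpc, rfl⟩

omit h in
/-- the set of elements which are polynomials in `x` up to a power of `π`, modulo `d` -/
theorem exists_poly_of_adjoin {d : Ideal B} (hy : ∃ (K : ℕ) (p : S[X]), π ^ K * y - aeval x p ∈ d) {b : B}
    (hb : b ∈ Algebra.adjoin S {x, y}) : ∃ (K : ℕ) (p : S[X]), π ^ K * b - aeval x p ∈ d := by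
  induction hb using Algebra.adjoin_induction with
  | mem z hz =>
    rcases hz with rfl | rfl
    · exact ⟨0, X, by simp⟩
    · exact hy
  | algebraMap s => exact ⟨0, C s, by simp⟩
  | add z w _ _ hz hw =>
    obtain ⟨K, p, hp⟩ := hz
    obtain ⟨L, q, hq⟩ := hw
    refine ⟨K + L, C (ϖ ^ L) * p + C (ϖ ^ K) * q, ?_⟩
    have : π ^ (K + L) * (z + w) - aeval x (C (ϖ ^ L) * p + C (ϖ ^ K) * q) =
        π ^ L * (π ^ K * z - aeval x p) + π ^ K * (π ^ L * w - aeval x q) := by
      simp only [map_add, map_mul, aeval_C, map_pow]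
      ring
    rw [this]
    exact Ideal.add_mem _ (Ideal.mul_mem_left _ _ hp) (Ideal.mul_mem_left _ _ hq)
  | mul z w _ _ hz hw =>
    obtain ⟨K, p, hp⟩ := hz
    obtain ⟨L, q, hq⟩ := hw
    refine ⟨K + L, p * q, ?_⟩
    have : π ^ (K + L) * (z * w) - aeval x (p * q) =
        (π ^ L * w) * (π ^ K * z - aeval x p) + (aeval x p) * (π ^ L * w - aeval x q) := by
      simp only [map_mul]
      ring
    rw [this]
    exact Ideal.add_mem _ (Ideal.mul_mem_left _ _ hp) (Ideal.mul_mem_left _ _ hq)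

omit h in
theorem exists_pow_mul_of_ne_zero [IsDomain S] [IsDiscreteValuationRing S] (hϖ : Irreducible ϖ) {s : S} (hs : s ≠ 0) {d : Ideal B}
    {b : B} (hb : algebraMap S B s * b ∈ d) : ∃ n : ℕ, π ^ n * b ∈ d := by
  obtain ⟨n, u, hu⟩ := IsDiscreteValuationRing.eq_unit_mul_pow_irreducible hs hϖ
  refine ⟨n, ?_⟩
  have : π ^ n * b = algebraMap S B ↑u⁻¹ * (algebraMap S B s * b) := by
    rw [hu, map_mul, map_pow]
    have h1 : algebraMap S B ↑u⁻¹ * algebraMap S B ↑u = 1 := by rw [← map_mul, Units.inv_mul, map_one]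
    linear_combination (-(π ^ n * b)) * h1
  rw [this]
  exact Ideal.mul_mem_left _ _ hb

omit h in
/-- polynomials in `x` lying in `c` are in `d` up to a power of `π`, if the minimal polynomial is -/
theorem exists_pow_mul_aeval [IsDomain S] [IsDiscreteValuationRing S] (hϖ : Irreducible ϖ) {c d : Ideal B} (hdc : d ≤ c)
    {q : S[X]} (hq0 : q ≠ 0) (hqd : aeval x q ∈ d) (hmin : ∀ p : S[X], p ≠ 0 → aeval x p ∈ c → q.natDegree ≤ p.natDegree)
    (p : S[X]) (hp : aeval x p ∈ c) : ∃ n : ℕ, π ^ n * aeval x p ∈ d := by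
  induction hn : p.natDegree using Nat.strong_induction_on generalizing p with
  | _ n ih =>
  by_cases hp0 : p = 0
  · exact ⟨0, by simp [hp0]⟩
  have hle := hmin p hp0 hp
  let r := C q.leadingCoeff * p - C p.leadingCoeff * X ^ (p.natDegree - q.natDegree) * q
  have hrc : aeval x r ∈ c := by
    simp only [r, map_sub, map_mul]
    exact Ideal.sub_mem _ (Ideal.mul_mem_left _ _ hp) (Ideal.mul_mem_left _ _ (hdc hqd))
  have hex : ∃ n : ℕ, π ^ n * aeval x r ∈ d := by
    by_cases hr0 : r = 0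
    · exact ⟨0, by simp [hr0]⟩
    refine ih r.natDegree ?_ r hrc rfl
    by_cases hpd : p.natDegree = 0
    · exfalso
      apply hr0
      have hqd0 : q.natDegree = 0 := by omega
      simp only [r]
      rw [hpd, hqd0, eq_C_of_natDegree_eq_zero hpd, eq_C_of_natDegree_eq_zero hqd0]
      simp [mul_comm]
    · rw [← hn]
      have hcl : r = q.cancelLeads p := by
        simp only [r, Polynomial.cancelLeads]
        rw [show q.natDegree - p.natDegree = 0 by omega, pow_zero, mul_one]
      rw [hcl]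
      exact natDegree_cancelLeads_lt_of_natDegree_le_natDegree hle (Nat.pos_of_ne_zero hpd)
  obtain ⟨m, hm⟩ := hex
  have h1 : algebraMap S B q.leadingCoeff * (π ^ m * aeval x p) ∈ d := by
    have : algebraMap S B q.leadingCoeff * (π ^ m * aeval x p) = π ^ m * aeval x r +
        π ^ m * (aeval x (C p.leadingCoeff * X ^ (p.natDegree - q.natDegree)) * aeval x q) := by
      simp only [r, map_sub, map_mul, aeval_C]
      ring
    rw [this]
    exact Ideal.add_mem _ hm (Ideal.mul_mem_left _ _ (Ideal.mul_mem_left _ _ hqd))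
  obtain ⟨n', hn'⟩ := exists_pow_mul_of_ne_zero hϖ (leadingCoeff_ne_zero.2 hq0) h1
  exact ⟨n' + m, by rw [pow_add, mul_assoc]; exact hn'⟩

/-- comparison of two ideals through the minimal polynomial of `x` -/
theorem peq_of_minpoly [IsDomain S] [IsDiscreteValuationRing S] (hϖ : Irreducible ϖ) [IsNoetherianRing B]
    [IsAdicComplete (Ideal.span {ϖ}) S] {c d : Ideal B} (hc : PSat π c) (hdc : d ≤ c)
    {s₁ : B} (hs₁ : s₁ ∉ P₁) (hd₁ : s₁ ∈ psat π d)
    {q : S[X]} (hq0 : q ≠ 0) (hqd : aeval x q ∈ d) (hq2 : aeval x q ∉ P₂)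
    (hmin : ∀ p : S[X], p ≠ 0 → aeval x p ∈ c → q.natDegree ≤ p.natDegree)
    (hy : ∃ (K : ℕ) (p : S[X]), π ^ K * y - aeval x p ∈ d) : PEq π c d := by
  refine ⟨fun b hb => ?_, fun b hb => ⟨0, by simpa using hdc hb⟩⟩
  obtain ⟨b', hb', hbb⟩ := h.exists_adjoin (c := psat π d) (by rw [hϖ.maximalIdeal_eq]; exact Ideal.mem_span_singleton_self _)
    hs₁ hd₁ hq2 (le_psat π d hqd) b
  obtain ⟨K, p, hp⟩ := exists_poly_of_adjoin (d := psat π d)
    (by obtain ⟨K, p, hp⟩ := hy; exact ⟨K, p, le_psat π d hp⟩) hb'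
  have hpc : aeval x p ∈ c := by
    have h1 : aeval x p = π ^ K * b - (π ^ K * b' - aeval x p) - π ^ K * (b - b') := by ring
    rw [h1]
    refine Ideal.sub_mem _ (Ideal.sub_mem _ (Ideal.mul_mem_left _ _ hb) (psat_le hdc hc hp)) (Ideal.mul_mem_left _ _ (psat_le hdc hc hbb))
  obtain ⟨n, hn⟩ := exists_pow_mul_aeval hϖ hdc hq0 hqd hmin p hpc
  have h2 : π ^ K * b ∈ psat π d := by
    have h1 : π ^ K * b = (π ^ K * b' - aeval x p) + π ^ K * (b - b') + aeval x p := by ring
    rw [h1]
    exact Ideal.add_mem _ (Ideal.add_mem _ hp (Ideal.mul_mem_left _ _ hbb)) ⟨n, hn⟩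
  exact (pSat_psat π d).pow K h2

/-! ### finite thickness -/

theorem mul_ne_zero_of_branch [IsNoetherianRing B] {l : ℕ} (ha : algebraMap S B a = π ^ l) {f g : B} (hf : f ∉ P₂) (hg : g ∉ P₁) :
    g * f ≠ 0 := by
  have hp₁ := h.prime₁
  have hp₂ := h.prime₂
  have main : ∀ (k : ℕ) (f w : B), IsUnit w → f - x ^ k * w ∈ P₂ → g * f = 0 → False := by
    intro k
    induction k with
    | zero =>
      intro f w hw hfw h0
      rw [pow_zero, one_mul] at hfw
      have hfu := h.isUnit_of_branch₂ hw hfw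
      rw [mul_comm, hfu.mul_right_eq_zero] at h0
      exact hg (h0 ▸ Ideal.zero_mem _)
    | succ k ih =>
      intro f w hw hfw h0
      -- `π ^ l ∣ y f`
      have key : ∀ j ≤ l, ∃ f', y * f = π ^ j * f' := by
        intro j
        induction j with
        | zero => intro _; exact ⟨y * f, by simp⟩
        | succ j ihj =>
          intro hj
          obtain ⟨f', hf'⟩ := ihj (by omega)
          have h1 : g * f' = 0 := by
            have : (g * f') * π ^ j = 0 := by
              have : (g * f') * π ^ j = y * (g * f) := by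
                calc (g * f') * π ^ j = g * (π ^ j * f') := by ring
                  _ = g * (y * f) := by rw [hf']
                  _ = _ := by ring
              rw [this, h0, mul_zero]
            exact (mul_right_mem_nonZeroDivisors_eq_zero_iff (pow_mem h.reg j)).1 this
          have h2 : f' ∈ P₁ := (hp₁.mem_or_mem (h1 ▸ Ideal.zero_mem _ : g * f' ∈ P₁)).resolve_left hg
          have h3 : x * f' = π ^ (l - j) * f := by
            have : (x * f' - π ^ (l - j) * f) * π ^ j = 0 := by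
              have e1 : π ^ l = π ^ (l - j) * π ^ j := by rw [← pow_add]; congr 1; omega
              have e2 := h.mul
              rw [ha, e1] at e2
              linear_combination (-x) * hf' + f * e2
            exact sub_eq_zero.1 ((mul_right_mem_nonZeroDivisors_eq_zero_iff (pow_mem h.reg j)).1 this)
          have h4 : x * f' ∈ P₂ := by
            rw [h3]
            exact Ideal.mul_mem_right _ _ (Ideal.pow_mem_of_mem _ (π_mem (x := y)) _ (by omega))
          obtain ⟨f'', hf''⟩ := h.exists_eq_mul h2 ((hp₂.mem_or_mem h4).resolve_left h.notMem₂)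
          exact ⟨f'', by rw [hf', hf'']; ring⟩
      obtain ⟨f', hf'⟩ := key l le_rfl
      have h1 : f = x * f' := by
        have : (f - x * f') * π ^ l = 0 := by
          have e2 := h.mul
          rw [ha] at e2
          linear_combination x * hf' - f * e2
        exact sub_eq_zero.1 ((mul_right_mem_nonZeroDivisors_eq_zero_iff (pow_mem h.reg l)).1 this)
      refine ih f' w hw ?_ ?_
      · have h2 : x * (f' - x ^ k * w) ∈ P₂ := by
          have : x * (f' - x ^ k * w) = f - x ^ (k + 1) * w := by rw [h1]; ring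
          rw [this]
          exact hfw
        exact (hp₂.mem_or_mem h2).resolve_left h.notMem₂
      · have : (g * f') * π ^ l = 0 := by
          have : (g * f') * π ^ l = y * (g * f) := by
            calc (g * f') * π ^ l = g * (π ^ l * f') := by ring
              _ = g * (y * f) := by rw [hf']
              _ = _ := by ring
          rw [this, h0, mul_zero]
        exact (mul_right_mem_nonZeroDivisors_eq_zero_iff (pow_mem h.reg l)).1 this
  intro h0
  obtain ⟨k, w, hw, hk⟩ := h.exists_branch₂ hf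
  exact main k f w hw hk h0

/-- elements outside the second branch are nonzerodivisors (finite thickness) -/
theorem mem_nonZeroDivisors_of_notMem₂ [IsNoetherianRing B] {l : ℕ} (ha : algebraMap S B a = π ^ l) {g : B} (hg : g ∉ P₂) :
    g ∈ nonZeroDivisors B := by
  have hp₁ := h.prime₁
  have hp₂ := h.prime₂
  rw [mem_nonZeroDivisors_iff_right]
  intro f hf
  by_contra hf0
  -- divide `f` by the largest power of `π`
  have hex : ∃ n, f ∉ Ideal.span {π ^ n} ⊔ (⊥ : Ideal B) := by
    by_contra hcon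
    push Not at hcon
    exact hf0 (by simpa using mem_of_forall_mem_sup_pow (⊥ : Ideal B) bot_ne_top h.π_mem_max hcon)
  classical
  obtain ⟨k, hk⟩ : ∃ k, Nat.find hex = k + 1 := by
    refine Nat.exists_eq_succ_of_ne_zero fun h0 => ?_
    have := Nat.find_spec hex
    rw [h0] at this
    simp at this
  have h2 : f ∈ Ideal.span {π ^ k} ⊔ (⊥ : Ideal B) := not_not.1 (Nat.find_min hex (m := k) (by omega))
  have h3 := Nat.find_spec hex
  rw [hk] at h3
  rw [sup_bot_eq] at h2 h3
  obtain ⟨f', rfl⟩ := Ideal.mem_span_singleton'.1 h2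
  have h4 : f' * g = 0 := by
    have : (f' * g) * π ^ k = 0 := by rw [← hf]; ring
    exact (mul_right_mem_nonZeroDivisors_eq_zero_iff (pow_mem h.reg k)).1 this
  have h5 : f' ∈ P₂ := (hp₂.mem_or_mem (h4 ▸ Ideal.zero_mem _ : f' * g ∈ P₂)).resolve_right hg
  have h6 : f' ∉ P₁ := by
    intro h6
    obtain ⟨f'', hf''⟩ := h.exists_eq_mul h6 h5
    exact h3 (Ideal.mem_span_singleton'.2 ⟨f'', by rw [hf'']; ring⟩)
  exact h.mul_ne_zero_of_branch ha hg h6 h4

/-- **Ideals of the generic fibre are principal (finite thickness).** -/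
theorem exists_generator_of_pow [IsDomain S] [IsDiscreteValuationRing S] (hϖ : Irreducible ϖ) [IsNoetherianRing B]
    [IsAdicComplete (Ideal.span {ϖ}) S] {l : ℕ} (ha : algebraMap S B a = π ^ l) (j : Ideal B) {g : B} (hg : g ∈ nonZeroDivisors B)
    (hgj : g ∈ j) : ∃ b ∈ nonZeroDivisors B, PEq π j (Ideal.span {b}) := by
  have hp₁ := h.prime₁
  have hp₂ := h.prime₂
  let c := psat π j
  have hc : PSat π c := pSat_psat π j
  -- elements outside the branches
  have hbr : ∀ {x y : B} (h : IsNode ϖ x y a) {c : Ideal B} {g : B}, g ∈ nonZeroDivisors B → g ∈ c →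
      ∃ s, s ∉ Ideal.span {x, π} ∧ s ∈ psat π c := by
    intro x y h c g hg hgc
    obtain ⟨n, hn⟩ := h.exists_ord₁ hg
    obtain ⟨g', hg', h1⟩ := h.ord₁_iff.1 hn
    exact ⟨g', hg', n, by rw [← h1]; exact Ideal.mul_mem_left _ _ hgc⟩
  obtain ⟨s₁, hs₁, hc₁⟩ := hbr h hg hgj
  obtain ⟨s₂, hs₂, hc₂⟩ := hbr h.symm hg hgj
  obtain ⟨q, hq0, hqc, hq2, hmin⟩ := h.exists_minpoly hϖ hc hs₁ hc₁ hs₂ hc₂
  have hqd : aeval x q ∈ nonZeroDivisors B := h.mem_nonZeroDivisors_of_notMem₂ ha hq2
  refine ⟨aeval x q, hqd, (peq_psat π j).symm.trans ?_⟩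
  obtain ⟨t₁, ht₁, hd₁⟩ := hbr h hqd (Ideal.mem_span_singleton_self _)
  refine h.peq_of_minpoly hϖ hc ((Ideal.span_singleton_le_iff_mem _).2 hqc) ht₁ hd₁ hq0 (Ideal.mem_span_singleton_self _) hq2 hmin ?_
  have h1 : aeval x q = x * aeval x q.divX + algebraMap S B (q.coeff 0) := aeval_divX x q
  have h0 : q.coeff 0 ≠ 0 := by
    intro h0
    rw [h0, map_zero, add_zero] at h1
    have hd0 : q.divX ≠ 0 := by
      intro hd0
      apply hq0
      rw [← divX_mul_X_add q, hd0, h0]
      simp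
    have h2 : aeval x q.divX ∈ c := by
      refine hc.pow l ?_
      have : π ^ l * aeval x q.divX = y * aeval x q := by rw [h1, ← ha, ← h.mul]; ring
      rw [this]
      exact Ideal.mul_mem_left _ _ hqc
    have h3 := hmin _ hd0 h2
    rw [natDegree_divX_eq_natDegree_tsub_one] at h3
    have h4 : q.natDegree = 0 := by omega
    apply hd0
    rw [eq_C_of_natDegree_eq_zero h4]
    simp
  obtain ⟨n, u, hu⟩ := IsDiscreteValuationRing.eq_unit_mul_pow_irreducible h0 hϖ
  have huu : algebraMap S B ↑u⁻¹ * algebraMap S B ↑u = 1 := by rw [← map_mul, Units.inv_mul, map_one]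
  refine ⟨n, -(C (↑u⁻¹ * ϖ ^ l) * q.divX), Ideal.mem_span_singleton'.2 ⟨algebraMap S B ↑u⁻¹ * y, ?_⟩⟩
  have hm := h.mul
  rw [ha] at hm
  rw [h1, hu]
  simp only [map_neg, map_mul, aeval_C, map_pow]
  linear_combination (algebraMap S B ↑u⁻¹ * aeval x q.divX) * hm + (π ^ n * y) * huu

end IsNode

end K793.NodeAlg
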