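import Groth.Agent.SemiFact.K793.NodePic

/-!
# Invertible ideals of the generic fibre of a node over a complete discrete valuation ring are principal
-/

set_option autoImplicit false
set_option linter.unusedSectionVars false
universe u

open IsLocalRing Polynomial

namespace K793.NodeAlg

variable {S B : Type u} [CommRing S] [CommRing B] [IsLocalRing B] [Algebra S B]

/-- `j` is invertible after inverting `π`: `j j'` is `(d)` up to powers of `π` -/
def PInv {B : Type u} [CommRing B] (π : B) (j : Ideal B) : Prop :=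
  ∃ (j' : Ideal B) (d : B) (N : ℕ), d ∈ nonZeroDivisors B ∧ j * j' ≤ Ideal.span {d} ∧ π ^ N * d ∈ j * j'

namespace IsNode

variable {ϖ : S} {x y : B} {a : S} (h : IsNode ϖ x y a)

local notation "π" => algebraMap S B ϖ
local notation "P₁" => Ideal.span {x, algebraMap S B ϖ}
local notation "P₂" => Ideal.span {y, algebraMap S B ϖ}

include h

theorem xy_eq_zero (ha : algebraMap S B a = 0) : x * y = 0 := by rw [h.mul, ha]

theorem pSat_span_y (ha : algebraMap S B a = 0) : PSat π (Ideal.span {y}) := by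
  have hp₁ := h.prime₁
  have hp₂ := h.prime₂
  intro z hz
  obtain ⟨c, hc⟩ := Ideal.mem_span_singleton'.1 hz
  have h3 : y * c ∈ P₁ := by
    rw [mul_comm, hc]
    exact Ideal.mul_mem_right _ _ π_mem
  obtain ⟨α, β, hαβ⟩ := Ideal.mem_span_pair.1 ((hp₁.mem_or_mem h3).resolve_left h.notMem₁)
  rw [Ideal.mem_span_singleton']
  refine ⟨β, ?_⟩
  have hxy := h.xy_eq_zero ha
  have : (β * y - z) * π = 0 := by linear_combination hc + y * hαβ - α * hxy
  exact sub_eq_zero.1 ((mul_right_mem_nonZeroDivisors_eq_zero_iff h.reg).1 this)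

theorem span_y_ne_top : Ideal.span {y} ≠ ⊤ := by
  intro h0
  have h1 : y ∈ maximalIdeal B := h.y_mem_max
  rw [Ideal.span_singleton_eq_top] at h0
  exact h1 h0

theorem isPrime_span_y [IsNoetherianRing B] (ha : algebraMap S B a = 0) : (Ideal.span {y}).IsPrime := by
  have hp₁ := h.prime₁
  have hp₂ := h.prime₂
  have hdiv : ∀ u : B, u ∉ Ideal.span {y} → ∃ (i : ℕ) (u' : B), u - π ^ i * u' ∈ Ideal.span {y} ∧ u' ∉ P₂ := by
    intro u hu
    have hex : ∃ n, u ∉ Ideal.span {π ^ n} ⊔ Ideal.span {y} := by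
      by_contra hcon
      push Not at hcon
      exact hu (mem_of_forall_mem_sup_pow _ h.span_y_ne_top h.π_mem_max hcon)
    classical
    obtain ⟨k, hk⟩ : ∃ k, Nat.find hex = k + 1 := by
      refine Nat.exists_eq_succ_of_ne_zero fun h0 => ?_
      have := Nat.find_spec hex
      rw [h0] at this
      simp at this
    have h2 : u ∈ Ideal.span {π ^ k} ⊔ Ideal.span {y} := not_not.1 (Nat.find_min hex (m := k) (by omega))
    have h3 := Nat.find_spec hex
    rw [hk] at h3
    obtain ⟨c, hc, d, hd, hcd⟩ := Submodule.mem_sup.1 h2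
    obtain ⟨u', rfl⟩ := Ideal.mem_span_singleton'.1 hc
    refine ⟨k, u', ?_, fun hu' => h3 ?_⟩
    · rw [← hcd]
      have : u' * π ^ k + d - π ^ k * u' = d := by ring
      rw [this]
      exact hd
    · obtain ⟨α, β, rfl⟩ := Ideal.mem_span_pair.1 hu'
      rw [← hcd]
      refine Ideal.add_mem _ ?_ (Ideal.mem_sup_right hd)
      rw [add_mul]
      refine Ideal.add_mem _ (Ideal.mem_sup_right (Ideal.mul_mem_right _ _ (Ideal.mul_mem_left _ _ (Ideal.mem_span_singleton_self _))))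
        (Ideal.mem_sup_left (Ideal.mem_span_singleton'.2 ⟨β, by ring⟩))
  refine ⟨h.span_y_ne_top, ?_⟩
  intro u v huv
  by_contra hcon
  push Not at hcon
  obtain ⟨i, u', hu, hu'⟩ := hdiv u hcon.1
  obtain ⟨j, v', hv, hv'⟩ := hdiv v hcon.2
  have h1 : π ^ (i + j) * (u' * v') ∈ Ideal.span {y} := by
    have : π ^ (i + j) * (u' * v') = u * v - (u - π ^ i * u') * v - (π ^ i * u') * (v - π ^ j * v') := by ring
    rw [this]
    exact Ideal.sub_mem _ (Ideal.sub_mem _ huv (Ideal.mul_mem_right _ _ hu)) (Ideal.mul_mem_left _ _ hv)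
  have h2 := (h.pSat_span_y ha).pow _ h1
  have h3 : u' * v' ∈ P₂ := Ideal.span_mono (by simp) h2
  exact (hp₂.mem_or_mem h3).elim hu' hv'

/-- an invertible ideal is flat along the branch -/
theorem exists_eq_y_mul [IsNoetherianRing B] (ha : algebraMap S B a = 0) {j j' : Ideal B} {d : B} {N : ℕ} (hd : d ∈ nonZeroDivisors B)
    (h1 : j * j' ≤ Ideal.span {d}) (h2 : π ^ N * d ∈ j * j') {z : B} (hz : z ∈ j) (hzy : z ∈ Ideal.span {y}) :
    ∃ n : ℕ, ∃ β ∈ j, π ^ n * z = y * β := by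
  have hpy := h.isPrime_span_y ha
  have hdy : d ∉ Ideal.span {y} := by
    intro h3
    obtain ⟨c, hc⟩ := Ideal.mem_span_singleton'.1 h3
    have h4 : x * d = 0 := by
      have := h.xy_eq_zero ha
      rw [← hc]
      linear_combination c * this
    have h5 : x = 0 := (mul_right_mem_nonZeroDivisors_eq_zero_iff hd).1 h4
    exact h.notMem₂ (h5 ▸ Ideal.zero_mem _)
  have key : ∀ α ∈ j', ∃ v', z * α = d * y * v' := by
    intro α hα
    obtain ⟨v, hv⟩ := Ideal.mem_span_singleton'.1 (h1 (Ideal.mul_mem_mul hz hα))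
    have h3 : d * v ∈ Ideal.span {y} := by
      rw [mul_comm, hv]
      exact Ideal.mul_mem_right _ _ hzy
    obtain ⟨v', hv'⟩ := Ideal.mem_span_singleton'.1 ((hpy.mem_or_mem h3).resolve_left hdy)
    exact ⟨v', by rw [← hv, ← hv']; ring⟩
  have key2 : ∀ t ∈ j * j', ∃ β ∈ j, z * t = d * y * β := by
    intro t ht
    induction ht using Submodule.mul_induction_on' with
    | mem_mul_mem m hm n hn =>
      obtain ⟨v', hv'⟩ := key n hn
      exact ⟨m * v', Ideal.mul_mem_right _ _ hm, by linear_combination m * hv'⟩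
    | add s _ t _ hs ht =>
      obtain ⟨β, hβ, e⟩ := hs
      obtain ⟨β', hβ', e'⟩ := ht
      exact ⟨β + β', Ideal.add_mem _ hβ hβ', by rw [mul_add, e, e']; ring⟩
  obtain ⟨β, hβ, hβe⟩ := key2 _ h2
  refine ⟨N, β, hβ, ?_⟩
  have : (π ^ N * z - y * β) * d = 0 := by linear_combination hβe
  exact sub_eq_zero.1 ((mul_right_mem_nonZeroDivisors_eq_zero_iff hd).1 this)

/-- an invertible ideal is generated by one element modulo `y` -/
theorem exists_branch_generator [IsDomain S] [IsDiscreteValuationRing S] (hϖ : Irreducible ϖ) [IsNoetherianRing B]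
    [IsAdicComplete (Ideal.span {ϖ}) S] (ha : algebraMap S B a = 0) {j j' : Ideal B} {d : B} {N : ℕ} (hd : d ∈ nonZeroDivisors B)
    (h1 : j * j' ≤ Ideal.span {d}) (h2 : π ^ N * d ∈ j * j') :
    ∃ e ∈ j, ∀ b ∈ j, ∃ (n : ℕ) (w : B), ∃ β ∈ j, π ^ n * b = w * e + y * β := by
  have hp₁ := h.prime₁
  have hp₂ := h.prime₂
  let c := psat π (j ⊔ Ideal.span {y})
  have hc : PSat π c := pSat_psat π _
  have hyc : y ∈ c := le_psat π _ (Ideal.mem_sup_right (Ideal.mem_span_singleton_self _))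
  have hg : π ^ N * d ∈ nonZeroDivisors B := mul_mem (pow_mem h.reg N) hd
  have hgj : π ^ N * d ∈ j := Ideal.mul_le_right (I := j) (J := j') |> fun _ => (Ideal.mul_le_left : j * j' ≤ j) h2
  obtain ⟨s₂, hs₂, hc₂⟩ : ∃ s, s ∉ P₂ ∧ s ∈ c := by
    obtain ⟨n, hn⟩ := h.symm.exists_ord₁ hg
    obtain ⟨g', hg', h3⟩ := h.symm.ord₁_iff.1 hn
    exact ⟨g', hg', n, by rw [← h3]; exact Ideal.mem_sup_left (Ideal.mul_mem_left _ _ hgj)⟩
  obtain ⟨q, hq0, hqc, hq2, hmin⟩ := h.exists_minpoly hϖ hc h.notMem₁ hyc hs₂ hc₂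
  have hyd : y ∈ Ideal.span {aeval x q, y} := Ideal.subset_span (by simp)
  have hpe : PEq π c (Ideal.span {aeval x q, y}) := by
    refine h.peq_of_minpoly hϖ hc ?_ h.notMem₁ (le_psat π _ hyd) hq0 (Ideal.subset_span (by simp)) hq2 hmin
      ⟨0, 0, by simpa using hyd⟩
    rw [Ideal.span_le]
    rintro z (rfl | rfl)
    · exact hqc
    · exact hyc
  obtain ⟨k, hk⟩ := hqc
  obtain ⟨e, he, z, hz, hez⟩ := Submodule.mem_sup.1 hk
  obtain ⟨z, rfl⟩ := Ideal.mem_span_singleton'.1 hz
  refine ⟨e, he, fun b hb => ?_⟩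
  obtain ⟨n, hn⟩ := hpe.1 b (le_psat π _ (Ideal.mem_sup_left hb))
  obtain ⟨w, z', hwz⟩ := Ideal.mem_span_pair.1 hn
  have h3 : π ^ (n + k) * b - w * e = y * (w * z + π ^ k * z') := by
    have : π ^ (n + k) * b = π ^ k * (π ^ n * b) := by ring
    rw [this, ← hwz]
    linear_combination (-w) * hez
  have h4 : π ^ (n + k) * b - w * e ∈ j := Ideal.sub_mem _ (Ideal.mul_mem_left _ _ hb) (Ideal.mul_mem_left _ _ he)
  obtain ⟨n', β, hβ, h5⟩ := h.exists_eq_y_mul ha hd h1 h2 h4 (h3 ▸ Ideal.mul_mem_right _ _ (Ideal.mem_span_singleton_self _))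
  exact ⟨n' + (n + k), π ^ n' * w, β, hβ, by linear_combination h5⟩

/-- `B = S + (x, y)` -/
theorem exists_const [IsDomain S] [IsDiscreteValuationRing S] (hϖ : Irreducible ϖ) [IsNoetherianRing B]
    [IsAdicComplete (Ideal.span {ϖ}) S] (b : B) : ∃ (s : S) (w₁ w₂ : B), b = algebraMap S B s + x * w₁ + y * w₂ := by
  obtain ⟨b', hb', hbb⟩ := h.exists_adjoin (c := Ideal.span {x, y}) (by rw [hϖ.maximalIdeal_eq]; exact Ideal.mem_span_singleton_self _)
    h.notMem₁ (Ideal.subset_span (by simp)) h.notMem₂ (Ideal.subset_span (by simp)) b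
  have h1 : ∀ b' ∈ Algebra.adjoin S {x, y}, ∃ s : S, b' - algebraMap S B s ∈ Ideal.span {x, y} := by
    intro b' hb'
    induction hb' using Algebra.adjoin_induction with
    | mem z hz =>
      refine ⟨0, ?_⟩
      rw [map_zero, sub_zero]
      exact Ideal.subset_span hz
    | algebraMap s => exact ⟨s, by simp⟩
    | add z w _ _ hz hw =>
      obtain ⟨s, hs⟩ := hz
      obtain ⟨t, ht⟩ := hw
      refine ⟨s + t, ?_⟩
      rw [map_add]
      have : z + w - (algebraMap S B s + algebraMap S B t) = (z - algebraMap S B s) + (w - algebraMap S B t) := by ring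
      rw [this]
      exact Ideal.add_mem _ hs ht
    | mul z w _ _ hz hw =>
      obtain ⟨s, hs⟩ := hz
      obtain ⟨t, ht⟩ := hw
      refine ⟨s * t, ?_⟩
      rw [map_mul]
      have : z * w - (algebraMap S B s * algebraMap S B t) = w * (z - algebraMap S B s) + algebraMap S B s * (w - algebraMap S B t) := by
        ring
      rw [this]
      exact Ideal.add_mem _ (Ideal.mul_mem_left _ _ hs) (Ideal.mul_mem_left _ _ ht)
  obtain ⟨s, hs⟩ := h1 b' hb'
  have h2 : b - algebraMap S B s ∈ Ideal.span {x, y} := by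
    have : b - algebraMap S B s = (b - b') + (b' - algebraMap S B s) := by ring
    rw [this]
    exact Ideal.add_mem _ hbb hs
  obtain ⟨w₁, w₂, hw⟩ := Ideal.mem_span_pair.1 h2
  exact ⟨s, w₁, w₂, by linear_combination -hw⟩

theorem pow_ne (ha : algebraMap S B a = 0) (r : ℕ) (α β : B) : π ^ r ≠ x * α + y * β := by
  have hp₂ := h.prime₂
  induction r generalizing α β with
  | zero =>
    intro h0
    rw [pow_zero] at h0
    have h1 : (1 : B) ∈ maximalIdeal B := by
      rw [h0]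
      exact Ideal.add_mem _ (Ideal.mul_mem_right _ _ h.x_mem_max) (Ideal.mul_mem_right _ _ h.y_mem_max)
    exact h1 isUnit_one
  | succ r ih =>
    intro h0
    have h1 : x * α ∈ P₂ := by
      have : x * α = π * π ^ r - y * β := by rw [← pow_succ', h0]; ring
      rw [this]
      exact Ideal.sub_mem _ (Ideal.mul_mem_right _ _ (π_mem (x := y))) (Ideal.mul_mem_right _ _ (x_mem (x := y)))
    obtain ⟨α₁, α₂, hα⟩ := Ideal.mem_span_pair.1 ((hp₂.mem_or_mem h1).resolve_left h.notMem₂)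
    have h2 : π * (π ^ r - x * α₂) = y * β := by
      have hxy := h.xy_eq_zero ha
      linear_combination h0 - x * hα + α₁ * hxy
    have h3 : π * (π ^ r - x * α₂) ∈ Ideal.span {y} := by
      rw [h2]
      exact Ideal.mul_mem_right _ _ (Ideal.mem_span_singleton_self _)
    obtain ⟨γ, hγ⟩ := Ideal.mem_span_singleton'.1 (h.pSat_span_y ha _ h3)
    exact ih α₂ γ (by linear_combination -hγ)

/-- **Invertible ideals of the generic fibre are principal (infinite thickness).** -/
theorem exists_generator_of_zero [IsDomain S] [IsDiscreteValuationRing S] (hϖ : Irreducible ϖ) [IsNoetherianRing B]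
    [IsAdicComplete (Ideal.span {ϖ}) S] (ha : algebraMap S B a = 0) (j : Ideal B) (hj : PInv π j) :
    ∃ b ∈ nonZeroDivisors B, PEq π j (Ideal.span {b}) := by
  obtain ⟨j', d, N, hd, h1, h2⟩ := hj
  obtain ⟨e₁, he₁, E1⟩ := h.exists_branch_generator hϖ ha hd h1 h2
  obtain ⟨e₂, he₂, E2⟩ := h.symm.exists_branch_generator hϖ ha hd h1 h2
  have hxy := h.xy_eq_zero ha
  obtain ⟨n, w, β, hβ, hw⟩ := E1 e₂ he₂
  obtain ⟨c, w₁, w₂, hc⟩ := h.exists_const hϖ w
  have hc0 : c ≠ 0 := by
    rintro rfl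
    rw [map_zero, zero_add] at hc
    have hA : ∀ b ∈ j, ∃ m : ℕ, ∃ p ∈ j, ∃ q ∈ j, π ^ m * b = x * p + y * q := by
      intro b hb
      obtain ⟨m, w', γ, hγ, hm⟩ := E2 b hb
      refine ⟨m + n, w' * w₁ * e₁ + π ^ n * γ, Ideal.add_mem _ (Ideal.mul_mem_left _ _ he₁) (Ideal.mul_mem_left _ _ hγ),
        w' * w₂ * e₁ + w' * β, Ideal.add_mem _ (Ideal.mul_mem_left _ _ he₁) (Ideal.mul_mem_left _ _ hβ), ?_⟩
      rw [hc] at hw
      linear_combination π ^ n * hm + w' * hw
    have hB : ∀ t ∈ j * j', ∃ (m : ℕ) (p q : B), π ^ m * t = d * (x * p + y * q) := by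
      intro t ht
      induction ht using Submodule.mul_induction_on' with
      | mem_mul_mem b hb α hα =>
        obtain ⟨m, p, hp, q, hq, e⟩ := hA b hb
        obtain ⟨p', hp'⟩ := Ideal.mem_span_singleton'.1 (h1 (Ideal.mul_mem_mul hp hα))
        obtain ⟨q', hq'⟩ := Ideal.mem_span_singleton'.1 (h1 (Ideal.mul_mem_mul hq hα))
        exact ⟨m, p', q', by linear_combination α * e - x * hp' - y * hq'⟩
      | add s _ t _ hs ht =>
        obtain ⟨m, p, q, e⟩ := hs
        obtain ⟨m', p', q', e'⟩ := ht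
        exact ⟨m + m', π ^ m' * p + π ^ m * p', π ^ m' * q + π ^ m * q', by
          linear_combination π ^ m' * e + π ^ m * e'⟩
    obtain ⟨m, p, q, e⟩ := hB _ h2
    have h3 : (π ^ (m + N) - (x * p + y * q)) * d = 0 := by linear_combination e
    exact h.pow_ne ha _ _ _ (sub_eq_zero.1 ((mul_right_mem_nonZeroDivisors_eq_zero_iff hd).1 h3))
  let e := π ^ n * e₂ - x * (w₁ * e₁)
  have hej : e ∈ j := Ideal.sub_mem _ (Ideal.mul_mem_left _ _ he₂) (Ideal.mul_mem_left _ _ (Ideal.mul_mem_left _ _ he₁))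
  have he' : e = (algebraMap S B c + y * w₂) * e₁ + y * β := by
    simp only [e]
    rw [hw, hc]
    ring
  have hpe : PEq π j (Ideal.span {e}) := by
    refine ⟨fun b hb => ?_, fun b hb => ⟨0, by
      rw [pow_zero, one_mul]
      exact (Ideal.span_singleton_le_iff_mem _).2 hej hb⟩⟩
    obtain ⟨n₁, v, β₁, hβ₁, hv⟩ := E1 b hb
    let γ := algebraMap S B c * β₁ - v * (w₂ * e₁ + β)
    have hγ : γ ∈ j := Ideal.sub_mem _ (Ideal.mul_mem_left _ _ hβ₁)
      (Ideal.mul_mem_left _ _ (Ideal.add_mem _ (Ideal.mul_mem_left _ _ he₁) hβ))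
    obtain ⟨n₂, v', β₂, hβ₂, hv'⟩ := E2 γ hγ
    have h3 : algebraMap S B c * (π ^ (n + n₂ + n₁) * b) ∈ Ideal.span {e} := by
      refine Ideal.mem_span_singleton'.2 ⟨π ^ (n + n₂) * v + v' * y, ?_⟩
      have hye : y * e = π ^ n * (y * e₂) := by
        simp only [e]
        linear_combination (-(w₁ * e₁)) * hxy
      have h4 : algebraMap S B c * (π ^ n₁ * b) = v * e + y * γ := by
        simp only [γ]
        rw [he', hv]
        ring
      have h5 : π ^ n₂ * (y * γ) = v' * (y * e₂) := by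
        linear_combination y * hv' + β₂ * hxy
      calc (π ^ (n + n₂) * v + v' * y) * e = π ^ (n + n₂) * (v * e) + v' * (y * e) := by ring
        _ = π ^ (n + n₂) * (v * e) + π ^ n * (v' * (y * e₂)) := by rw [hye]; ring
        _ = π ^ (n + n₂) * (v * e + y * γ) := by rw [← h5]; ring
        _ = algebraMap S B c * (π ^ (n + n₂ + n₁) * b) := by rw [← h4]; ring
    obtain ⟨m, hm⟩ := exists_pow_mul_of_ne_zero hϖ hc0 h3
    exact ⟨m + (n + n₂ + n₁), by rw [pow_add, mul_assoc]; exact hm⟩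
  refine ⟨e, ?_, hpe⟩
  have hgj : π ^ N * d ∈ j := (Ideal.mul_le_left : j * j' ≤ j) h2
  obtain ⟨m, hm⟩ := hpe.1 _ hgj
  obtain ⟨r, hr⟩ := Ideal.mem_span_singleton'.1 hm
  have h6 : r * e ∈ nonZeroDivisors B := by
    rw [hr]
    exact mul_mem (pow_mem h.reg m) (mul_mem (pow_mem h.reg N) hd)
  exact (mul_mem_nonZeroDivisors.1 h6).2

/-- **Invertible ideals of the generic fibre are principal.** -/
theorem exists_generator [IsDomain S] [IsDiscreteValuationRing S] (hϖ : Irreducible ϖ) [IsNoetherianRing B]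
    [IsAdicComplete (Ideal.span {ϖ}) S] {l : ℕ} (ha : algebraMap S B a = if l = 0 then 0 else π ^ l) (j : Ideal B) (hj : PInv π j) :
    ∃ b ∈ nonZeroDivisors B, PEq π j (Ideal.span {b}) := by
  by_cases hl : l = 0
  · rw [if_pos hl] at ha
    exact h.exists_generator_of_zero hϖ ha j hj
  · rw [if_neg hl] at ha
    obtain ⟨j', d, N, hd, h1, h2⟩ := hj
    exact h.exists_generator_of_pow hϖ ha j (g := π ^ N * d) (mul_mem (pow_mem h.reg N) hd) ((Ideal.mul_le_left : j * j' ≤ j) h2)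

end IsNode

end K793.NodeAlg
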