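import Groth.Agent.SemiFact.K793.NodeDesc
import Groth.Agent.DualGr.K934.SerNode
import Groth.Agent.DualGr.K934.Unique

/-!
# `C[[x, y]]/(xy - Δ)` is a node in the sense of `IsNode`
-/

set_option autoImplicit false
universe u

open IsLocalRing

namespace K793.NodeSer

open K793.NodeAlg K934.SerNode

/-- transport of `IsNode` -/
theorem isNode_of_ringEquiv {S B B' : Type u} [CommRing S] [CommRing B] [CommRing B'] [IsLocalRing B] [IsLocalRing B'] [Algebra S B]
    [Algebra S B'] (e : B ≃+* B') (he : ∀ s, e (algebraMap S B s) = algebraMap S B' s) {ϖ : S} {x y : B} {a : S}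
    (h : IsNode ϖ x y a) : IsNode ϖ (e x) (e y) a := by
  have hmap : ∀ I : Ideal B, I.map (e : B →+* B') = I.comap (e.symm : B' →+* B) := fun I => by
    ext z
    constructor
    · intro hz
      rw [Ideal.mem_map_iff_of_surjective (e : B →+* B') e.surjective] at hz
      obtain ⟨w, hw, rfl⟩ := hz
      change e.symm (e w) ∈ I
      rwa [e.symm_apply_apply]
    · intro hz
      have : z = (e : B →+* B') (e.symm z) := (e.apply_symm_apply z).symm
      rw [this]
      exact Ideal.mem_map_of_mem _ hz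
  have hs : ∀ x : B, Ideal.span {e x, algebraMap S B' ϖ} = (Ideal.span {x, algebraMap S B ϖ}).map (e : B →+* B') := by
    intro x
    rw [Ideal.map_span, Set.image_insert_eq, Set.image_singleton]
    simp [he]
  have hmem : ∀ (I : Ideal B) (z : B), e z ∈ I.map (e : B →+* B') ↔ z ∈ I := by
    intro I z
    rw [hmap, Ideal.mem_comap]
    change e.symm (e z) ∈ I ↔ _
    rw [e.symm_apply_apply]
  have hpr : ∀ (I : Ideal B), I.IsPrime → (I.map (e : B →+* B')).IsPrime := by
    intro I hI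
    rw [hmap]
    exact hI.comap _
  have hmax : ∀ z : B, e z ∈ maximalIdeal B' ↔ z ∈ maximalIdeal B := by
    intro z
    rw [IsLocalRing.mem_maximalIdeal, IsLocalRing.mem_maximalIdeal, mem_nonunits_iff, mem_nonunits_iff,
      MulEquiv.isUnit_map e]
  refine ⟨?_, ?_, ?_, ?_, ?_, ?_, ?_, ?_, ?_⟩
  · rw [← map_mul, h.mul, he]
  · rw [← he, mem_nonZeroDivisors_iff_right]
    intro z hz
    obtain ⟨w, rfl⟩ := e.surjective z
    rw [← map_mul, map_eq_zero_iff e e.injective] at hz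
    rw [(mul_right_mem_nonZeroDivisors_eq_zero_iff h.reg).1 hz, map_zero]
  · ext z
    obtain ⟨w, rfl⟩ := e.surjective z
    have : Ideal.span {e x, e y, algebraMap S B' ϖ} = (Ideal.span {x, y, algebraMap S B ϖ}).map (e : B →+* B') := by
      rw [Ideal.map_span, Set.image_insert_eq, Set.image_insert_eq, Set.image_singleton]
      simp [he]
    rw [hmax, this, hmem, h.max]
  · intro b
    obtain ⟨w, rfl⟩ := e.surjective b
    obtain ⟨s, hs⟩ := h.surj w
    exact ⟨s, by rw [← he, ← map_sub, hmax]; exact hs⟩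
  · rw [hs]; exact hpr _ h.prime₁
  · rw [hs]; exact hpr _ h.prime₂
  · rw [hs, hmem]; exact h.notMem₁
  · rw [hs, hmem]; exact h.notMem₂
  · intro z hz
    obtain ⟨w, rfl⟩ := e.surjective z
    rw [Ideal.mem_inf, hs, hs, hmem, hmem] at hz
    have h1 := h.inf ⟨hz.1, hz.2⟩
    rw [← he, ← Set.image_singleton, ← RingEquiv.coe_toRingHom, ← Ideal.map_span]
    exact Ideal.mem_map_of_mem _ h1

section

variable {C : Type u} [CommRing C]

theorem axI_inf (I : Ideal C) (hI : I.FG) {F : S2 C} (h0 : axI I 0 F = 0) (h1 : axI I 1 F = 0) :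
    F ∈ I.map (MvPowerSeries.C (σ := Fin 2)) ⊔ Ideal.span {MvPowerSeries.X 0 * MvPowerSeries.X 1} := by
  have h2 : F ∈ RingHom.ker (axI I 0) := h0
  rw [ker_axI I hI (i := 0) (j := 1) (by decide)] at h2
  obtain ⟨F₁, hF₁, F₂, hF₂, rfl⟩ := Submodule.mem_sup.1 h2
  obtain ⟨G, rfl⟩ := Ideal.mem_span_singleton'.1 hF₂
  have h3 : ∀ i, axI I i F₁ = 0 := by
    intro i
    have : F₁ ∈ RingHom.ker (axI I i) := by
      obtain ⟨j, hij⟩ : ∃ j : Fin 2, i ≠ j := by
        fin_cases i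
        · exact ⟨1, by decide⟩
        · exact ⟨0, by decide⟩
      rw [ker_axI I hI hij]
      exact Ideal.mem_sup_left hF₁
    exact this
  have h4 : axI I 1 G = 0 := by
    rw [map_add, h3, zero_add, map_mul, axI_X_self] at h1
    exact PowerSeries.X_mul_cancel (by rw [mul_comm, h1, mul_zero])
  have h5 : G ∈ RingHom.ker (axI I 1) := h4
  rw [ker_axI I hI (i := 1) (j := 0) (by decide)] at h5
  obtain ⟨G₁, hG₁, G₂, hG₂, rfl⟩ := Submodule.mem_sup.1 h5
  obtain ⟨H, rfl⟩ := Ideal.mem_span_singleton'.1 hG₂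
  have : F₁ + (G₁ + H * MvPowerSeries.X 0) * MvPowerSeries.X 1 =
      (F₁ + G₁ * MvPowerSeries.X 1) + H * (MvPowerSeries.X 0 * MvPowerSeries.X 1) := by ring
  rw [this]
  exact add_mem (Ideal.mem_sup_left (add_mem hF₁ (Ideal.mul_mem_right _ _ hG₁)))
    (Ideal.mem_sup_right (Ideal.mul_mem_left _ _ (Ideal.mem_span_singleton_self _)))

variable [IsDomain C] [IsDiscreteValuationRing C]

theorem mem_span_iff_of_irreducible {ϖ : C} (hϖ : Irreducible ϖ) (c : C) : c ∈ Ideal.span {ϖ} ↔ ¬ IsUnit c := by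
  rw [← hϖ.maximalIdeal_eq, IsLocalRing.mem_maximalIdeal, mem_nonunits_iff]

theorem isNode_NN {ϖ : C} (hϖ : Irreducible ϖ) (Δ : C) (hΔ : Δ ∈ Ideal.span {ϖ}) [IsLocalRing (NN Δ)] :
    IsNode ϖ (xx Δ 0) (xx Δ 1) Δ := by
  have hfg : (Ideal.span {ϖ}).FG := ⟨{ϖ}, by simp⟩
  have hpI : (Ideal.span {ϖ}).IsPrime := by rw [← hϖ.maximalIdeal_eq]; infer_instance
  have hP : ∀ {i j : Fin 2}, i ≠ j → Ideal.span {xx Δ j, algebraMap C (NN Δ) ϖ} = RingHom.ker (nax Δ _ hΔ i) := by
    intro i j hij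
    rw [ker_nax Δ _ hfg hΔ hij, Ideal.map_span, Set.image_singleton, sup_comm, ← Ideal.span_union, Set.singleton_union]
    rfl
  have hpr : ∀ i : Fin 2, (RingHom.ker (nax Δ _ hΔ i)).IsPrime := fun i => by
    have : IsDomain (C ⧸ Ideal.span {ϖ}) := Ideal.Quotient.isDomain _
    exact RingHom.ker_isPrime _
  have h01 : Ideal.span {xx Δ 0, algebraMap C (NN Δ) ϖ} = RingHom.ker (nax Δ _ hΔ 1) := hP (by decide)
  have h10 : Ideal.span {xx Δ 1, algebraMap C (NN Δ) ϖ} = RingHom.ker (nax Δ _ hΔ 0) := hP (by decide)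
  have hnm : ∀ i : Fin 2, xx Δ i ∉ RingHom.ker (nax Δ _ hΔ i) := by
    intro i h
    rw [RingHom.mem_ker, nax_mk, axI_X_self] at h
    have : Nontrivial (C ⧸ Ideal.span {ϖ}) := Ideal.Quotient.nontrivial_iff.2 hpI.ne_top
    exact PowerSeries.X_ne_zero h
  have hle : Ideal.span {xx Δ 0, xx Δ 1, algebraMap C (NN Δ) ϖ} ≤ maximalIdeal (NN Δ) := by
    rw [Ideal.span_le]
    have h0 := IsLocalRing.le_maximalIdeal (h01 ▸ (hpr 1).ne_top : Ideal.span {xx Δ 0, algebraMap C (NN Δ) ϖ} ≠ ⊤)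
    have h1 := IsLocalRing.le_maximalIdeal (h10 ▸ (hpr 0).ne_top : Ideal.span {xx Δ 1, algebraMap C (NN Δ) ϖ} ≠ ⊤)
    rintro z (rfl | rfl | rfl)
    · exact h0 (Ideal.subset_span (by simp))
    · exact h1 (Ideal.subset_span (by simp))
    · exact h0 (Ideal.subset_span (by simp))
  have hdec : ∀ F : S2 C, Ideal.Quotient.mk (srel Δ) F - algebraMap C (NN Δ) (MvPowerSeries.constantCoeff F) ∈
      Ideal.span {xx Δ 0, xx Δ 1} := by
    intro F
    have h2 : F - MvPowerSeries.C (MvPowerSeries.constantCoeff F) ∈ Groth.Agent.Ega41.MvPS.varIdeal (Fin 2) C := by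
      rw [Groth.Agent.Ega41.MvPS.mem_varIdeal_iff]
      simp
    have h3 : Groth.Agent.Ega41.MvPS.varIdeal (Fin 2) C = Ideal.span {MvPowerSeries.X 0, MvPowerSeries.X 1} := by
      unfold Groth.Agent.Ega41.MvPS.varIdeal
      congr 1
      ext z
      simp only [Set.mem_range, Set.mem_insert_iff, Set.mem_singleton_iff, Fin.exists_fin_two]
      tauto
    rw [h3] at h2
    have h4 := Ideal.mem_map_of_mem (Ideal.Quotient.mk (srel Δ)) h2
    rw [Ideal.map_span, Set.image_insert_eq, Set.image_singleton, map_sub] at h4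
    exact h4
  refine ⟨xx_mul Δ, ?_, ?_, ?_, ?_, ?_, ?_, ?_, ?_⟩
  · rw [mem_nonZeroDivisors_iff_right]
    intro z hz
    obtain ⟨F, rfl⟩ := Ideal.Quotient.mk_surjective z
    have h1 : F * MvPowerSeries.C ϖ ∈ srel Δ := by
      rw [← Ideal.Quotient.eq_zero_iff_mem, map_mul]
      exact hz
    obtain ⟨G, hG⟩ := mem_srel.1 h1
    have hdom : IsDomain (C ⧸ Ideal.span {ϖ}) := Ideal.Quotient.isDomain _
    have h2 : MvPowerSeries.map (σ := Fin 2) (Ideal.Quotient.mk (Ideal.span {ϖ})) G = 0 := by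
      have h3 := congrArg (MvPowerSeries.map (σ := Fin 2) (Ideal.Quotient.mk (Ideal.span {ϖ}))) hG
      have hΔ0 : Ideal.Quotient.mk (Ideal.span {ϖ}) Δ = 0 := Ideal.Quotient.eq_zero_iff_mem.2 hΔ
      have hϖ0 : Ideal.Quotient.mk (Ideal.span {ϖ}) ϖ = 0 := Ideal.Quotient.eq_zero_iff_mem.2 (Ideal.mem_span_singleton_self _)
      rw [map_mul, map_mul, map_sub, map_mul, MvPowerSeries.map_C, MvPowerSeries.map_C, MvPowerSeries.map_X, MvPowerSeries.map_X,
        hΔ0, hϖ0, map_zero, mul_zero, sub_zero] at h3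
      have hX : ∀ i : Fin 2, (MvPowerSeries.X i : MvPowerSeries (Fin 2) (C ⧸ Ideal.span {ϖ})) ≠ 0 := by
        intro i h
        have := congrArg (MvPowerSeries.coeff (Finsupp.single i 1)) h
        rw [MvPowerSeries.coeff_X, if_pos rfl, map_zero] at this
        exact one_ne_zero this
      rcases mul_eq_zero.1 h3 with h4 | h4
      · exact h4
      · exact ((mul_ne_zero (hX 0) (hX 1)) h4).elim
    have h3 : G ∈ RingHom.ker (MvPowerSeries.map (σ := Fin 2) (Ideal.Quotient.mk (Ideal.span {ϖ}))) := h2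
    rw [ker_map _ hfg, Ideal.map_span, Set.image_singleton] at h3
    obtain ⟨G', rfl⟩ := Ideal.mem_span_singleton'.1 h3
    refine Ideal.Quotient.eq_zero_iff_mem.2 (mem_srel.2 ⟨G', ?_⟩)
    have hC : (MvPowerSeries.C ϖ : S2 C) ≠ 0 := by
      intro h
      have h5 := congrArg MvPowerSeries.constantCoeff h
      rw [MvPowerSeries.constantCoeff_C, map_zero] at h5
      exact hϖ.ne_zero h5
    refine mul_right_cancel₀ hC ?_
    rw [← hG]
    ring
  · refine le_antisymm ?_ hle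
    intro b hb
    obtain ⟨F, rfl⟩ := Ideal.Quotient.mk_surjective b
    have h1 : MvPowerSeries.constantCoeff F ∈ Ideal.span {ϖ} := by
      rw [mem_span_iff_of_irreducible hϖ]
      intro hu
      exact hb ((MvPowerSeries.isUnit_iff_constantCoeff.2 hu).map (Ideal.Quotient.mk (srel Δ)))
    obtain ⟨c, hc⟩ := Ideal.mem_span_singleton'.1 h1
    have h2 := hdec F
    have h3 : Ideal.Quotient.mk (srel Δ) F = (Ideal.Quotient.mk (srel Δ) F - algebraMap C (NN Δ) (MvPowerSeries.constantCoeff F)) +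
        algebraMap C (NN Δ) c * algebraMap C (NN Δ) ϖ := by
      rw [← map_mul, hc]
      ring
    rw [h3]
    refine add_mem (Ideal.span_mono ?_ h2) (Ideal.mul_mem_left _ _ (Ideal.subset_span (by simp)))
    intro z hz
    simp only [Set.mem_insert_iff, Set.mem_singleton_iff] at hz ⊢
    tauto
  · intro b
    obtain ⟨F, rfl⟩ := Ideal.Quotient.mk_surjective b
    refine ⟨MvPowerSeries.constantCoeff F, hle (Ideal.span_mono ?_ (hdec F))⟩
    intro z hz
    simp only [Set.mem_insert_iff, Set.mem_singleton_iff] at hz ⊢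
    tauto
  · rw [h01]; exact hpr 1
  · rw [h10]; exact hpr 0
  · rw [h01]; exact hnm 1
  · rw [h10]; exact hnm 0
  · rw [h01, h10]
    rintro z ⟨hz1, hz0⟩
    obtain ⟨F, rfl⟩ := Ideal.Quotient.mk_surjective z
    have h2 := axI_inf _ hfg (F := F) hz0 hz1
    have h3 := Ideal.mem_map_of_mem (Ideal.Quotient.mk (srel Δ)) h2
    rw [Ideal.map_sup, Ideal.map_map, Ideal.map_span, Ideal.map_span, Set.image_singleton, Set.image_singleton, map_mul] at h3
    refine (sup_le ?_ ?_ : _ ≤ Ideal.span {algebraMap C (NN Δ) ϖ}) h3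
    · exact le_refl _
    · rw [Ideal.span_singleton_le_iff_mem]
      change xx Δ 0 * xx Δ 1 ∈ _
      rw [xx_mul]
      obtain ⟨c, hc⟩ := Ideal.mem_span_singleton'.1 hΔ
      rw [← hc, map_mul]
      exact Ideal.mul_mem_left _ _ (Ideal.mem_span_singleton_self _)

end

end K793.NodeSer
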