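import Groth.Agent.SemiFact.K793.NodeSer
import Groth.Agent.DualGr.K934.StalkUfd
import Groth.Agent.S0549

/-!
# From `IsThickNode` to `IsNode` on the completion
-/

set_option autoImplicit false
universe u

open IsLocalRing

namespace K793.NodeThick

open K793.NodeAlg K793.NodeSer K793.NodeDesc K934.SerNode

theorem isDiscreteValuationRing_cpl (R : Type u) [CommRing R] [IsDomain R] [IsDiscreteValuationRing R] :
    ∃ _ : IsDomain (Curv2.cpl R), IsDiscreteValuationRing (Curv2.cpl R) :=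
  (Groth.Agent.S0549.result R).1 ⟨inferInstance, inferInstance⟩

theorem maximalIdeal_cpl (R : Type u) [CommRing R] [IsLocalRing R] [IsNoetherianRing R] :
    (maximalIdeal R).map (algebraMap R (Curv2.cpl R)) = maximalIdeal (Curv2.cpl R) :=
  AdicCompletion.maximalIdeal_eq_map.symm

theorem irreducible_cpl (R : Type u) [CommRing R] [IsDomain R] [IsDiscreteValuationRing R] [IsDomain (Curv2.cpl R)]
    [IsDiscreteValuationRing (Curv2.cpl R)] {ϖ : R} (hϖ : Irreducible ϖ) : Irreducible (algebraMap R (Curv2.cpl R) ϖ) := by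
  rw [IsDiscreteValuationRing.irreducible_iff_uniformizer, ← maximalIdeal_cpl]
  refine (congrArg (Ideal.map (algebraMap R (Curv2.cpl R))) hϖ.maximalIdeal_eq).trans ?_
  rw [Ideal.map_span, Set.image_singleton]

/-- the algebra structure on the completion of `A` over the completion of `R`, through the node ring -/
theorem exists_isNode (R A : Type u) [CommRing R] [IsDomain R] [IsDiscreteValuationRing R] [CommRing A] [IsLocalRing A]
    [IsNoetherianRing A] (φ : R →+* A) {ϖ : R} (hϖ : Irreducible ϖ) (l : ℕ)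
    (h : DualGr.IsThickNode φ (if l = 0 then 0 else ϖ ^ l)) :
    ∃ (_ : Algebra (Curv2.cpl R) (Curv2.cpl A)) (x y : Curv2.cpl A) (a : Curv2.cpl R),
      algebraMap (Curv2.cpl R) (Curv2.cpl A) a =
        (if l = 0 then 0 else algebraMap (Curv2.cpl R) (Curv2.cpl A) (algebraMap R (Curv2.cpl R) ϖ) ^ l) ∧
      algebraMap (Curv2.cpl R) (Curv2.cpl A) (algebraMap R (Curv2.cpl R) ϖ) = algebraMap A (Curv2.cpl A) (φ ϖ) ∧
      IsNode (algebraMap R (Curv2.cpl R) ϖ) x y a := by
  obtain ⟨e, he⟩ := h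
  obtain ⟨hd, hdvr⟩ := isDiscreteValuationRing_cpl R
  let Δ : Curv2.cpl R := algebraMap R (Curv2.cpl R) (if l = 0 then 0 else ϖ ^ l)
  let e2 : DualGr.nodeRing R (if l = 0 then 0 else ϖ ^ l) ≃+* NN Δ := Ideal.quotEquivOfEq (srel_eq _).symm
  let e3 : NN Δ ≃+* Curv2.cpl A := (e.trans e2).symm
  let alg : Algebra (Curv2.cpl R) (Curv2.cpl A) := (e3.toRingHom.comp (algebraMap (Curv2.cpl R) (NN Δ))).toAlgebra
  have hΔ : Δ ∈ Ideal.span {algebraMap R (Curv2.cpl R) ϖ} := by
    simp only [Δ]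
    split_ifs with hl
    · rw [map_zero]; exact Ideal.zero_mem _
    · rw [map_pow]
      exact Ideal.pow_mem_of_mem _ (Ideal.mem_span_singleton_self _) _ (Nat.pos_of_ne_zero hl)
  have hloc : IsLocalRing (NN Δ) := e3.symm.isLocalRing
  have h1 := isNode_of_ringEquiv e3 (fun s => rfl) (isNode_NN (irreducible_cpl R hϖ) Δ hΔ)
  refine ⟨alg, e3 (xx Δ 0), e3 (xx Δ 1), Δ, ?_, ?_, h1⟩
  · simp only [Δ]
    split_ifs with hl
    · rw [map_zero, map_zero]
    · rw [map_pow, map_pow]
  · change e3 (algebraMap (Curv2.cpl R) (NN Δ) (algebraMap R (Curv2.cpl R) ϖ)) = _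
    rw [RingEquiv.symm_apply_eq]
    change _ = e2 (e (algebraMap A (Curv2.cpl A) (φ ϖ)))
    rw [he]
    rfl

end K793.NodeThick
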