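import Groth.Agent.Models.NodeRing
import Groth.Agent.S2498
import Mathlib.RingTheory.Etale.Kaehler
import Mathlib.RingTheory.Flat.TorsionFree
import Mathlib.RingTheory.OrderOfVanishing.Basic
import Mathlib.Algebra.TrivSqZeroExt.Basic
import Mathlib.RingTheory.DiscreteValuationRing.Basic
import Mathlib.RingTheory.Valuation.ValuationRing

/-!
# Torsion of the differentials of a node along a point with values in a discrete valuation ring
-/

set_option autoImplicit false
universe u

open IsLocalRing TensorProduct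

namespace K793.OmegaAlg

section TL

/-- the length of the torsion submodule -/
noncomputable def tl (O : Type u) [CommRing O] (M : Type u) [AddCommGroup M] [Module O M] : ℕ∞ :=
  Module.length O (Submodule.torsion O M)

variable {O : Type u} [CommRing O]

theorem mem_torsion_iff {M : Type u} [AddCommGroup M] [Module O M] (m : M) :
    m ∈ Submodule.torsion O M ↔ ∃ s ∈ nonZeroDivisors O, s • m = 0 := by
  rw [Submodule.mem_torsion_iff]
  constructor
  · rintro ⟨s, hs⟩
    exact ⟨s.1, s.2, hs⟩
  · rintro ⟨s, hs, h⟩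
    exact ⟨⟨s, hs⟩, h⟩

theorem tl_congr {M N : Type u} [AddCommGroup M] [Module O M] [AddCommGroup N] [Module O N] (e : M ≃ₗ[O] N) : tl O M = tl O N := by
  unfold tl
  have h : (Submodule.torsion O M).map (e : M →ₗ[O] N) = Submodule.torsion O N := by
    ext n
    rw [Submodule.mem_map, mem_torsion_iff]
    constructor
    · rintro ⟨m, hm, rfl⟩
      obtain ⟨s, hs, h⟩ := (mem_torsion_iff m).1 hm
      exact ⟨s, hs, by rw [← map_smul, h, map_zero]⟩
    · rintro ⟨s, hs, h⟩
      refine ⟨e.symm n, (mem_torsion_iff _).2 ⟨s, hs, ?_⟩, by simp⟩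
      rw [← map_smul, h, map_zero]
  exact ((e.submoduleMap (Submodule.torsion O M)).trans (LinearEquiv.ofEq _ _ h)).length_eq

/-- torsion and flat base change -/
theorem tl_baseChange {O' : Type u} [CommRing O'] [IsDomain O] [IsDiscreteValuationRing O] [IsDomain O'] [IsLocalRing O'] [Algebra O O']
    [IsLocalHom (algebraMap O O')] [Module.FaithfullyFlat O O'] (hm : (maximalIdeal O).map (algebraMap O O') = maximalIdeal O')
    (M : Type u) [AddCommGroup M] [Module O M] : tl O' (O' ⊗[O] M) = tl O M := by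
  let T := Submodule.torsion O M
  let φ : O' ⊗[O] T →ₗ[O'] O' ⊗[O] M := AlgebraTensorModule.lTensor O' O' T.subtype
  have hφ : Function.Injective φ := Module.Flat.lTensor_preserves_injective_linearMap (M := O') T.subtype T.injective_subtype
  have hinj : Function.Injective (algebraMap O O') := FaithfulSMul.algebraMap_injective O O'
  have hrange : LinearMap.range φ = Submodule.torsion O' (O' ⊗[O] M) := by
    apply le_antisymm
    · rintro _ ⟨x, rfl⟩
      have key : ∀ x : O' ⊗[O] T, ∃ s : O, s ≠ 0 ∧ s • x = 0 := by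
        intro x
        induction x using TensorProduct.induction_on with
        | zero => exact ⟨1, one_ne_zero, smul_zero _⟩
        | tmul o t =>
          obtain ⟨s, hs, h⟩ := (mem_torsion_iff t.1).1 t.2
          refine ⟨s, nonZeroDivisors.ne_zero hs, ?_⟩
          rw [← TensorProduct.tmul_smul]
          have : s • t = 0 := Subtype.ext h
          rw [this, TensorProduct.tmul_zero]
        | add x y hx hy =>
          obtain ⟨s, hs, h⟩ := hx
          obtain ⟨s', hs', h'⟩ := hy
          exact ⟨s * s', mul_ne_zero hs hs', by rw [smul_add, mul_comm s s', mul_smul, h, mul_comm s' s, mul_smul, h']; simp⟩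
      obtain ⟨s, hs, h⟩ := key x
      refine (mem_torsion_iff _).2 ⟨algebraMap O O' s, mem_nonZeroDivisors_of_ne_zero ?_, ?_⟩
      · rw [Ne, map_eq_zero_iff _ hinj]; exact hs
      · rw [← map_smul, algebraMap_smul, h, map_zero]
    · intro x hx
      obtain ⟨s, hs, h⟩ := (mem_torsion_iff _).1 hx
      have hex : Function.Exact φ (AlgebraTensorModule.lTensor O' O' T.mkQ) := lTensor_exact O' (LinearMap.exact_subtype_mkQ T) (Submodule.mkQ_surjective T)
      refine (hex x).1 ?_
      have htf : Module.IsTorsionFree O (M ⧸ T) := Submodule.isTorsionFree_iff_torsion_eq_bot.2 Submodule.QuotientTorsion.torsion_eq_bot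
      have hfl : Module.Flat O (M ⧸ T) := inferInstance
      have hfl' : Module.Flat O' (O' ⊗[O] (M ⧸ T)) := inferInstance
      have h1 := Module.Flat.torsion_eq_bot (R := O') (M := O' ⊗[O] (M ⧸ T))
      rw [← Submodule.mem_bot O', ← h1]
      exact (mem_torsion_iff _).2 ⟨s, hs, by rw [← map_smul, h, map_zero]⟩
  have e : (O' ⊗[O] T) ≃ₗ[O'] Submodule.torsion O' (O' ⊗[O] M) := (LinearEquiv.ofInjective φ hφ).trans (LinearEquiv.ofEq _ _ hrange)
  have h2 : Module.length O' (O' ⧸ ((IsLocalRing.maximalIdeal O).map (algebraMap O O') • (⊤ : Submodule O' O'))) = 1 := by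
    rw [hm, smul_eq_mul, Ideal.mul_top]
    exact Module.length_eq_one_iff.2 (isSimpleModule_iff_isCoatom.2 (maximalIdeal.isMaximal O').out)
  unfold tl
  rw [← e.length_eq, Groth.Agent.S2498.result (A := O) (B := O') T O' (by
    rw [← Module.length_ne_top_iff, h2]; exact ENat.one_ne_top), h2, mul_one]

end TL

section Pair

variable {O : Type u} [CommRing O] [IsDomain O] [IsDiscreteValuationRing O]

/-- the quotient of the free module of rank two by one vector -/
abbrev QQ (e : O × O) : Type u := (O × O) ⧸ Submodule.span O {e}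

theorem tl_QQ_zero : tl O (QQ (0 : O × O)) = 0 := by
  unfold tl
  rw [Module.length_eq_zero_iff]
  refine ⟨fun a b => ?_⟩
  have key : ∀ a : Submodule.torsion O (QQ (0 : O × O)), a = 0 := by
    rintro ⟨m, hm⟩
    obtain ⟨s, hs, h⟩ := (mem_torsion_iff m).1 hm
    obtain ⟨w, rfl⟩ := Submodule.Quotient.mk_surjective _ m
    rw [← Submodule.Quotient.mk_smul, Submodule.Quotient.mk_eq_zero, Submodule.mem_span_singleton] at h
    obtain ⟨c, hc⟩ := h
    rw [smul_zero] at hc
    have hs0 : s ≠ 0 := nonZeroDivisors.ne_zero hs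
    have hw : w = 0 := by
      have h1 : s * w.1 = 0 := (congrArg Prod.fst hc).symm
      have h2 : s * w.2 = 0 := (congrArg Prod.snd hc).symm
      exact Prod.ext ((mul_eq_zero.1 h1).resolve_left hs0) ((mul_eq_zero.1 h2).resolve_left hs0)
    apply Subtype.ext
    change Submodule.Quotient.mk w = 0
    rw [hw, Submodule.Quotient.mk_zero]
  rw [key a, key b]

theorem tl_QQ {d : O} (hd : d ≠ 0) {e₀ : O × O} (lam : O × O →ₗ[O] O) (hlam : lam e₀ = 1) : tl O (QQ (d • e₀)) = Ring.ord O d := by
  unfold tl Ring.ord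
  let φ : O →ₗ[O] QQ (d • e₀) := (Submodule.mkQ _).comp (LinearMap.toSpanSingleton O (O × O) e₀)
  have hφ : ∀ c, φ c = Submodule.Quotient.mk (c • e₀) := fun c => rfl
  have hr : LinearMap.range φ = Submodule.torsion O (QQ (d • e₀)) := by
    apply le_antisymm
    · rintro _ ⟨c, rfl⟩
      refine (mem_torsion_iff _).2 ⟨d, mem_nonZeroDivisors_of_ne_zero hd, ?_⟩
      rw [hφ, ← Submodule.Quotient.mk_smul, Submodule.Quotient.mk_eq_zero, Submodule.mem_span_singleton]
      exact ⟨c, by rw [smul_comm]⟩
    · intro m hm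
      obtain ⟨s, hs, h⟩ := (mem_torsion_iff m).1 hm
      obtain ⟨w, rfl⟩ := Submodule.Quotient.mk_surjective _ m
      rw [← Submodule.Quotient.mk_smul, Submodule.Quotient.mk_eq_zero, Submodule.mem_span_singleton] at h
      obtain ⟨c, hc⟩ := h
      have hs0 : s ≠ 0 := nonZeroDivisors.ne_zero hs
      have h1 : c * d = s * lam w := by
        have := congrArg lam hc
        rwa [map_smul, map_smul, map_smul, hlam, smul_eq_mul, smul_eq_mul, smul_eq_mul, mul_one] at this
      have hw : w = lam w • e₀ := by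
        have h2 : s • (w - lam w • e₀) = 0 := by
          rw [smul_sub, ← hc, smul_smul, smul_smul, h1, sub_self]
        have h3 : s * (w - lam w • e₀).1 = 0 := congrArg Prod.fst h2
        have h4 : s * (w - lam w • e₀).2 = 0 := congrArg Prod.snd h2
        exact sub_eq_zero.1 (Prod.ext ((mul_eq_zero.1 h3).resolve_left hs0) ((mul_eq_zero.1 h4).resolve_left hs0))
      exact ⟨lam w, by rw [hφ, ← hw]⟩
  have hk : LinearMap.ker φ = Ideal.span {d} := by
    ext c
    rw [LinearMap.mem_ker, hφ, Submodule.Quotient.mk_eq_zero, Submodule.mem_span_singleton, Ideal.mem_span_singleton']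
    constructor
    · rintro ⟨c', hc'⟩
      refine ⟨c', ?_⟩
      have := congrArg lam hc'
      rwa [map_smul, map_smul, map_smul, hlam, smul_eq_mul, smul_eq_mul, smul_eq_mul, mul_one, mul_one] at this
    · rintro ⟨c', rfl⟩
      exact ⟨c', by rw [smul_smul]⟩
  have e := (Submodule.quotEquivOfEq _ _ hk.symm).trans ((LinearMap.quotKerEquivRange φ).trans (LinearEquiv.ofEq _ _ hr))
  exact e.length_eq.symm

/-- a nonzero vector is a multiple of a unimodular one -/
theorem exists_unimodular {e : O × O} (he : e ≠ 0) : ∃ (d : O) (e₀ : O × O) (lam : O × O →ₗ[O] O), d ≠ 0 ∧ e = d • e₀ ∧ lam e₀ = 1 := by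
  obtain ⟨x, y⟩ := e
  rcases ValuationRing.dvd_total x y with ⟨c, rfl⟩ | ⟨c, rfl⟩
  · refine ⟨x, (1, c), LinearMap.fst O O O, ?_, ?_, rfl⟩
    · rintro rfl
      exact he (by simp)
    · simp
  · refine ⟨y, (c, 1), LinearMap.snd O O O, ?_, ?_, rfl⟩
    · rintro rfl
      exact he (by simp)
    · simp

theorem tl_QQ_smul (e : O × O) {t : O} (ht : t ≠ 0) (ht' : Ring.ord O t ≠ ⊤) : tl O (QQ e) ≤ tl O (QQ (t • e)) - Ring.ord O t := by
  by_cases he : e = 0
  · subst he
    rw [tl_QQ_zero]
    exact bot_le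
  obtain ⟨d, e₀, lam, hd, rfl, hlam⟩ := exists_unimodular he
  rw [tl_QQ hd lam hlam, smul_smul, tl_QQ (mul_ne_zero ht hd) lam hlam, Ring.ord_mul O (mem_nonZeroDivisors_of_ne_zero hd)]
  refine ENat.le_sub_of_add_le_right ht' ?_
  rw [add_comm]

end Pair

section Node

/-- the universal property of `D[x, y]/(xy - α)` -/
structure IsNodeRing {D N : Type u} [CommRing D] [CommRing N] [Algebra D N] (α : D) (x y : N) : Prop where
  mul : x * y = algebraMap D N α
  lift : ∀ {B : Type u} [CommRing B] (φ : D →+* B) (b c : B), b * c = φ α → ∃ F : N →+* B, (∀ d, F (algebraMap D N d) = φ d) ∧ F x = b ∧ F y = c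
  ext : ∀ {B : Type u} [CommRing B] {f g : N →+* B}, (∀ d, f (algebraMap D N d) = g (algebraMap D N d)) → f x = g x → f y = g y → f = g
  ind : ∀ {p : N → Prop}, (∀ d, p (algebraMap D N d)) → (∀ a b, p a → p b → p (a + b)) → (∀ a, p a → p (a * x)) → (∀ a, p a → p (a * y)) →
    ∀ a, p a

theorem isNodeRing_W (D : Type u) [CommRing D] (α : D) :
    IsNodeRing α (Groth.Agent.Models.NodeRing.uu D α) (Groth.Agent.Models.NodeRing.vv D α) where
  mul := Groth.Agent.Models.NodeRing.uu_mul_vv D α
  lift := fun φ b c h => ⟨Groth.Agent.Models.NodeRing.lift φ b c h, Groth.Agent.Models.NodeRing.lift_algebraMap φ b c h,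
    Groth.Agent.Models.NodeRing.lift_uu φ b c h, Groth.Agent.Models.NodeRing.lift_vv φ b c h⟩
  ext := fun h1 h2 h3 => Groth.Agent.Models.NodeRing.hom_ext h1 h2 h3
  ind := fun h1 h2 h3 h4 a => Groth.Agent.Models.NodeRing.induction D α h1 h2 h3 h4 a

variable (R : Type u) {D N O : Type u} [CommRing R] [CommRing D] [CommRing N] [CommRing O] {α : D} {x y : N} [Algebra R D] [Algebra D N]
  [Algebra R N] [IsScalarTower R D N] [Algebra N O] (h : IsNodeRing α x y)

/-- the module of differentials -/
abbrev QN (O : Type u) {N : Type u} [CommRing O] [CommRing N] [Algebra N O] (x y : N) : Type u :=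
  QQ (algebraMap N O y, algebraMap N O x)

omit [IsScalarTower R D N] [Algebra R D] [Algebra R N] in
include h in
theorem exists_hom : ∃ F : N →+* TrivSqZeroExt O (QN O x y), (∀ d, F (algebraMap D N d) = TrivSqZeroExt.inl (algebraMap N O (algebraMap D N d))) ∧
    F x = TrivSqZeroExt.inl (algebraMap N O x) + TrivSqZeroExt.inr (Submodule.Quotient.mk (1, 0)) ∧
    F y = TrivSqZeroExt.inl (algebraMap N O y) + TrivSqZeroExt.inr (Submodule.Quotient.mk (0, 1)) := by
  refine h.lift ((TrivSqZeroExt.inlHom O (QN O x y)).comp ((algebraMap N O).comp (algebraMap D N)))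
    (TrivSqZeroExt.inl (algebraMap N O x) + TrivSqZeroExt.inr (Submodule.Quotient.mk (1, 0)))
    (TrivSqZeroExt.inl (algebraMap N O y) + TrivSqZeroExt.inr (Submodule.Quotient.mk (0, 1))) ?_
  apply TrivSqZeroExt.ext
  · rw [TrivSqZeroExt.fst_mul]
    simp only [TrivSqZeroExt.fst_add, TrivSqZeroExt.fst_inl, TrivSqZeroExt.fst_inr, add_zero, RingHom.comp_apply,
      TrivSqZeroExt.inlHom_apply]
    rw [← h.mul, map_mul]
  · rw [TrivSqZeroExt.snd_mul]
    simp only [TrivSqZeroExt.fst_add, TrivSqZeroExt.fst_inl, TrivSqZeroExt.fst_inr, TrivSqZeroExt.snd_add, TrivSqZeroExt.snd_inl,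
      TrivSqZeroExt.snd_inr, add_zero, zero_add, RingHom.comp_apply, TrivSqZeroExt.inlHom_apply, op_smul_eq_smul]
    rw [← Submodule.Quotient.mk_smul, ← Submodule.Quotient.mk_smul, ← Submodule.Quotient.mk_add, Submodule.Quotient.mk_eq_zero,
      Submodule.mem_span_singleton]
    exact ⟨1, by simp [Algebra.smul_def]⟩

variable [Algebra R O] [IsScalarTower R N O]

include h in
theorem exists_der : ∃ δ : Derivation R N (QN O x y), (∀ d, δ (algebraMap D N d) = 0) ∧
    δ x = Submodule.Quotient.mk (1, 0) ∧ δ y = Submodule.Quotient.mk (0, 1) := by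
  obtain ⟨F, hD, hu, hv⟩ := exists_hom (O := O) h
  have hF : ∀ w, (F w).fst = algebraMap N O w := by
    have : (TrivSqZeroExt.fstHom O O (QN O x y)).toRingHom.comp F = algebraMap N O := by
      apply h.ext
      · intro d
        change (F (algebraMap D _ d)).fst = _
        rw [hD, TrivSqZeroExt.fst_inl]
      · change (F x).fst = _
        rw [hu, TrivSqZeroExt.fst_add, TrivSqZeroExt.fst_inl, TrivSqZeroExt.fst_inr, add_zero]
      · change (F y).fst = _
        rw [hv, TrivSqZeroExt.fst_add, TrivSqZeroExt.fst_inl, TrivSqZeroExt.fst_inr, add_zero]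
    intro w
    exact congrArg (fun g : N →+* O => g w) this
  have hmul : ∀ a b, (F (a * b)).snd = a • (F b).snd + b • (F a).snd := by
    intro a b
    rw [map_mul, TrivSqZeroExt.snd_mul, hF, hF, op_smul_eq_smul, algebraMap_smul, algebraMap_smul]
  have hD0 : ∀ d, (F (algebraMap D N d)).snd = 0 := fun d => by rw [hD, TrivSqZeroExt.snd_inl]
  have hR : ∀ r : R, (F (algebraMap R N r)).snd = 0 := fun r => by
    rw [IsScalarTower.algebraMap_apply R D N]
    exact hD0 _
  let L : N →ₗ[R] QN O x y :=
    { toFun := fun w => (F w).snd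
      map_add' := fun a b => by rw [map_add, TrivSqZeroExt.snd_add]
      map_smul' := fun r a => by
        rw [Algebra.smul_def, hmul, hR, smul_zero, add_zero, RingHom.id_apply, algebraMap_smul] }
  refine ⟨Derivation.mk' L hmul, hD0, ?_, ?_⟩
  · change (F x).snd = _
    rw [hu, TrivSqZeroExt.snd_add, TrivSqZeroExt.snd_inl, TrivSqZeroExt.snd_inr, zero_add]
  · change (F y).snd = _
    rw [hv, TrivSqZeroExt.snd_add, TrivSqZeroExt.snd_inl, TrivSqZeroExt.snd_inr, zero_add]

variable (O) in
include h in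
/-- the differentials of the node -/
theorem exists_equiv [Algebra.FormallyUnramified R D] :
    Nonempty (O ⊗[N] Ω[N⁄R] ≃ₗ[O] QN O x y) := by
  obtain ⟨δ, hD, hu, hv⟩ := exists_der R (O := O) h
  let Φ : O ⊗[N] Ω[N⁄R] →ₗ[O] QN O x y := δ.liftKaehlerDifferential.liftBaseChange O
  have hΦ : ∀ w, Φ (1 ⊗ₜ KaehlerDifferential.D R N w) = δ w := by
    intro w
    change δ.liftKaehlerDifferential.liftBaseChange O _ = _
    rw [LinearMap.liftBaseChange_one_tmul, Derivation.liftKaehlerDifferential_comp_D]
  have hdD : ∀ d : D, KaehlerDifferential.D R N (algebraMap D N d) = 0 := by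
    intro d
    rw [← KaehlerDifferential.map_D R R D N d]
    have : KaehlerDifferential.D R D d = 0 := Subsingleton.elim _ _
    rw [this, map_zero]
  let Ψ : QN O x y →ₗ[O] O ⊗[N] Ω[N⁄R] := Submodule.liftQ _
    (LinearMap.coprod (LinearMap.toSpanSingleton O _ (1 ⊗ₜ KaehlerDifferential.D R N x))
      (LinearMap.toSpanSingleton O _ (1 ⊗ₜ KaehlerDifferential.D R N y))) (by
      rw [Submodule.span_le, Set.singleton_subset_iff, SetLike.mem_coe, LinearMap.mem_ker, LinearMap.coprod_apply,
        LinearMap.toSpanSingleton_apply, LinearMap.toSpanSingleton_apply, algebraMap_smul, algebraMap_smul, ← TensorProduct.tmul_smul,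
        ← TensorProduct.tmul_smul, ← TensorProduct.tmul_add]
      have h1 := hdD α
      rw [← h.mul, Derivation.leibniz, add_comm] at h1
      rw [h1, TensorProduct.tmul_zero])
  have hΨu : Ψ (Submodule.Quotient.mk (1, 0)) = 1 ⊗ₜ KaehlerDifferential.D R N x := by
    refine (Submodule.liftQ_apply _ _ _).trans ?_
    rw [LinearMap.coprod_apply, LinearMap.toSpanSingleton_apply, LinearMap.toSpanSingleton_apply, one_smul, zero_smul, add_zero]
  have hΨv : Ψ (Submodule.Quotient.mk (0, 1)) = 1 ⊗ₜ KaehlerDifferential.D R N y := by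
    refine (Submodule.liftQ_apply _ _ _).trans ?_
    rw [LinearMap.coprod_apply, LinearMap.toSpanSingleton_apply, LinearMap.toSpanSingleton_apply, one_smul, zero_smul, zero_add]
  have hΨδ : ∀ w, Ψ (δ w) = 1 ⊗ₜ KaehlerDifferential.D R N w := by
    have hsm : ∀ (w : N) (m : QN O x y), Ψ (w • m) = w • Ψ m := fun w m => by
      rw [← algebraMap_smul O w m, map_smul, algebraMap_smul]
    refine h.ind (fun d => ?_) (fun a b ha hb => ?_) (fun a ha => ?_) (fun a ha => ?_)
    · rw [hD, map_zero, hdD, TensorProduct.tmul_zero]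
    · rw [map_add, map_add, ha, hb, map_add, TensorProduct.tmul_add]
    · rw [Derivation.leibniz, map_add, hsm, hsm, ha, hu, hΨu, Derivation.leibniz, TensorProduct.tmul_add, TensorProduct.tmul_smul,
        TensorProduct.tmul_smul]
    · rw [Derivation.leibniz, map_add, hsm, hsm, ha, hv, hΨv, Derivation.leibniz, TensorProduct.tmul_add, TensorProduct.tmul_smul,
        TensorProduct.tmul_smul]
  have hΨω : ∀ ω, Ψ (δ.liftKaehlerDifferential ω) = 1 ⊗ₜ ω := by
    have : (Ψ.restrictScalars N).comp δ.liftKaehlerDifferential = TensorProduct.mk N O Ω[N⁄R] 1 := by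
      apply Derivation.liftKaehlerDifferential_unique
      ext w
      change Ψ (δ.liftKaehlerDifferential (KaehlerDifferential.D R N w)) = _
      rw [Derivation.liftKaehlerDifferential_comp_D, hΨδ]
      rfl
    intro ω
    exact congrArg (fun g : Ω[N⁄R] →ₗ[N] O ⊗[N] Ω[N⁄R] => g ω) this
  refine ⟨LinearEquiv.ofLinearMap Φ Ψ ?_ ?_⟩
  · refine Submodule.linearMap_qext _ (LinearMap.prod_ext ?_ ?_)
    · ext
      change Φ (Ψ (Submodule.Quotient.mk (1, 0))) = Submodule.Quotient.mk (1, 0)
      rw [hΨu, hΦ, hu]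
    · ext
      change Φ (Ψ (Submodule.Quotient.mk (0, 1))) = Submodule.Quotient.mk (0, 1)
      rw [hΨv, hΦ, hv]
  · refine LinearMap.ext fun t => ?_
    induction t using TensorProduct.induction_on with
    | zero => rw [map_zero, map_zero]
    | add a b ha hb => rw [map_add, ha, hb, map_add]
    | tmul o ω =>
      change Ψ (o • δ.liftKaehlerDifferential ω) = o ⊗ₜ ω
      rw [map_smul, hΨω, TensorProduct.smul_tmul', smul_eq_mul, mul_one]

end Node

section Chain

theorem exists_equiv_of_etale (R A B O : Type u) [CommRing R] [CommRing A] [CommRing B] [CommRing O] [Algebra R A] [Algebra A B] [Algebra R B]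
    [IsScalarTower R A B] [Algebra.FormallyEtale A B] [Algebra B O] [Algebra A O] [IsScalarTower A B O] :
    Nonempty (O ⊗[A] Ω[A⁄R] ≃ₗ[O] O ⊗[B] Ω[B⁄R]) :=
  ⟨(AlgebraTensorModule.cancelBaseChange A B O O Ω[A⁄R]).symm.trans
    (AlgebraTensorModule.congr (LinearEquiv.refl O O) (KaehlerDifferential.tensorKaehlerEquivOfFormallyEtale R A B))⟩

theorem tl_chain (R A B N D O O' : Type u) [CommRing R] [CommRing A] [CommRing B] [CommRing N] [CommRing D] [CommRing O] [CommRing O']
    [Algebra R A] [Algebra A O] [Algebra O O'] [Algebra A O'] [IsScalarTower A O O']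
    [Algebra A B] [Algebra R B] [IsScalarTower R A B] [Algebra B O'] [IsScalarTower A B O'] [Algebra.FormallyEtale A B]
    [Algebra N B] [Algebra R N] [IsScalarTower R N B] [Algebra N O'] [IsScalarTower N B O'] [Algebra.FormallyEtale N B]
    [Algebra R D] [Algebra D N] [IsScalarTower R D N] [Algebra.FormallyUnramified R D] [Algebra R O'] [IsScalarTower R N O']
    [IsDomain O] [IsDiscreteValuationRing O] [IsDomain O'] [IsLocalRing O']
    [IsLocalHom (algebraMap O O')] [Module.FaithfullyFlat O O'] (hm : (maximalIdeal O).map (algebraMap O O') = maximalIdeal O')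
    {α : D} {x y : N} (h : IsNodeRing α x y) :
    tl O (O ⊗[A] Ω[A⁄R]) = tl O' (QN O' x y) := by
  obtain ⟨e1⟩ := exists_equiv_of_etale R A B O'
  obtain ⟨e2⟩ := exists_equiv_of_etale R N B O'
  obtain ⟨e3⟩ := exists_equiv R O' h
  rw [← tl_baseChange hm, tl_congr (AlgebraTensorModule.cancelBaseChange A O O' O' Ω[A⁄R])]
  exact tl_congr (e1.trans (e2.symm.trans e3))

end Chain

end K793.OmegaAlg
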