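import Groth.Agent.SemiFact.K793.SecAlg
import Groth.Agent.SemiFact.K793.ChainStep
import Groth.Agent.Pi1C.StrictHensPoint

/-!
# A section through a node
-/

set_option autoImplicit false
universe u

open CategoryTheory CategoryTheory.Limits AlgebraicGeometry IsLocalRing Opposite TopologicalSpace

namespace K793.SecGeom

open K793.BlGeom K793.BlMain K793.Chart K793.ChainStep
open Groth.Agent.Models.NodeRing Groth.Agent.Models.NodeBlow Groth.Agent.Models.NodeStep

theorem stalkHom_id_bijective (R : Type u) [CommRing R] [IsLocalRing R] :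
    Function.Bijective (DualGr.stalkHom (𝟙 (Spec (CommRingCat.of R))) (closedPoint R : PrimeSpectrum R)) := by
  have h1 : ((Scheme.ΓSpecIso (CommRingCat.of R)).inv ≫ (Spec (CommRingCat.of R)).presheaf.germ ⊤ (closedPoint R) trivial) =
      (stalkClosedPointIso (CommRingCat.of R)).inv := by
    rw [← ΓSpecIso_hom_stalkClosedPointIso_inv, Iso.inv_hom_id_assoc]
  have h2 : (DualGr.stalkHom (𝟙 (Spec (CommRingCat.of R))) (closedPoint R : PrimeSpectrum R)) =
      (stalkClosedPointIso (CommRingCat.of R)).inv.hom := by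
    rw [← h1]
    refine RingHom.ext fun r => ?_
    rw [K793.Basic.stalkHom_eq_germ]
    rfl
  rw [h2]
  exact ConcreteCategory.bijective_of_isIso _

section Main

variable {R : Type u} [CommRing R] [IsDomain R] [IsDiscreteValuationRing R] {ϖ : R} (hϖ : Irreducible ϖ) {X : Scheme.{u}}
  (f : X ⟶ Spec (CommRingCat.of R))

/-- a section through a node, with its coordinates in an étale neighbourhood -/
structure SecAt (ϖ : R) (x : X) where
  σ : Spec (CommRingCat.of R) ⟶ X
  hσf : σ ≫ f = 𝟙 _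
  hσ : σ (closedPoint R : PrimeSpectrum R) = x
  reg : ∀ r : Spec (CommRingCat.of R), r ≠ (closedPoint R : PrimeSpectrum R) → IsRegularLocalRing (X.presheaf.stalk (σ r))
  B : Type u
  [cr : CommRing B]
  [loc : IsLocalRing B]
  [noeth : IsNoetherianRing B]
  φ : X.presheaf.stalk x →+* B
  flat : φ.Flat
  hloc : IsLocalHom φ
  hm : (maximalIdeal (X.presheaf.stalk x)).map φ = maximalIdeal B
  ψ : B →+* (Spec (CommRingCat.of R)).presheaf.stalk (closedPoint R : PrimeSpectrum R)
  hψφ : ψ.comp φ = stk σ (closedPoint R : PrimeSpectrum R) x hσ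
  u : B
  v : B
  w : R
  hmB : maximalIdeal B = Ideal.span {u, v, φ (DualGr.stalkHom f x ϖ)}
  hu : ψ u = DualGr.stalkHom (𝟙 (Spec (CommRingCat.of R))) (closedPoint R : PrimeSpectrum R) ϖ
  hv : ψ v = DualGr.stalkHom (𝟙 (Spec (CommRingCat.of R))) (closedPoint R : PrimeSpectrum R) w
  hw : w ∈ Ideal.span {ϖ}
  huv : u * v = φ (DualGr.stalkHom f x (ϖ * w))

attribute [instance] SecAt.cr SecAt.loc SecAt.noeth

include hϖ in
theorem exists_secAt [HenselianLocalRing R] [IsSepClosed (ResidueField R)] [IsLocallyNoetherian X] (hf : Curv2.IsNodalFamily f)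
    {x : X} (hpx : f x = (closedPoint R : PrimeSpectrum R)) (hreg : ¬ IsRegularLocalRing (X.presheaf.stalk x)) :
    Nonempty (SecAt f ϖ x) := by
  obtain ⟨C⟩ := exists_nchart hϖ f hf x hpx
  obtain ⟨c, hc, hc'⟩ := C.exists_c hreg
  have htm : algebraMap C.D (W C.D C.a) C.t ∈ (C.g C.y).asIdeal := by
    rw [C.t_mem_iff hϖ, C.hy]
    exact hpx
  have horig := C.asIdeal_eq_orig hreg htm
  -- `a` comes from `R`
  obtain ⟨w', hw'⟩ : ∃ w' : R, C.a = algebraMap R C.D (ϖ * (ϖ * w')) := by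
    rcases hc' with rfl | ⟨n, rfl, h⟩
    · exact ⟨0, by rw [hc, mul_zero, mul_zero, mul_zero, map_zero]⟩
    · refine ⟨ϖ ^ n, ?_⟩
      rw [h, ← mul_assoc, ← pow_two, ← pow_add, map_pow, add_comm]
  -- a retraction of `D`
  have hetD : Etale (Spec.map (CommRingCat.ofHom (algebraMap R C.D))) := by
    rw [HasRingHomProperty.Spec_iff (P := @Etale)]
    change (algebraMap R C.D).Etale
    rw [RingHom.etale_algebraMap]
    infer_instance
  have hDcl : (Spec.map (CommRingCat.ofHom (algebraMap R C.D))) (closedPoint C.D : PrimeSpectrum C.D) = (closedPoint R : PrimeSpectrum R) := by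
    rw [K793.Basic.eq_closedPoint_iff _ hϖ]
    change algebraMap R C.D ϖ ∈ maximalIdeal C.D
    exact C.irr.not_isUnit
  obtain ⟨τ, hτ, hτc⟩ := Groth.Agent.Pi1C.StrictHensPoint.exists_lift_of_etale (Spec.map (CommRingCat.ofHom (algebraMap R C.D)))
    (closedPoint C.D : PrimeSpectrum C.D) R (𝟙 _) (by rw [hDcl]; rfl)
  obtain ⟨ρ, hρ⟩ : ∃ ρ : C.D →+* R, Spec.map (CommRingCat.ofHom ρ) = τ := ⟨(Spec.preimage τ).hom, Spec.map_preimage τ⟩
  have hρr : ∀ r, ρ (algebraMap R C.D r) = r := by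
    intro r
    rw [← hρ, ← Spec.map_comp, ← Spec.map_id, Spec.map_inj] at hτ
    exact congrArg (fun g : CommRingCat.of R ⟶ CommRingCat.of R => g.hom r) hτ
  let θ : W C.D C.a →+* R := lift ρ ϖ (ϖ * w') (by rw [hw', hρr])
  have hθD : ∀ d, θ (algebraMap C.D (W C.D C.a) d) = ρ d := fun d => lift_algebraMap _ _ _ _ d
  have hθu : θ (uu C.D C.a) = ϖ := lift_uu _ _ _ _
  have hθv : θ (vv C.D C.a) = ϖ * w' := lift_vv _ _ _ _
  let s : Spec (CommRingCat.of R) ⟶ Spec (CommRingCat.of (W C.D C.a)) := Spec.map (CommRingCat.ofHom θ)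
  have hϖm : ϖ ∈ maximalIdeal R := hϖ.not_isUnit
  have hs : s (closedPoint R : PrimeSpectrum R) = C.g C.y := by
    apply PrimeSpectrum.ext
    rw [horig]
    change (maximalIdeal R).comap θ = orig C.t C.a
    have hpr : ((maximalIdeal R).comap θ).IsPrime := Ideal.IsPrime.comap θ
    apply eq_span_of_mem C.D C.t C.irr
    · rw [Ideal.mem_comap, hθu]; exact hϖm
    · rw [Ideal.mem_comap, hθv]; exact Ideal.mul_mem_right _ _ hϖm
    · rw [Ideal.mem_comap, hθD]
      change ρ (algebraMap R C.D ϖ) ∈ _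
      rw [hρr]
      exact hϖm
  obtain ⟨t, ht, htc⟩ := Groth.Agent.Pi1C.StrictHensPoint.exists_lift_of_etale C.g C.y R s hs
  have hσf : (t ≫ C.e) ≫ f = 𝟙 _ := by
    rw [Category.assoc, ← C.w, ← Category.assoc, ht, ← Category.assoc]
    change (Spec.map (CommRingCat.ofHom θ) ≫ Spec.map (CommRingCat.ofHom (algebraMap C.D (W C.D C.a)))) ≫ _ = _
    rw [← Spec.map_comp, ← Spec.map_comp, ← CommRingCat.ofHom_comp, ← CommRingCat.ofHom_comp, ← Spec.map_id]
    congr 1
    ext r
    change θ (algebraMap C.D (W C.D C.a) (algebraMap R C.D r)) = r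
    rw [hθD, hρr]
  have hσc : (t ≫ C.e) (closedPoint R : PrimeSpectrum R) = x := by
    rw [Scheme.Hom.comp_apply, htc, C.hy]
  have hNU : IsLocallyNoetherian C.U := LocallyOfFiniteType.isLocallyNoetherian C.e
  have hπ : ∀ r : R, stk C.e C.y x C.hy (DualGr.stalkHom f x r) = DualGr.stalkHom C.g C.y (algebraMap C.D (W C.D C.a) (algebraMap R C.D r)) := by
    intro r
    rw [stk_stalkHom f C.e, ← C.w, ← Category.assoc, stalkHom_specMap]
    exact stalkHom_specMap C.g (algebraMap C.D (W C.D C.a)) C.y _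
  have hψ : ∀ z : W C.D C.a, stk t (closedPoint R : PrimeSpectrum R) C.y htc (DualGr.stalkHom C.g C.y z) =
      DualGr.stalkHom (𝟙 (Spec (CommRingCat.of R))) (closedPoint R : PrimeSpectrum R) (θ z) := by
    intro z
    rw [stk_stalkHom C.g t, ht]
    exact stalkHom_specMap (𝟙 (Spec (CommRingCat.of R))) θ (closedPoint R : PrimeSpectrum R) z
  have hreg' : ∀ r : Spec (CommRingCat.of R), r ≠ (closedPoint R : PrimeSpectrum R) → IsRegularLocalRing (X.presheaf.stalk ((t ≫ C.e) r)) := by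
    intro r hr
    rw [Scheme.Hom.comp_apply, C.isRegular_iff]
    have h1 : C.g (t r) = s r := by rw [← Scheme.Hom.comp_apply, ht]
    rw [h1, stalk_isRegular_iff]
    have hD : IsRegularRing C.D := inferInstance
    refine isRegular_of_uu_notMem C.D C.a _ fun h2 => hr ?_
    rw [K793.Basic.eq_closedPoint_iff _ hϖ]
    have h3 : θ (uu C.D C.a) ∈ r.asIdeal := h2
    rwa [hθu] at h3
  refine ⟨SecAt.mk (t ≫ C.e) hσf hσc hreg' (C.U.presheaf.stalk C.y) (stk C.e C.y x C.hy)
    (flat_stk C.e C.y x C.hy) (isLocalHom_stk C.e C.y x C.hy) (map_maximalIdeal_stk C.e C.y x C.hy)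
    (stk t (closedPoint R : PrimeSpectrum R) C.y htc) (stk_comp t C.e _ C.y x htc C.hy hσc).symm
    (DualGr.stalkHom C.g C.y (uu C.D C.a)) (DualGr.stalkHom C.g C.y (vv C.D C.a)) (ϖ * w') ?_ ?_ ?_
    (Ideal.mem_span_singleton.2 ⟨w', rfl⟩) ?_⟩
  · have h4 : maximalIdeal (C.U.presheaf.stalk C.y) = (orig C.t C.a).map (DualGr.stalkHom C.g C.y) := by
      rw [← horig, ← K793.Basic.fibIdeal_eq]
      exact (Groth.Agent.Flat2F.FlatWeight.map_maximalIdeal_of_etale C.g C.y).symm
    rw [h4, hπ]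
    unfold orig
    rw [Ideal.map_span, Set.image_insert_eq, Set.image_insert_eq, Set.image_singleton]
  · rw [hψ, hθu]
  · rw [hψ, hθv]
  · rw [hπ, ← map_mul, uu_mul_vv' hw']

end Main

end K793.SecGeom
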