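import Groth.Agent.SemiFact.K793.OmegaAlg
import Groth.Agent.SemiFact.K793.ChainStep
import Groth.Agent.SemiFact.K793.SecGeom
import Groth.Agent.CurvesB.OmegaStalkDict
import Groth.Agent.Fdesc.PullbackStalk
import Groth.Agent.UnramA.Locus

/-!
# Differentials along a point with values in a discrete valuation ring
-/

set_option autoImplicit false
universe u

open CategoryTheory CategoryTheory.Limits AlgebraicGeometry IsLocalRing Opposite TopologicalSpace TensorProduct

namespace K793.OmegaGeom

open K793.OmegaAlg K793.BlGeom K793.ChainStep Groth.Agent.CurvesB.OmegaStalkDict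

theorem formallyEtale_stalkMap {X Y : Scheme.{u}} (f : X ⟶ Y) [Etale f] (x : X) : (f.stalkMap x).hom.FormallyEtale :=
  (Groth.Agent.UnramA.Locus.etale_nhd_iff f x).1 ⟨⊤, trivial, inferInstance⟩

theorem formallyEtale_of_bijective {A B : Type u} [CommRing A] [CommRing B] (φ : A →+* B) (h : Function.Bijective φ) : φ.FormallyEtale := by
  algebraize [φ]
  exact Algebra.FormallyEtale.of_equiv (AlgEquiv.ofBijective (Algebra.ofId A B) h)

theorem formallyEtale_stk {X Y : Scheme.{u}} (f : X ⟶ Y) [Etale f] (x : X) (y : Y) (h : f x = y) : (stk f x y h).FormallyEtale := by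
  subst h
  rw [stk_self]
  exact formallyEtale_stalkMap f x

theorem formallyEtale_stalkHom_id (N : Type u) [CommRing N] (p : Spec (CommRingCat.of N)) :
    (DualGr.stalkHom (𝟙 (Spec (CommRingCat.of N))) p).FormallyEtale := by
  have h1 : (DualGr.stalkHom (𝟙 (Spec (CommRingCat.of N))) p) =
      ((Spec (CommRingCat.of N)).presheaf.germ ⊤ p trivial).hom.comp (Scheme.ΓSpecIso (CommRingCat.of N)).inv.hom := by
    refine RingHom.ext fun r => ?_
    rw [K793.Basic.stalkHom_eq_germ]
    rfl
  rw [h1]
  refine RingHom.FormallyEtale.comp (formallyEtale_of_bijective _ (ConcreteCategory.bijective_of_isIso (Scheme.ΓSpecIso (CommRingCat.of N)).inv)) ?_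
  let _alg := (Spec (CommRingCat.of N)).presheaf.algebra_section_stalk (⟨p, trivial⟩ : (⊤ : (Spec (CommRingCat.of N)).Opens))
  have hloc := (isAffineOpen_top (Spec (CommRingCat.of N))).isLocalization_stalk ⟨p, trivial⟩
  exact Algebra.FormallyEtale.of_isLocalization ((isAffineOpen_top (Spec (CommRingCat.of N))).primeIdealOf ⟨p, trivial⟩).asIdeal.primeCompl

theorem formallyEtale_stalkHom {N : Type u} [CommRing N] {P : Scheme.{u}} (β : P ⟶ Spec (CommRingCat.of N)) [Etale β] (z : P) :
    (DualGr.stalkHom β z).FormallyEtale := by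
  have h1 : DualGr.stalkHom β z = (β.stalkMap z).hom.comp (DualGr.stalkHom (𝟙 (Spec (CommRingCat.of N))) (β z)) := by
    refine RingHom.ext fun r => ?_
    have := K793.NodeFam.stalkHom_comp N β (𝟙 _) z r
    rw [Category.comp_id] at this
    exact this
  rw [h1]
  exact RingHom.FormallyEtale.comp (formallyEtale_stalkHom_id N _) (formallyEtale_stalkMap β z)

section Pull

variable {R : Type u} [CommRing R] {X Y : Scheme.{u}} (f : X ⟶ Spec (CommRingCat.of R)) [QuasiCompact (pullback.diagonal f)] (a : Y ⟶ X) (y : Y)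

theorem exists_equiv_stalk :
    letI := stAlg f (a y)
    letI := Groth.Agent.Fdesc.PullbackStalk.stalkAlg a y
    Nonempty (Y.presheaf.stalk y ⊗[X.presheaf.stalk (a y)] Ω[X.presheaf.stalk (a y)⁄R] ≃ₗ[Y.presheaf.stalk y]
      ((Scheme.Modules.pullback a).obj (Omega.sheaf f)).presheaf.stalk y) := by
  let := stAlg f (a y)
  let := stMod f (Omega.sheaf f) (a y)
  have := stTower f (Omega.sheaf f) (a y)
  let := Groth.Agent.Fdesc.PullbackStalk.stalkAlg a y
  let := FlatMod.moduleStalkOver a ((Scheme.Modules.pullback a).obj (Omega.sheaf f)) y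
  have := Groth.Agent.Fdesc.PullbackStalk.isScalarTower a ((Scheme.Modules.pullback a).obj (Omega.sheaf f)) y
  have h1 := bijective_stDer f (a y)
  have h2 := Groth.Agent.Fdesc.PullbackStalk.isBaseChange_can a (Omega.sheaf f) y
  exact ⟨(AlgebraTensorModule.congr (LinearEquiv.refl (Y.presheaf.stalk y) (Y.presheaf.stalk y)) (LinearEquiv.ofBijective _ h1)).trans h2.equiv⟩

end Pull

section Point

theorem stk_congr {Q X : Scheme.{u}} {g g' : Q ⟶ X} (h : g = g') (q : Q) (x : X) (hx : g q = x) (hx' : g' q = x) :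
    stk g q x hx = stk g' q x hx' := by
  subst h
  rfl

theorem isDiscreteValuationRing_stalk (R' : Type u) [CommRing R'] [IsDomain R'] [IsDiscreteValuationRing R'] :
    ∃ _ : IsDomain ((Spec (CommRingCat.of R')).presheaf.stalk (closedPoint R' : PrimeSpectrum R')),
      IsDiscreteValuationRing ((Spec (CommRingCat.of R')).presheaf.stalk (closedPoint R' : PrimeSpectrum R')) := by
  let e : R' ≃+* (Spec (CommRingCat.of R')).presheaf.stalk (closedPoint R' : PrimeSpectrum R') :=
    RingEquiv.ofBijective _ (K793.SecGeom.stalkHom_id_bijective R')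
  have h1 : IsDomain ((Spec (CommRingCat.of R')).presheaf.stalk (closedPoint R' : PrimeSpectrum R')) := e.symm.toMulEquiv.isDomain _
  exact ⟨h1, IsDiscreteValuationRing.RingEquivClass.isDiscreteValuationRing e⟩

variable {R R' : Type u} [CommRing R] [CommRing R'] [IsDomain R'] [IsDiscreteValuationRing R'] {X P Q : Scheme.{u}}

theorem tl_point (f : X ⟶ Spec (CommRingCat.of R)) [QuasiCompact (pullback.diagonal f)] (a : Spec (CommRingCat.of R') ⟶ X)
    (e : P ⟶ X) [Etale e] (z : P) (hz : e z = a (closedPoint R' : PrimeSpectrum R')) {D N : Type u} [CommRing D] [CommRing N] [Algebra R D]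
    [Algebra.FormallyUnramified R D] [Algebra D N] (β : P ⟶ Spec (CommRingCat.of N)) [Etale β]
    (w : β ≫ Spec.map (CommRingCat.ofHom ((algebraMap D N).comp (algebraMap R D))) = e ≫ f)
    (e1 : Q ⟶ Spec (CommRingCat.of R')) [Etale e1] (e2 : Q ⟶ P) (hQ : e2 ≫ e = e1 ≫ a) (q : Q)
    (hq1 : e1 q = (closedPoint R' : PrimeSpectrum R')) (hq2 : e2 q = z) [IsDomain (Q.presheaf.stalk q)]
    {α : D} {x y : N} (h : IsNodeRing α x y) :
    tl ((Spec (CommRingCat.of R')).presheaf.stalk (closedPoint R' : PrimeSpectrum R'))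
      (((Scheme.Modules.pullback a).obj (Omega.sheaf f)).presheaf.stalk (closedPoint R' : PrimeSpectrum R')) =
      tl (Q.presheaf.stalk q) (QQ (DualGr.stalkHom (e2 ≫ β) q y, DualGr.stalkHom (e2 ≫ β) q x)) := by
  let algRA := stAlg f (a (closedPoint R' : PrimeSpectrum R'))
  let algAO := Groth.Agent.Fdesc.PullbackStalk.stalkAlg a (closedPoint R' : PrimeSpectrum R')
  obtain ⟨e0⟩ := exists_equiv_stalk f a (closedPoint R' : PrimeSpectrum R')
  rw [← tl_congr e0]
  let algOO : Algebra ((Spec (CommRingCat.of R')).presheaf.stalk (closedPoint R' : PrimeSpectrum R')) (Q.presheaf.stalk q) :=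
    (stk e1 q _ hq1).toAlgebra
  let algAO' : Algebra (X.presheaf.stalk (a (closedPoint R' : PrimeSpectrum R'))) (Q.presheaf.stalk q) :=
    ((stk e1 q _ hq1).comp (a.stalkMap (closedPoint R' : PrimeSpectrum R')).hom).toAlgebra
  have t1 : IsScalarTower (X.presheaf.stalk (a (closedPoint R' : PrimeSpectrum R')))
      ((Spec (CommRingCat.of R')).presheaf.stalk (closedPoint R' : PrimeSpectrum R')) (Q.presheaf.stalk q) := IsScalarTower.of_algebraMap_eq' rfl
  let algAB : Algebra (X.presheaf.stalk (a (closedPoint R' : PrimeSpectrum R'))) (P.presheaf.stalk z) := (stk e z _ hz).toAlgebra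
  let algRB : Algebra R (P.presheaf.stalk z) := ((stk e z _ hz).comp (stHom f (a (closedPoint R' : PrimeSpectrum R')))).toAlgebra
  have t2 : IsScalarTower R (X.presheaf.stalk (a (closedPoint R' : PrimeSpectrum R'))) (P.presheaf.stalk z) :=
    IsScalarTower.of_algebraMap_eq' rfl
  let algBO' : Algebra (P.presheaf.stalk z) (Q.presheaf.stalk q) := (stk e2 q z hq2).toAlgebra
  have t3 : IsScalarTower (X.presheaf.stalk (a (closedPoint R' : PrimeSpectrum R'))) (P.presheaf.stalk z) (Q.presheaf.stalk q) := by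
    refine IsScalarTower.of_algebraMap_eq' ?_
    change (stk e1 q _ hq1).comp (a.stalkMap (closedPoint R' : PrimeSpectrum R')).hom = (stk e2 q z hq2).comp (stk e z _ hz)
    have h2 : (e2 ≫ e) q = a (closedPoint R' : PrimeSpectrum R') := by rw [Scheme.Hom.comp_apply, hq2, hz]
    have h3 : (e1 ≫ a) q = a (closedPoint R' : PrimeSpectrum R') := by rw [← hQ, h2]
    rw [← stk_self a (closedPoint R' : PrimeSpectrum R'), ← stk_comp e2 e q z _ hq2 hz h2, ← stk_comp e1 a q _ _ hq1 rfl h3]
    exact (stk_congr hQ q _ h2 h3).symm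
  let algNB : Algebra N (P.presheaf.stalk z) := (DualGr.stalkHom β z).toAlgebra
  let algRN : Algebra R N := ((algebraMap D N).comp (algebraMap R D)).toAlgebra
  have t4 : IsScalarTower R N (P.presheaf.stalk z) := by
    refine IsScalarTower.of_algebraMap_eq' ?_
    change (stk e z _ hz).comp (stHom f (a (closedPoint R' : PrimeSpectrum R'))) =
      (DualGr.stalkHom β z).comp ((algebraMap D N).comp (algebraMap R D))
    refine RingHom.ext fun r => ?_
    have h1 := K793.BlMain.stk_stalkHom f e z _ hz r
    rw [← w, stalkHom_specMap] at h1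
    exact h1
  let algNO' : Algebra N (Q.presheaf.stalk q) := (DualGr.stalkHom (e2 ≫ β) q).toAlgebra
  have t5 : IsScalarTower N (P.presheaf.stalk z) (Q.presheaf.stalk q) := by
    refine IsScalarTower.of_algebraMap_eq' ?_
    refine RingHom.ext fun r => ?_
    exact (K793.BlMain.stk_stalkHom β e2 q z hq2 r).symm
  let algRO' : Algebra R (Q.presheaf.stalk q) := ((DualGr.stalkHom (e2 ≫ β) q).comp ((algebraMap D N).comp (algebraMap R D))).toAlgebra
  have t6 : IsScalarTower R N (Q.presheaf.stalk q) := IsScalarTower.of_algebraMap_eq' rfl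
  have t7 : IsScalarTower R D N := IsScalarTower.of_algebraMap_eq' rfl
  have fe1 : Algebra.FormallyEtale (X.presheaf.stalk (a (closedPoint R' : PrimeSpectrum R'))) (P.presheaf.stalk z) := formallyEtale_stk e z _ hz
  have fe2 : Algebra.FormallyEtale N (P.presheaf.stalk z) := formallyEtale_stalkHom β z
  have hdO : IsDomain ((Spec (CommRingCat.of R')).presheaf.stalk (closedPoint R' : PrimeSpectrum R')) :=
    (isDiscreteValuationRing_stalk R').1
  have hvO : IsDiscreteValuationRing ((Spec (CommRingCat.of R')).presheaf.stalk (closedPoint R' : PrimeSpectrum R')) :=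
    (isDiscreteValuationRing_stalk R').2
  have hl : IsLocalHom (algebraMap ((Spec (CommRingCat.of R')).presheaf.stalk (closedPoint R' : PrimeSpectrum R')) (Q.presheaf.stalk q)) :=
    K793.BlMain.isLocalHom_stk e1 q _ hq1
  have hfl : Module.Flat ((Spec (CommRingCat.of R')).presheaf.stalk (closedPoint R' : PrimeSpectrum R')) (Q.presheaf.stalk q) :=
    flat_stk e1 q _ hq1
  have hff : Module.FaithfullyFlat ((Spec (CommRingCat.of R')).presheaf.stalk (closedPoint R' : PrimeSpectrum R')) (Q.presheaf.stalk q) :=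
    Module.FaithfullyFlat.of_flat_of_isLocalHom
  exact tl_chain R _ (P.presheaf.stalk z) N D _ (Q.presheaf.stalk q) (map_maximalIdeal_stk e1 q _ hq1) h

end Point

end K793.OmegaGeom
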