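import Groth.Agent.SemiFact.K793.PicSurj
import Groth.Agent.SemiFact.K793.FibGeom
import Groth.Agent.Sga7.H543.Van
import Groth.Agent.Models.H38.TrivGen

/-!
# Extension of effective Cartier divisors from the extension of invertible modules
-/

set_option autoImplicit false
universe u

open CategoryTheory CategoryTheory.Limits AlgebraicGeometry IsLocalRing Opposite TopologicalSpace

namespace K793.PicDiv

open Groth.Agent.Fdesc.LocGen Groth.Agent.Picfga.LineHom Groth.Agent.Sga7.H543.Van Groth.Agent.Divis.CartierBasic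
open Groth.Agent.Divis.CartierStalk Groth.Agent.Divis.EffCartier Groth.Agent.Dix.IdealModCartier Groth.Agent.Models.H38.TrivGen
open Groth.Agent.CycB.LocQuot

section Eff

variable {R : Type u} [CommRing R] [IsDomain R] [IsDiscreteValuationRing R] {X Z : Scheme.{u}} [IsLocallyNoetherian X]
  (f : X ⟶ Spec (CommRingCat.of R)) [Flat f] (i : Z ⟶ X)

/-- on a flat scheme over a discrete valuation ring, a locally principal ideal whose restriction to the generic fibre is effective Cartier is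
effective Cartier -/
theorem isEff_of_comap (hi : ∀ x : X, f x ≠ (closedPoint R : PrimeSpectrum R) → x ∈ Set.range i) [IsOpenImmersion i] {J : X.IdealSheafData}
    (hJ : BlowUp.IsEffCartierIdeal (J.comap i)) (hp : ∀ x, ∃ a, stalkIdeal J x = Ideal.span {a}) : BlowUp.IsEffCartierIdeal J := by
  obtain ⟨ϖ, hϖ⟩ := IsDiscreteValuationRing.exists_irreducible R
  have hgen : ∀ y : X, f y ≠ (closedPoint R : PrimeSpectrum R) → ∀ a, stalkIdeal J y = Ideal.span {a} → a ∈ nonZeroDivisors (X.presheaf.stalk y) := by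
    intro y hy a ha
    obtain ⟨z, rfl⟩ := hi y hy
    obtain ⟨g, hg, hgJ⟩ := Groth.Agent.Divis.MapOpen.exists_generator_of_comap J i z (exists_stalkIdeal_eq_span hJ z)
    exact nonZeroDivisor_of_span_eq hg (ha.symm.trans hgJ)
  rw [isEffCartierIdeal_iff_stalkIdeal]
  intro x
  obtain ⟨a, ha⟩ := hp x
  refine ⟨a, ?_, ha⟩
  by_contra hne
  have h1 : a ∈ (nonZeroDivisors (X.presheaf.stalk x) : Set _)ᶜ := hne
  rw [← biUnion_associatedPrimes_eq_compl_nonZeroDivisors] at h1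
  obtain ⟨P, hP, haP⟩ := Set.mem_iUnion₂.1 h1
  obtain ⟨hPp, b, hb⟩ := isAssociatedPrime_iff.1 hP
  have hb' : ∀ r, r ∈ P ↔ r * b = 0 := by
    intro r
    rw [hb, Submodule.mem_colon_singleton, Submodule.mem_bot]
    rfl
  have hϖP : DualGr.stalkHom f x ϖ ∉ P := by
    intro h
    have h2 := K793.Basic.eq_zero_of_stalkHom_mul f x hϖ.ne_zero ((hb' _).1 h)
    rw [h2] at hb'
    exact hPp.ne_top ((Ideal.eq_top_iff_one _).2 ((hb' 1).2 (by rw [mul_zero])))
  have hs := ptOf_specializes (⟨P, hPp⟩ : PrimeSpectrum (X.presheaf.stalk x))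
  have hy : f (ptOf (⟨P, hPp⟩ : PrimeSpectrum (X.presheaf.stalk x))) ≠ (closedPoint R : PrimeSpectrum R) := by
    rw [Ne, ← K793.FibGeom.asIdeal_mem_iff hϖ hs, primeOf_ptOf]
    exact hϖP
  let _alg := (X.presheaf.stalkSpecializes hs).hom.toAlgebra
  have hloc := isLocalization_stalkSpecializes hs
  have hker : RingHom.ker (Cyc.specMap x _ hs) = P := by rw [← primeOf_asIdeal, primeOf_ptOf]
  have h2 : stalkIdeal J (ptOf (⟨P, hPp⟩ : PrimeSpectrum (X.presheaf.stalk x))) =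
      Ideal.span {algebraMap (X.presheaf.stalk x) (X.presheaf.stalk (ptOf (⟨P, hPp⟩ : PrimeSpectrum (X.presheaf.stalk x)))) a} := by
    rw [← Groth.Agent.Divis.StalkAssoc.stalkIdeal_map_stalkSpecializes J hs, ha, Ideal.map_span, Set.image_singleton]
    rfl
  have h3 := hgen _ hy _ h2
  have h4 : algebraMap (X.presheaf.stalk x) (X.presheaf.stalk (ptOf (⟨P, hPp⟩ : PrimeSpectrum (X.presheaf.stalk x)))) b = 0 := by
    refine (mul_left_mem_nonZeroDivisors_eq_zero_iff h3).1 ?_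
    rw [← map_mul, (hb' a).1 haP, map_zero]
  obtain ⟨⟨s, hs'⟩, hsb⟩ := (IsLocalization.map_eq_zero_iff (RingHom.ker (Cyc.specMap x _ hs)).primeCompl
    (X.presheaf.stalk (ptOf (⟨P, hPp⟩ : PrimeSpectrum (X.presheaf.stalk x)))) b).1 h4
  apply hs'
  rw [hker]
  exact (hb' s).2 hsb

end Eff

section Van

variable {X : Scheme.{u}}

theorem IsVan.unit_smul {M : X.Modules} {t : Γ(M, ⊤)} {D : X.IdealSheafData} (h : IsVan t D) {c : Γ(X, ⊤)} (hc : IsUnit c) :
    IsVan (c • t) D := by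
  intro x
  obtain ⟨U, hx, e, a, he, ha, h1⟩ := h x
  refine ⟨U, hx, e, ores le_top c * a, he, ?_, ?_⟩
  · rw [res_smul, ha, smul_smul]
  · rw [h1, map_mul]
    exact (span_eq_of_isUnit ((hc.map (ores (le_top : U ≤ ⊤))).map (X.presheaf.germ U x hx).hom) (mul_comm _ _)).symm

end Van

section Main

variable {R : Type u} [CommRing R] [IsDomain R] [IsDiscreteValuationRing R]
variable {K : Type u} [Field K] [Algebra R K] [IsFractionRing R K]
variable {C X : Scheme.{u}} {f : C ⟶ Spec (CommRingCat.of K)} {p : X ⟶ Spec (CommRingCat.of R)} {g : C ⟶ X}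

theorem exists_ideal [CompactSpace X] [QuasiSeparatedSpace X] [Flat p] [IsLocallyNoetherian X]
    (hg : IsPullback g f p (Spec.map (CommRingCat.ofHom (algebraMap R K)))) {M : X.Modules}
    (hM : PicF.IsInvertible M) {D : C.IdealSheafData} (hD : BlowUp.IsEffCartierIdeal D)
    (hMg : PicF.IsInvertible ((Scheme.Modules.pullback g).obj M))
    (h : ClSub.IsInverseOf ((Scheme.Modules.pullback g).obj M) (ClSub.idealMod D)) :
    ∃ J : X.IdealSheafData, BlowUp.IsEffCartierIdeal J ∧ J.comap g = D := by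
  have hgo : IsOpenImmersion g := Groth.Agent.Models.DVRGeneric.isOpenImmersion_of_isPullback hg
  obtain ⟨ϖ, hϖ⟩ := IsDiscreteValuationRing.exists_irreducible R
  have hr := opensRange_eq_basicOpen hg hϖ
  obtain ⟨tK, htK⟩ := exists_canonical hMg hD h
  let ι : M.restrict g ≅ (Scheme.Modules.pullback g).obj M := (Scheme.Modules.restrictFunctorIsoPullback g).app M
  let tK' : Γ(M.restrict g, ⊤) := ι.inv.app ⊤ tK
  have htK' : ι.hom.app ⊤ tK' = tK := by
    have := congr(($(ι.inv_hom_id).app ⊤) tK)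
    exact this
  let m : Γ(M, g ''ᵁ ⊤) := (toRestrict g).symm tK'
  have hle1 : X.basicOpen (fn p ϖ) ≤ g ''ᵁ ⊤ := by rw [g.image_top_eq_opensRange, hr]
  have hle2 : g ''ᵁ (⊤ : C.Opens) ≤ X.basicOpen (fn p ϖ) := by rw [g.image_top_eq_opensRange, hr]
  obtain ⟨n, t, ht⟩ : ∃ (n : ℕ) (t : Γ(M, ⊤)), res M (le_top : X.basicOpen (fn p ϖ) ≤ ⊤) t = ores le_top (fn p ϖ) ^ n • res M hle1 m :=
    (Groth.Agent.Ega1.QCohLoc.isLocAt_of_qcqs (Groth.Agent.Ega2.QCohLocal.isQCoh_of_isInvertible hM)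
      (V := (⊤ : X.Opens)) isCompact_univ (by
        have := (inferInstance : QuasiSeparatedSpace X)
        exact isQuasiSeparated_univ) (fn p ϖ)).surj (res M hle1 m)
  obtain ⟨J, hJ⟩ := exists_isVan hM t
  have h1 : res M (le_top : g ''ᵁ (⊤ : C.Opens) ≤ ⊤) t = ores (le_top : g ''ᵁ (⊤ : C.Opens) ≤ ⊤) (fn p ϖ) ^ n • m := by
    have h2 := congrArg (res M hle2) ht
    rw [res_res, res_smul, map_pow, ores_ores, res_res, res_refl] at h2
    exact h2
  have h2 : pullTop g t = ι.hom.app ⊤ (toRestrict g (res M (le_top : g ''ᵁ (⊤ : C.Opens) ≤ ⊤) t)) :=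
    (restrictFunctorIsoPullback_hom_app g t).symm
  have h3 : pullTop g t = ((g.appIso ⊤).hom (ores (le_top : g ''ᵁ (⊤ : C.Opens) ≤ ⊤) (fn p ϖ) ^ n) : Γ(C, ⊤)) • tK := by
    rw [h2, h1, toRestrict_smul, Scheme.Modules.Hom.app_smul]
    congr 1
  have hu : IsUnit ((g.appIso ⊤).hom (ores (le_top : g ''ᵁ (⊤ : C.Opens) ≤ ⊤) (fn p ϖ) ^ n) : Γ(C, ⊤)) := by
    refine IsUnit.map (g.appIso ⊤).hom.hom (IsUnit.pow n ?_)
    have h4 : ores (le_top : g ''ᵁ (⊤ : C.Opens) ≤ ⊤) (fn p ϖ) = ores hle2 (ores (X.basicOpen_le (fn p ϖ)) (fn p ϖ)) :=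
      (ores_ores _ _ _).symm
    rw [h4]
    exact (RingedSpace.isUnit_res_basicOpen _ (fn p ϖ)).map (ores hle2)
  have h5 : IsVan (pullTop g t) D := by
    rw [h3]
    exact IsVan.unit_smul htK hu
  have h6 : J.comap g = D := (hJ.pull g).unique h5
  refine ⟨J, ?_, h6⟩
  refine isEff_of_comap p g (fun x hx => ?_) (h6 ▸ hD) (fun x => ?_)
  · have h7 : x ∈ g.opensRange := by
      rw [hr, mem_basicOpen_fn]
      exact fun h => hx ((K793.Basic.eq_closedPoint_iff (p x) hϖ).2 h)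
    exact h7
  · obtain ⟨U, hx, e, a, he, ha, h7⟩ := hJ x
    exact ⟨_, h7⟩

theorem exists_ideal_of_surjective (X : Scheme.{u}) (p : X ⟶ Spec (CommRingCat.of R)) [CompactSpace X] [QuasiSeparatedSpace X] [Flat p] [IsLocallyNoetherian X]
    (hsf : Formal2.PicPullbackSurjective (Limits.pullback.fst p (Neron.genPt R))) (D : (Limits.pullback p (Neron.genPt R)).IdealSheafData)
    (hD : BlowUp.IsEffCartierIdeal D) :
    ∃ J : X.IdealSheafData, BlowUp.IsEffCartierIdeal J ∧ J.comap (Limits.pullback.fst p (Neron.genPt R)) = D := by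
  obtain ⟨MK, hMK, he⟩ := Groth.Agent.Grpsch.PicGrp.exists_mk (Groth.Agent.Grpsch.PicGrp.mk (ClSub.idealMod D) (isInvertible_idealMod hD))⁻¹
  obtain ⟨M, hM, ⟨e⟩⟩ := hsf MK hMK
  have hMg : PicF.IsInvertible ((Scheme.Modules.pullback (Limits.pullback.fst p (Neron.genPt R))).obj M) :=
    Groth.Agent.Fdesc.LocGen.isInvertible_pullback _ hM
  refine exists_ideal (IsPullback.of_hasPullback p (Neron.genPt R)) hM hD hMg ?_
  have h1 : Groth.Agent.Grpsch.PicGrp.mk _ hMg = Groth.Agent.Grpsch.PicGrp.mk MK hMK := Groth.Agent.Grpsch.PicGrp.mk_congr e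
  have h2 : Groth.Agent.Grpsch.PicGrp.mk _ hMg * Groth.Agent.Grpsch.PicGrp.mk (ClSub.idealMod D) (isInvertible_idealMod hD) = 1 := by
    rw [h1, ← he, inv_mul_cancel]
  rw [Groth.Agent.Grpsch.PicGrp.mk_mul_mk, Groth.Agent.Grpsch.PicGrp.mk_eq_one_iff] at h2
  exact h2

end Main

end K793.PicDiv
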