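import Groth.Agent.SemiFact.K793.NodeMin
import Groth.Agent.Gaga.H986.SkAn
import Groth.Agent.S2821
import Groth.Agent.S0548
import Groth.Agent.Divis.EffCartier

/-!
# A section through a node: the local algebra
-/

set_option autoImplicit false
universe u

open IsLocalRing

namespace K793.NodeAlg

namespace IsNode

variable {S B : Type u} [CommRing S] [CommRing B] [IsLocalRing B] [Algebra S B]
variable {ϖ : S} {x y : B} {a : S} (h : IsNode ϖ x y a)

local notation "π" => algebraMap S B ϖ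
local notation "P₁" => Ideal.span {x, algebraMap S B ϖ}
local notation "P₂" => Ideal.span {y, algebraMap S B ϖ}

include h

theorem not_both₁ {u v : B} (hm : maximalIdeal B = Ideal.span {u, v, π}) (hu1 : u ∈ P₁) (hv : v ∈ P₁) : False := by
  apply h.notMem₁
  have h1 : y ∈ maximalIdeal B := h.y_mem_max
  rw [hm] at h1
  refine (Ideal.span_le.2 ?_ : Ideal.span {u, v, π} ≤ P₁) h1
  rintro _ (rfl | rfl | rfl)
  · exact hu1
  · exact hv
  · exact π_mem

theorem not_mem_both [IsNoetherianRing B] {u v : B} (hm : maximalIdeal B = Ideal.span {u, v, π}) (hu1 : u ∈ P₁) (hu2 : u ∈ P₂) : False := by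
  have hp₁ := h.prime₁
  have hvP : v ∉ P₁ := h.not_both₁ hm hu1
  obtain ⟨c, rfl⟩ := h.exists_eq_mul hu1 hu2
  have hle : P₁ ≤ Ideal.span {π} := by
    refine Submodule.le_of_le_smul_of_le_jacobson_bot (I := maximalIdeal B) (IsNoetherian.noetherian _) (maximalIdeal_le_jacobson ⊥) ?_
    intro p hp
    have h1 : p ∈ maximalIdeal B := h.P₁_le hp
    rw [hm] at h1
    obtain ⟨α, β, γ, rfl⟩ := Submodule.mem_span_triple.1 h1
    have h2 : β * v ∈ P₁ := by
      have h3 : β * v = (α • (π * c) + β • v + γ • π) - (α * c + γ) * π := by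
        simp only [smul_eq_mul]; ring
      rw [h3]
      exact sub_mem hp (Ideal.mul_mem_left _ _ π_mem)
    have h3 : β ∈ P₁ := (hp₁.mem_or_mem h2).resolve_right hvP
    have h4 : α • (π * c) + β • v + γ • π = (α * c + γ) * π + v * β := by
      simp only [smul_eq_mul]; ring
    rw [h4]
    refine Submodule.add_mem_sup (Ideal.mul_mem_left _ _ (Ideal.mem_span_singleton_self _)) ?_
    refine Submodule.smul_mem_smul (r := v) ?_ h3
    rw [hm]
    exact Ideal.subset_span (by simp)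
  exact h.notMem₂ (Ideal.span_mono (by intro z; simp only [Set.mem_insert_iff, Set.mem_singleton_iff]; tauto) (hle x_mem))

/-- coordinates at a node vanish on the two branches -/
theorem branches [IsNoetherianRing B] {u v w : B} (hm : maximalIdeal B = Ideal.span {u, v, π}) (huv : u * v = π * w) :
    (u ∈ P₁ ∧ v ∉ P₁ ∧ v ∈ P₂ ∧ u ∉ P₂) ∨ (v ∈ P₁ ∧ u ∉ P₁ ∧ u ∈ P₂ ∧ v ∉ P₂) := by
  have hp₁ := h.prime₁
  have hp₂ := h.prime₂
  have h1 : u * v ∈ P₁ := huv ▸ Ideal.mul_mem_right _ _ π_mem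
  have h2 : u * v ∈ P₂ := huv ▸ Ideal.mul_mem_right _ _ π_mem
  have hm' : maximalIdeal B = Ideal.span {v, u, π} := by rw [hm, Set.insert_comm]
  rcases hp₁.mem_or_mem h1 with hu1 | hv1
  · have hv1 : v ∉ P₁ := h.not_both₁ hm hu1
    have hu2 : u ∉ P₂ := h.not_mem_both hm hu1
    exact Or.inl ⟨hu1, hv1, (hp₂.mem_or_mem h2).resolve_left hu2, hu2⟩
  · have hu1 : u ∉ P₁ := h.not_both₁ hm' hv1
    have hv2 : v ∉ P₂ := h.not_mem_both hm' hv1
    exact Or.inr ⟨hv1, hu1, (hp₂.mem_or_mem h2).resolve_right hv2, hv2⟩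

theorem mem_nonZeroDivisors_sub [IsNoetherianRing B] {u v w : B} (hm : maximalIdeal B = Ideal.span {u, v, π}) (huv : u * v = π * w)
    (hw : w ∈ Ideal.span {π}) : u - π ∈ nonZeroDivisors B := by
  have hp₁ := h.prime₁
  have hp₂ := h.prime₂
  obtain ⟨w', hw'⟩ := Ideal.mem_span_singleton'.1 hw
  have key : ∀ b, (u - π) * b = 0 → ∃ b', b = π * b' ∧ (u - π) * b' = 0 := by
    intro b hb
    have hub : u * b = π * b := by linear_combination hb
    have hvb : v * b = w * b := by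
      have h1 : (v * b - w * b) * π = 0 := by linear_combination v * (-hub) + b * huv
      exact sub_eq_zero.1 ((mul_right_mem_nonZeroDivisors_eq_zero_iff h.reg).1 h1)
    have hb12 : b ∈ P₁ ∧ b ∈ P₂ := by
      have hub1 : u * b ∈ P₁ ∧ u * b ∈ P₂ := by
        rw [hub]; exact ⟨Ideal.mul_mem_right _ _ π_mem, Ideal.mul_mem_right _ _ π_mem⟩
      have hvb1 : v * b ∈ P₁ ∧ v * b ∈ P₂ := by
        rw [hvb, ← hw', mul_assoc, mul_left_comm]; exact ⟨Ideal.mul_mem_right _ _ π_mem, Ideal.mul_mem_right _ _ π_mem⟩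
      rcases h.branches hm huv with ⟨-, hv1, -, hu2⟩ | ⟨-, hu1, -, hv2⟩
      · exact ⟨(hp₁.mem_or_mem hvb1.1).resolve_left hv1, (hp₂.mem_or_mem hub1.2).resolve_left hu2⟩
      · exact ⟨(hp₁.mem_or_mem hub1.1).resolve_left hu1, (hp₂.mem_or_mem hvb1.2).resolve_left hv2⟩
    obtain ⟨b', rfl⟩ := h.exists_eq_mul hb12.1 hb12.2
    refine ⟨b', rfl, ?_⟩
    have h1 : (u - π) * b' * π = 0 := by linear_combination hb
    exact (mul_right_mem_nonZeroDivisors_eq_zero_iff h.reg).1 h1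
  rw [mem_nonZeroDivisors_iff_right]
  intro b hb
  rw [mul_comm] at hb
  have h1 : ∀ n : ℕ, ∀ b, (u - π) * b = 0 → b ∈ maximalIdeal B ^ n := by
    intro n
    induction n with
    | zero => intro b _; simp
    | succ n ih =>
      intro b hb
      obtain ⟨b', rfl, hb'⟩ := key b hb
      rw [pow_succ']
      exact Ideal.mul_mem_mul h.π_mem_max (ih b' hb')
  have h2 := Ideal.iInf_pow_eq_bot_of_isLocalRing (maximalIdeal B) (Ideal.IsPrime.ne_top inferInstance)
  rw [← Ideal.mem_bot, ← h2, Submodule.mem_iInf]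
  exact fun n => h1 n b hb

/-- the orders of the equation `g` of a section with coordinates `(π, w)` through a node of thickness `l` -/
theorem dvd_ord_sub_sub_one [IsNoetherianRing B] {l : ℕ} (ha : algebraMap S B a = if l = 0 then 0 else π ^ l) {u v w : B}
    (hm : maximalIdeal B = Ideal.span {u, v, π}) (huv : u * v = π * w) (hw : w ∈ Ideal.span {π}) {g : B} (hg : g ∈ nonZeroDivisors B)
    (hp : PEq π (Ideal.span {g}) (Ideal.span {u - π, v - w})) {n₁ n₂ : ℕ} (h1 : Ord P₁ π g n₁) (h2 : Ord P₂ π g n₂) :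
    (l : ℤ) ∣ ((n₁ : ℤ) - n₂) - 1 ∨ (l : ℤ) ∣ ((n₁ : ℤ) - n₂) + 1 := by
  have hp₁ := h.prime₁
  have hp₂ := h.prime₂
  have hnzd := h.mem_nonZeroDivisors_sub hm huv hw
  obtain ⟨N, hN⟩ := hp.2 (u - π) (Ideal.subset_span (by simp))
  obtain ⟨s, hs⟩ := Ideal.mem_span_singleton'.1 hN
  obtain ⟨M, hM⟩ := hp.1 g (Ideal.mem_span_singleton_self _)
  obtain ⟨r₁, r₂, hr⟩ := Ideal.mem_span_pair.1 hM
  set r := π * r₁ - r₂ * v with hrdef
  have hr' : r * (u - π) = π ^ (M + 1) * g := by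
    rw [hrdef]
    linear_combination π * hr - r₂ * huv
  have hrs : r * s = π ^ (M + 1 + N) := by
    have h3 : (r * s - π ^ (M + 1 + N)) * g = 0 := by
      rw [pow_add]
      linear_combination r * hs + π ^ N * hr'
    exact sub_eq_zero.1 ((mul_right_mem_nonZeroDivisors_eq_zero_iff hg).1 h3)
  have hrnzd : r ∈ nonZeroDivisors B := by
    have h3 : r * s ∈ nonZeroDivisors B := hrs ▸ pow_mem h.reg _
    exact (mul_mem_nonZeroDivisors.1 h3).1
  obtain ⟨ρ₁, hρ₁⟩ := h.exists_ord₁ hrnzd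
  obtain ⟨ρ₂, hρ₂⟩ := h.symm.exists_ord₁ hrnzd
  have hdvd := h.dvd_ord_sub ha hrs hρ₁ hρ₂
  have hπw : ∀ {P : Ideal B} (_ : π ∈ P), w ∈ P := fun {P} hP => (Ideal.span_singleton_le_iff_mem (I := P)).2 hP hw
  have ho1 : ∀ {P : Ideal B} [P.IsPrime] (hP : π ∈ P) (_ : v ∉ P), Ord P π (u - π) 1 := by
    intro P _ hP hv
    refine ⟨v, w - v, hv, fun h4 => hv ?_, ?_⟩
    · have := sub_mem (hπw hP) h4
      rwa [sub_sub_cancel] at this
    · rw [pow_one]; linear_combination huv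
  have ho0 : ∀ {P : Ideal B} [P.IsPrime] (hP : π ∈ P) (_ : u ∉ P), Ord P π (u - π) 0 := by
    intro P _ hP hu
    rw [ord_zero_iff]
    intro h4
    apply hu
    have := add_mem h4 hP
    rwa [sub_add_cancel] at this
  have hMg1 : Ord P₁ π (π ^ (M + 1) * g) (M + 1 + n₁) := (ord_pow (M + 1)).mul h1
  have hMg2 : Ord P₂ π (π ^ (M + 1) * g) (M + 1 + n₂) := (ord_pow (M + 1)).mul h2
  rw [← hr'] at hMg1 hMg2
  rcases h.branches hm huv with ⟨-, hv1, -, hu2⟩ | ⟨-, hu1, -, hv2⟩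
  · have e1 := Ord.unique h.reg π_mem hMg1 (hρ₁.mul (ho1 π_mem hv1))
    have e2 := Ord.unique h.reg π_mem hMg2 (hρ₂.mul (ho0 π_mem hu2))
    left
    have e3 : ((n₁ : ℤ) - n₂) - 1 = (ρ₁ : ℤ) - ρ₂ := by omega
    rw [e3]
    exact hdvd
  · have e1 := Ord.unique h.reg π_mem hMg1 (hρ₁.mul (ho0 π_mem hu1))
    have e2 := Ord.unique h.reg π_mem hMg2 (hρ₂.mul (ho1 π_mem hv2))
    right
    have e3 : ((n₁ : ℤ) - n₂) + 1 = (ρ₁ : ℤ) - ρ₂ := by omega
    rw [e3]
    exact hdvd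

/-- a factorial node has thickness one -/
theorem eq_one_of_ufd [IsNoetherianRing B] [IsDomain B] [UniqueFactorizationMonoid B] {l : ℕ}
    (ha : algebraMap S B a = if l = 0 then 0 else π ^ l) : l = 1 := by
  have hp₁ := h.prime₁
  have hp₂ := h.prime₂
  have hπ0 : π ≠ 0 := nonZeroDivisors.ne_zero h.reg
  obtain ⟨q, hqP, hq⟩ : ∃ q, q ∈ P₁ ∧ (Prime q ∧ q ∣ π) := by
    have h1 : ∀ z : B, z ≠ 0 → z ∈ P₁ → ∃ q, q ∈ P₁ ∧ (Prime q ∧ q ∣ z) := by
      intro z
      refine UniqueFactorizationMonoid.induction_on_prime z ?_ ?_ ?_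
      · intro h; exact absurd rfl h
      · intro u hu _ huP
        exact absurd (Ideal.eq_top_of_isUnit_mem _ huP hu) hp₁.ne_top
      · intro c p hc hp ih _ hmem
        rcases hp₁.mem_or_mem hmem with h2 | h2
        · exact ⟨p, h2, hp, Dvd.intro _ rfl⟩
        · obtain ⟨q, hq1, hq2, hq3⟩ := ih hc h2
          exact ⟨q, hq1, hq2, hq3.mul_left _⟩
    exact h1 _ hπ0 π_mem
  obtain ⟨s, hs⟩ := hq.2
  have hPq : P₁ = Ideal.span {q} := by
    symm
    refine K793.NodeMin.eq_of_le h ((Ideal.span_singleton_prime hq.1.ne_zero).2 hq.1) ?_ ((Ideal.span_singleton_le_iff_mem _).2 hqP)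
    exact Ideal.mem_span_singleton.2 hq.2
  have hq2 : q ∉ P₂ := by
    intro h1
    apply h.notMem₂
    have h2 : x ∈ Ideal.span {q} := hPq ▸ x_mem
    exact (Ideal.span_singleton_le_iff_mem (I := P₂)).2 h1 h2
  have hqs : q * s = π ^ 1 := by rw [pow_one, hs]
  obtain ⟨n, hn⟩ := h.exists_ord₁ (mem_nonZeroDivisors_of_ne_zero hq.1.ne_zero)
  have hn1 := (h.ord_dvd hqs hn).1
  have hn0 : n ≠ 0 := by
    rintro rfl
    exact (ord_zero_iff.1 hn) hqP
  obtain rfl : n = 1 := by omega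
  have h3 := h.dvd_ord_sub ha hqs hn (ord_zero_iff.2 hq2)
  simp only [Nat.cast_one, Nat.cast_zero, sub_zero] at h3
  have h4 := Int.natCast_dvd_natCast.1 (by simpa using h3 : (l : ℤ) ∣ ((1 : ℕ) : ℤ))
  exact Nat.dvd_one.1 h4

end IsNode

end K793.NodeAlg

namespace K793.SecAlg

open K793.NodeAlg

/-- the kernel of a section of a local ring over a base with parameter `π` -/
theorem ker_eq {B T : Type u} [CommRing B] [CommRing T] [IsLocalRing B] [IsNoetherianRing B] [Nontrivial T] (ψ : B →+* T) {π : B}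
    (hπ : ψ π ∈ nonZeroDivisors T) (hπm : π ∈ maximalIdeal B) {I : Ideal B} (hI : I ≤ RingHom.ker ψ) (hm : maximalIdeal B ≤ I ⊔ Ideal.span {π}) :
    RingHom.ker ψ = I := by
  refine le_antisymm ?_ hI
  refine Submodule.le_of_le_smul_of_le_jacobson_bot (I := maximalIdeal B) (IsNoetherian.noetherian _) (maximalIdeal_le_jacobson ⊥) ?_
  intro b hb
  have h1 : b ∈ maximalIdeal B := le_maximalIdeal (RingHom.ker_ne_top ψ) hb
  obtain ⟨i, hi, c, hc, rfl⟩ := Submodule.mem_sup.1 (hm h1)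
  obtain ⟨c, rfl⟩ := Ideal.mem_span_singleton'.1 hc
  refine Submodule.add_mem_sup hi ?_
  rw [mul_comm]
  refine Submodule.smul_mem_smul hπm ?_
  have h2 : ψ (i + c * π) = 0 := hb
  rw [map_add, (show ψ i = 0 from hI hi), zero_add, map_mul] at h2
  exact (mul_right_mem_nonZeroDivisors_eq_zero_iff hπ).1 h2

theorem exists_sub_mem_pow {A B : Type u} [CommRing A] [CommRing B] [IsLocalRing A] [IsLocalRing B] (φ : A →+* B)
    (hm : (maximalIdeal A).map φ = maximalIdeal B) (h0 : ∀ b : B, ∃ a : A, φ a - b ∈ maximalIdeal B) (k : ℕ) :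
    ∀ b : B, ∃ a : A, φ a - b ∈ maximalIdeal B ^ k := by
  induction k with
  | zero => intro b; exact ⟨0, by simp⟩
  | succ k ih =>
    intro b
    obtain ⟨a, ha⟩ := ih b
    have hk : maximalIdeal B ^ k = (maximalIdeal A ^ k).map φ := by rw [Ideal.map_pow, hm]
    have key : ∀ z ∈ (maximalIdeal A ^ k).map φ, ∀ c : B, ∃ a : A, φ a - c * z ∈ maximalIdeal B ^ (k + 1) := by
      intro z hz
      refine Submodule.span_induction ?_ ?_ ?_ ?_ hz
      · rintro _ ⟨a, ha, rfl⟩ c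
        obtain ⟨a', ha'⟩ := h0 c
        refine ⟨a' * a, ?_⟩
        rw [map_mul, ← sub_mul, pow_succ']
        refine Ideal.mul_mem_mul ha' ?_
        rw [hk]
        exact Ideal.mem_map_of_mem _ ha
      · intro c
        exact ⟨0, by rw [map_zero, mul_zero, sub_zero]; exact Ideal.zero_mem _⟩
      · rintro x y _ _ hx hy c
        obtain ⟨a, ha⟩ := hx c
        obtain ⟨b, hb⟩ := hy c
        refine ⟨a + b, ?_⟩
        rw [map_add, mul_add, add_sub_add_comm]
        exact add_mem ha hb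
      · rintro d x _ hx c
        obtain ⟨a, ha⟩ := hx (c * d)
        exact ⟨a, by rw [smul_eq_mul, ← mul_assoc]; exact ha⟩
    rw [hk] at ha
    obtain ⟨a', ha'⟩ := key _ ha 1
    refine ⟨a - a', ?_⟩
    have h1 : φ (a - a') - b = -(φ a' - 1 * (φ a - b)) := by rw [map_sub]; ring
    rw [h1]
    exact neg_mem ha'

/-- coordinates of a section in the completion -/
theorem exists_coords {R A B T : Type u} [CommRing R] [IsDomain R] [IsDiscreteValuationRing R] {ϖ : R} (hϖ : Irreducible ϖ)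
    [CommRing A] [CommRing B] [CommRing T] [IsLocalRing A] [IsNoetherianRing A] [IsLocalRing B] [IsNoetherianRing B] [Nontrivial T]
    (α : R →+* A) (φ : A →+* B) (hφ : φ.Flat) (hloc : IsLocalHom φ) (hm : (maximalIdeal A).map φ = maximalIdeal B)
    (ρ : R →+* T) (hρ : Function.Bijective ρ) (ψ : B →+* T) (hψ : ∀ r, ψ (φ (α r)) = ρ r) {u v : B} {w : R}
    (hmB : maximalIdeal B = Ideal.span {u, v, φ (α ϖ)}) (hu : ψ u = ρ ϖ) (hv : ψ v = ρ w) (hw : w ∈ Ideal.span {ϖ}) :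
    ∃ χ : B →+* Curv2.cpl A, (∀ a, χ (φ a) = algebraMap A (Curv2.cpl A) a) ∧
      maximalIdeal (Curv2.cpl A) = Ideal.span {χ u, χ v, algebraMap A (Curv2.cpl A) (α ϖ)} ∧
      (RingHom.ker (ψ.comp φ)).map (algebraMap A (Curv2.cpl A)) =
        Ideal.span {χ u - algebraMap A (Curv2.cpl A) (α ϖ), χ v - algebraMap A (Curv2.cpl A) (α w)} := by
  have hreg : ρ ϖ ∈ nonZeroDivisors T := by
    rw [mem_nonZeroDivisors_iff_right]
    intro z hz
    obtain ⟨r, rfl⟩ := hρ.2 z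
    rw [← map_mul, map_eq_zero_iff ρ hρ.1] at hz
    rw [(mul_eq_zero.1 hz).resolve_right hϖ.ne_zero, map_zero]
  have hϖB : φ (α ϖ) ∈ maximalIdeal B := by rw [hmB]; exact Ideal.subset_span (by simp)
  have hϖA : α ϖ ∈ maximalIdeal A := fun hu => hϖB (hu.map φ)
  have hregψ : ψ (φ (α ϖ)) ∈ nonZeroDivisors T := by rw [hψ]; exact hreg
  have hker : ∀ b : B, ∃ r : R, b - φ (α r) ∈ RingHom.ker ψ := by
    intro b
    obtain ⟨r, hr⟩ := hρ.2 (ψ b)
    exact ⟨r, by rw [RingHom.mem_ker, map_sub, hψ, hr, sub_self]⟩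
  have hkm : RingHom.ker ψ ≤ maximalIdeal B := le_maximalIdeal (RingHom.ker_ne_top ψ)
  have h0 : ∀ b : B, ∃ a : A, φ a - b ∈ maximalIdeal B := by
    intro b
    obtain ⟨r, hr⟩ := hker b
    exact ⟨α r, by rw [← neg_sub]; exact neg_mem (hkm hr)⟩
  have h1 := fun k => exists_sub_mem_pow φ hm h0 k
  have h2 : ∀ (k : ℕ) (a : A), φ a ∈ maximalIdeal B ^ k → a ∈ maximalIdeal A ^ k := by
    intro k a ha
    let _alg := φ.toAlgebra
    have hf : Module.Flat A B := hφ
    have hl : IsLocalHom (algebraMap A B) := hloc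
    have hff : Module.FaithfullyFlat A B := Module.FaithfullyFlat.of_flat_of_isLocalHom
    have h3 := Ideal.comap_map_eq_self_of_faithfullyFlat (B := B) (maximalIdeal A ^ k)
    rw [← h3, Ideal.mem_comap, Ideal.map_pow]
    change φ a ∈ ((maximalIdeal A).map φ) ^ k
    rw [hm]
    exact ha
  have h3 : maximalIdeal A ≤ (maximalIdeal B).comap φ := by
    rw [← Ideal.map_le_iff_le_comap, hm]
  let e : Curv2.cpl A ≃+* Curv2.cpl B := Groth.Agent.Gaga.H986.SkAn.cplEquiv φ h3 h1 h2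
  have he : ∀ a, e (algebraMap A (Curv2.cpl A) a) = algebraMap B (Curv2.cpl B) (φ a) :=
    Groth.Agent.Gaga.H986.SkAn.cplEquiv_algebraMap φ h3 h1 h2
  let χ : B →+* Curv2.cpl A := e.symm.toRingHom.comp (algebraMap B (Curv2.cpl B))
  have hχ : ∀ a, χ (φ a) = algebraMap A (Curv2.cpl A) a := by
    intro a
    change e.symm (algebraMap B (Curv2.cpl B) (φ a)) = _
    rw [← he, e.symm_apply_apply]
  have hχφ : χ.comp φ = algebraMap A (Curv2.cpl A) := RingHom.ext hχ
  refine ⟨χ, hχ, ?_, ?_⟩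
  · have h4 : (maximalIdeal A).map (algebraMap A (Curv2.cpl A)) = maximalIdeal (Curv2.cpl A) :=
      AdicCompletion.maximalIdeal_eq_map.symm
    have h5 : (maximalIdeal A).map (algebraMap A (Curv2.cpl A)) = ((maximalIdeal A).map φ).map χ := by rw [Ideal.map_map, hχφ]
    rw [← h4, h5, hm, hmB, Ideal.map_span, Set.image_insert_eq, Set.image_insert_eq, Set.image_singleton, hχ]
  · have hI : (RingHom.ker (ψ.comp φ)).map φ ≤ RingHom.ker ψ := by
      rw [Ideal.map_le_iff_le_comap]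
      intro a ha
      exact ha
    have k1 : RingHom.ker ψ = (RingHom.ker (ψ.comp φ)).map φ := by
      refine ker_eq ψ hregψ hϖB hI ?_
      rw [← hm, Ideal.map_le_iff_le_comap]
      intro a ha
      obtain ⟨r, hr⟩ := hker (φ a)
      have h5 : a - α r ∈ RingHom.ker (ψ.comp φ) := by
        rw [RingHom.mem_ker, RingHom.comp_apply, map_sub]
        exact hr
      have h6 : α r ∈ maximalIdeal A := by
        have h7 : a - α r ∈ maximalIdeal A := fun hu => hkm hr (by rw [← map_sub]; exact hu.map φ)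
        have h8 := sub_mem ha h7
        rwa [sub_sub_cancel] at h8
      have h7 : r ∈ maximalIdeal R := fun hu => h6 (hu.map α)
      rw [hϖ.maximalIdeal_eq] at h7
      obtain ⟨r', rfl⟩ := Ideal.mem_span_singleton'.1 h7
      rw [Ideal.mem_comap]
      have h8 : φ a = φ (a - α (r' * ϖ)) + φ (α r') * φ (α ϖ) := by
        rw [← map_mul, ← map_mul, ← map_add, sub_add_cancel]
      rw [h8]
      exact Submodule.add_mem_sup (Ideal.mem_map_of_mem _ h5) (Ideal.mul_mem_left _ _ (Ideal.mem_span_singleton_self _))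
    have k2 : RingHom.ker ψ = Ideal.span {u - φ (α ϖ), v - φ (α w)} := by
      refine ker_eq ψ hregψ hϖB ?_ ?_
      · rw [Ideal.span_le]
        rintro _ (rfl | rfl)
        · change ψ _ = 0
          rw [map_sub, hu, hψ, sub_self]
        · change ψ _ = 0
          rw [map_sub, hv, hψ, sub_self]
      · rw [hmB, Ideal.span_le]
        have hπs : φ (α ϖ) ∈ Ideal.span {u - φ (α ϖ), v - φ (α w)} ⊔ Ideal.span {φ (α ϖ)} :=
          Ideal.mem_sup_right (Ideal.mem_span_singleton_self _)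
        intro z hz
        rcases hz with hz | hz | hz
        · rw [hz]
          have h5 := add_mem (Ideal.mem_sup_left (T := Ideal.span {φ (α ϖ)}) (Ideal.subset_span (by simp) : u - φ (α ϖ) ∈ Ideal.span {u - φ (α ϖ), v - φ (α w)})) hπs
          rwa [sub_add_cancel] at h5
        · rw [hz]
          obtain ⟨c, rfl⟩ := Ideal.mem_span_singleton'.1 hw
          have h6 : φ (α (c * ϖ)) ∈ Ideal.span {u - φ (α ϖ), v - φ (α (c * ϖ))} ⊔ Ideal.span {φ (α ϖ)} := by
            refine Ideal.mem_sup_right (Ideal.mem_span_singleton'.2 ⟨φ (α c), ?_⟩)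
            rw [map_mul, map_mul]
          have h5 := add_mem (Ideal.mem_sup_left (T := Ideal.span {φ (α ϖ)}) (Ideal.subset_span (by simp) : v - φ (α (c * ϖ)) ∈ Ideal.span {u - φ (α ϖ), v - φ (α (c * ϖ))})) h6
          rwa [sub_add_cancel] at h5
        · rw [hz]
          exact hπs
    have k3 : (RingHom.ker (ψ.comp φ)).map (algebraMap A (Curv2.cpl A)) = ((RingHom.ker (ψ.comp φ)).map φ).map χ := by
      rw [Ideal.map_map, hχφ]
    rw [k3, ← k1, k2, Ideal.map_span, Set.image_pair, map_sub, map_sub, hχ, hχ]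

section Comb

variable {R A : Type u} [CommRing R] [IsDomain R] [IsDiscreteValuationRing R] {ϖ : R} (hϖ : Irreducible ϖ)
  [CommRing A] [IsLocalRing A] [IsNoetherianRing A] (α : R →+* A) {l : ℕ} (hth : DualGr.IsThickNode α (if l = 0 then 0 else ϖ ^ l))

include hϖ hth in
theorem not_isRegularLocalRing (hl : l ≠ 1) : ¬ IsRegularLocalRing A := by
  intro hr
  obtain ⟨alg, x, y, a, ha, hπ, hn⟩ := K793.NodeThick.exists_isNode R A α hϖ l hth
  have hN : IsNoetherianRing (Curv2.cpl A) := Groth.Agent.Ega4A.CplQuot.isNoetherianRing_cpl A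
  have hr' : IsRegularLocalRing (Curv2.cpl A) := (Groth.Agent.S0548.result A).1 hr
  obtain ⟨h1, h2⟩ := Groth.Agent.S2821.result (Curv2.cpl A)
  exact hl (hn.eq_one_of_ufd ha)

variable {B T : Type u} [CommRing B] [CommRing T] [IsLocalRing B] [IsNoetherianRing B] [Nontrivial T]
    (φ : A →+* B) (hφ : φ.Flat) (hloc : IsLocalHom φ) (hm : (maximalIdeal A).map φ = maximalIdeal B)
    (ρ : R →+* T) (hρ : Function.Bijective ρ) (ψ : B →+* T) (hψ : ∀ r, ψ (φ (α r)) = ρ r) {u v : B} {w : R}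
    (hmB : maximalIdeal B = Ideal.span {u, v, φ (α ϖ)}) (hu : ψ u = ρ ϖ) (hv : ψ v = ρ w) (hw : w ∈ Ideal.span {ϖ})
    (huv : u * v = φ (α (ϖ * w)))

include hϖ hφ hloc hm hρ hψ hmB hu hv hw huv hth

theorem eq_zero_of_mul_ker {s : A} (hs : ∀ a ∈ RingHom.ker (ψ.comp φ), s * a = 0) : s = 0 := by
  obtain ⟨alg, x, y, a, ha, hπ, hn⟩ := K793.NodeThick.exists_isNode R A α hϖ l hth
  have hN : IsNoetherianRing (Curv2.cpl A) := Groth.Agent.Ega4A.CplQuot.isNoetherianRing_cpl A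
  have hF : Module.FaithfullyFlat A (Curv2.cpl A) := Groth.Agent.Ega4A.CplQuot.faithfullyFlat_cpl A
  obtain ⟨χ, hχ, hmax, hker⟩ := exists_coords hϖ α φ hφ hloc hm ρ hρ ψ hψ hmB hu hv hw
  rw [← hπ] at hmax
  have huv' : χ u * χ v = algebraMap (Curv2.cpl R) (Curv2.cpl A) (algebraMap R (Curv2.cpl R) ϖ) * algebraMap A (Curv2.cpl A) (α w) := by
    rw [← map_mul, huv, hχ, hπ, ← map_mul, ← map_mul]
  have hw' : algebraMap A (Curv2.cpl A) (α w) ∈ Ideal.span {algebraMap (Curv2.cpl R) (Curv2.cpl A) (algebraMap R (Curv2.cpl R) ϖ)} := by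
    obtain ⟨c, rfl⟩ := Ideal.mem_span_singleton'.1 hw
    rw [hπ]
    exact Ideal.mem_span_singleton'.2 ⟨algebraMap A (Curv2.cpl A) (α c), by rw [← map_mul, ← map_mul]⟩
  have h1 := hn.mem_nonZeroDivisors_sub hmax huv' hw'
  rw [hπ] at h1
  have h2 : ∀ z ∈ (RingHom.ker (ψ.comp φ)).map (algebraMap A (Curv2.cpl A)), algebraMap A (Curv2.cpl A) s * z = 0 := by
    intro z hz
    refine Submodule.span_induction ?_ ?_ ?_ ?_ hz
    · rintro _ ⟨a, ha, rfl⟩
      rw [← map_mul, hs a ha, map_zero]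
    · rw [mul_zero]
    · intro x y _ _ hx hy
      rw [mul_add, hx, hy, add_zero]
    · intro c x _ hx
      rw [smul_eq_mul, mul_left_comm, hx, mul_zero]
  have h3 := h2 (χ u - algebraMap A (Curv2.cpl A) (α ϖ)) (by rw [hker]; exact Ideal.subset_span (by simp))
  have h4 := (mul_right_mem_nonZeroDivisors_eq_zero_iff h1).1 h3
  exact (map_eq_zero_iff _ (FaithfulSMul.algebraMap_injective A (Curv2.cpl A))).1 h4

theorem dvd_main {g : A} (hg : g ∈ nonZeroDivisors A) (hp : PEq (α ϖ) (Ideal.span {g}) (RingHom.ker (ψ.comp φ))) {p₁ p₂ : Ideal A}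
    (hmin : (Ideal.span {α ϖ}).minimalPrimes = {p₁, p₂}) {n₁ n₂ : ℕ} (h1 : Ord p₁ (α ϖ) g n₁) (h2 : Ord p₂ (α ϖ) g n₂) :
    (l : ℤ) ∣ ((n₁ : ℤ) - n₂) - 1 ∨ (l : ℤ) ∣ ((n₁ : ℤ) - n₂) + 1 := by
  obtain ⟨alg, x, y, a, ha, hπ, hn⟩ := K793.NodeThick.exists_isNode R A α hϖ l hth
  have hN : IsNoetherianRing (Curv2.cpl A) := Groth.Agent.Ega4A.CplQuot.isNoetherianRing_cpl A
  have hF : Module.FaithfullyFlat A (Curv2.cpl A) := Groth.Agent.Ega4A.CplQuot.faithfullyFlat_cpl A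
  obtain ⟨χ, hχ, hmax, hker⟩ := exists_coords hϖ α φ hφ hloc hm ρ hρ ψ hψ hmB hu hv hw
  rw [← hπ] at hmax
  have huv' : χ u * χ v = algebraMap (Curv2.cpl R) (Curv2.cpl A) (algebraMap R (Curv2.cpl R) ϖ) * algebraMap A (Curv2.cpl A) (α w) := by
    rw [← map_mul, huv, hχ, hπ, ← map_mul, ← map_mul]
  have hw' : algebraMap A (Curv2.cpl A) (α w) ∈ Ideal.span {algebraMap (Curv2.cpl R) (Curv2.cpl A) (algebraMap R (Curv2.cpl R) ϖ)} := by
    obtain ⟨c, rfl⟩ := Ideal.mem_span_singleton'.1 hw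
    rw [hπ]
    exact Ideal.mem_span_singleton'.2 ⟨algebraMap A (Curv2.cpl A) (α c), by rw [← map_mul, ← map_mul]⟩
  have hg' : algebraMap A (Curv2.cpl A) g ∈ nonZeroDivisors (Curv2.cpl A) :=
    Groth.Agent.Divis.EffCartier.map_mem_nonZeroDivisors_of_flat (algebraMap A (Curv2.cpl A)) (RingHom.flat_algebraMap_iff.2 inferInstance) hg
  have hp' := K793.NodeDesc.peq_map (B := Curv2.cpl A) hp
  rw [Ideal.map_span, Set.image_singleton, hker, ← hπ] at hp'
  have key : ∀ {q₁ q₂ : Ideal A} {m₁ m₂ : ℕ}, (Ideal.span {x, algebraMap (Curv2.cpl R) (Curv2.cpl A) (algebraMap R (Curv2.cpl R) ϖ)}).comap (algebraMap A (Curv2.cpl A)) = q₁ →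
      (Ideal.span {y, algebraMap (Curv2.cpl R) (Curv2.cpl A) (algebraMap R (Curv2.cpl R) ϖ)}).comap (algebraMap A (Curv2.cpl A)) = q₂ →
      Ord q₁ (α ϖ) g m₁ → Ord q₂ (α ϖ) g m₂ → ((l : ℤ) ∣ ((m₁ : ℤ) - m₂) - 1 ∨ (l : ℤ) ∣ ((m₁ : ℤ) - m₂) + 1) := by
    intro q₁ q₂ m₁ m₂ e1 e2 o1 o2
    exact hn.dvd_ord_sub_sub_one ha hmax huv' hw' hg' hp' (K793.NodeMin.ord_map hπ.symm e1 o1) (K793.NodeMin.ord_map hπ.symm e2 o2)
  have hmin2 := K793.NodeMin.minimalPrimes_eq hn hπ.symm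
  rw [hmin] at hmin2
  rcases Set.pair_eq_pair_iff.1 hmin2 with ⟨e1, e2⟩ | ⟨e1, e2⟩
  · exact key e1.symm e2.symm h1 h2
  · rcases key e2.symm e1.symm h2 h1 with h | h
    · right
      have := (dvd_neg).2 h
      have e : -(((n₂ : ℤ) - n₁) - 1) = ((n₁ : ℤ) - n₂) + 1 := by ring
      rwa [e] at this
    · left
      have := (dvd_neg).2 h
      have e : -(((n₂ : ℤ) - n₁) + 1) = ((n₁ : ℤ) - n₂) - 1 := by ring
      rwa [e] at this

end Comb

end K793.SecAlg
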