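import Groth.Agent.SemiFact.K793.SecGeom
import Groth.Agent.SemiFact.K793.PicDiv
import Groth.Agent.SemiFact.K793.Graph
import Groth.Agent.SemiFact.K793.ChainSing
import Groth.Agent.Sga7.H543.SecStalk

/-!
# Orders of the extension of the divisor of a section through a node
-/

set_option autoImplicit false
universe u

open CategoryTheory CategoryTheory.Limits AlgebraicGeometry IsLocalRing Opposite TopologicalSpace

namespace K793.SecMain

open Groth.Agent.Divis.CartierBasic Groth.Agent.Divis.CartierStalk Groth.Agent.CycB.LocQuot Groth.Agent.Divis.StalkAssoc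
open K793.BlGeom K793.SecGeom K793.NodeAlg

section PEq

variable {R : Type u} [CommRing R] [IsDomain R] [IsDiscreteValuationRing R] {ϖ : R} (hϖ : Irreducible ϖ) {X Z : Scheme.{u}}
  (f : X ⟶ Spec (CommRingCat.of R)) (j : Z ⟶ X) [IsOpenImmersion j]

include hϖ in
/-- ideals with the same restriction to the generic fibre agree after inverting the uniformizer -/
theorem peq_of_comap_eq (hj : ∀ x : X, f x ≠ (closedPoint R : PrimeSpectrum R) → x ∈ Set.range j) {I J : X.IdealSheafData}
    (h : J.comap j = I.comap j) (x : X) : PEq (DualGr.stalkHom f x ϖ) (stalkIdeal J x) (stalkIdeal I x) := by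
  have key : ∀ {I J : X.IdealSheafData} (_ : J.comap j = I.comap j), ∀ b ∈ stalkIdeal J x, ∃ n : ℕ, DualGr.stalkHom f x ϖ ^ n * b ∈ stalkIdeal I x := by
    intro I J h b hb
    let c : Ideal (X.presheaf.stalk x) := (stalkIdeal I x).colon (Ideal.span {b})
    have hc : ∀ r, r ∈ c ↔ r * b ∈ stalkIdeal I x := by
      intro r
      rw [Submodule.mem_colon]
      constructor
      · intro h1
        exact h1 b (Ideal.mem_span_singleton_self b)
      · intro h1 p hp
        obtain ⟨d, rfl⟩ := Ideal.mem_span_singleton'.1 hp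
        rw [smul_eq_mul, mul_left_comm]
        exact Ideal.mul_mem_left _ _ h1
    have hrad : DualGr.stalkHom f x ϖ ∈ c.radical := by
      rw [← Ideal.sInf_minimalPrimes, Ideal.mem_sInf]
      intro P hP
      have hPp : P.IsPrime := hP.1.1
      by_contra hne
      have hs := ptOf_specializes (⟨P, hPp⟩ : PrimeSpectrum (X.presheaf.stalk x))
      have hy : f (ptOf (⟨P, hPp⟩ : PrimeSpectrum (X.presheaf.stalk x))) ≠ (closedPoint R : PrimeSpectrum R) := by
        rw [Ne, ← K793.FibGeom.asIdeal_mem_iff hϖ hs, primeOf_ptOf]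
        exact hne
      obtain ⟨z, hz⟩ := hj _ hy
      have h1 : stalkIdeal J (ptOf (⟨P, hPp⟩ : PrimeSpectrum (X.presheaf.stalk x))) =
          stalkIdeal I (ptOf (⟨P, hPp⟩ : PrimeSpectrum (X.presheaf.stalk x))) := by
        rw [← hz]
        exact K793.Extend.stalkIdeal_eq_of_comap_eq j h z
      let _alg := (X.presheaf.stalkSpecializes hs).hom.toAlgebra
      have hloc := isLocalization_stalkSpecializes hs
      have hker : RingHom.ker (Cyc.specMap x _ hs) = P := by rw [← primeOf_asIdeal, primeOf_ptOf]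
      have h2 : algebraMap (X.presheaf.stalk x) (X.presheaf.stalk (ptOf (⟨P, hPp⟩ : PrimeSpectrum (X.presheaf.stalk x)))) b ∈
          (stalkIdeal I x).map (algebraMap (X.presheaf.stalk x) (X.presheaf.stalk (ptOf (⟨P, hPp⟩ : PrimeSpectrum (X.presheaf.stalk x))))) := by
        have h3 := stalkIdeal_map_stalkSpecializes I hs
        have h4 := stalkIdeal_map_stalkSpecializes J hs
        rw [h1, ← h3] at h4
        change _ ∈ (stalkIdeal I x).map (X.presheaf.stalkSpecializes hs).hom
        rw [← h4]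
        exact Ideal.mem_map_of_mem _ hb
      obtain ⟨s, hs1, hs2⟩ := (IsLocalization.algebraMap_mem_map_algebraMap_iff (RingHom.ker (Cyc.specMap x _ hs)).primeCompl
        (X.presheaf.stalk (ptOf (⟨P, hPp⟩ : PrimeSpectrum (X.presheaf.stalk x)))) _ _).1 h2
      apply hs1
      rw [hker]
      exact hP.1.2 ((hc s).2 hs2)
    obtain ⟨n, hn⟩ := hrad
    exact ⟨n, (hc _).1 hn⟩
  exact ⟨key h, key h.symm⟩

end PEq

section Dim

variable {R : Type u} [CommRing R] [IsDomain R] [IsDiscreteValuationRing R] {X : Scheme.{u}} (f : X ⟶ Spec (CommRingCat.of R))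

theorem asIdeal_eq_bot {s : Spec (CommRingCat.of R)} (hs : s ≠ (closedPoint R : PrimeSpectrum R)) : s.asIdeal = ⊥ := by
  by_contra hne
  apply hs
  apply PrimeSpectrum.ext
  exact IsLocalRing.eq_maximalIdeal (Ring.DimensionLEOne.maximalOfPrime hne s.2)

theorem ringKrullDim_stalk_le (hf : Curv2.IsNodalFamily f) (ξ : X) (hξ : f ξ ≠ (closedPoint R : PrimeSpectrum R)) :
    ringKrullDim (X.presheaf.stalk ξ) ≤ 1 := by
  obtain ⟨z, hz⟩ : ξ ∈ Set.range (f.fiberι (f ξ)) := by rw [f.range_fiberι]; rfl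
  have h1 : Function.Bijective ((f.fiberι (f ξ)).stalkMap z).hom := by
    refine ⟨?_, Groth.Agent.CycB.FiberStalk.stalkMap_fiberι_surjective f _ z⟩
    rw [injective_iff_map_eq_zero, ← RingHom.ker_eq_bot_iff_eq_zero, Groth.Agent.CycB.FiberStalk.ker_stalkMap_fiberι,
      K793.Basic.fibIdeal_eq, hz, asIdeal_eq_bot hξ, Ideal.map_bot]
  have h2 := (RingEquiv.ofBijective _ h1).ringKrullDim
  rw [hz] at h2
  rw [h2]
  have h3 := Groth.Agent.Dual.H341.CMSch.topologicalKrullDim_le_of_components ↥(f.fiber (f ξ)) 1 (hf.2.2 (f ξ)).1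
  exact (Groth.Agent.CurvesB.DimPts.ringKrullDim_stalk_le z).trans h3

end Dim

section OrdI

theorem ord_of_ordI {A : Type u} [CommRing A] {P : Ideal A} (hP : P.IsPrime) {π g : A} (hπ : π ∈ nonZeroDivisors A) {n : ℕ}
    (h : OrdI P π (Ideal.span {g}) n) : Ord P π g n := by
  obtain ⟨s, hs, h1⟩ := h.1 g (Ideal.mem_span_singleton_self g)
  obtain ⟨c, hc⟩ := Ideal.mem_span_singleton'.1 h1
  obtain ⟨t, ht, h2⟩ := h.2
  obtain ⟨d, hd⟩ := Ideal.mem_span_singleton'.1 h2
  refine ⟨s, c, hs, fun hcP => ?_, hc.symm⟩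
  have h3 : (s * t - d * c) * π ^ n = 0 := by linear_combination (-s) * hd - d * hc
  have h4 := (mul_right_mem_nonZeroDivisors_eq_zero_iff (pow_mem hπ n)).1 h3
  have h5 : s * t ∈ P := by
    rw [sub_eq_zero.1 h4]
    exact P.mul_mem_left _ hcP
  exact (hP.mem_or_mem h5).elim hs ht

end OrdI

section Prin

/-- a factorial local domain of dimension at most one which is not a field has a principal maximal ideal -/
theorem exists_generator {T : Type u} [CommRing T] [IsLocalRing T] [IsDomain T] [UniqueFactorizationMonoid T] (hdim : ringKrullDim T ≤ 1)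
    (hne : maximalIdeal T ≠ ⊥) : ∃ q ∈ nonZeroDivisors T, maximalIdeal T = Ideal.span {q} := by
  obtain ⟨a, ha, ha0⟩ := Submodule.exists_mem_ne_zero_of_ne_bot hne
  obtain ⟨q, hq, hqa⟩ := WfDvdMonoid.exists_irreducible_factor ha ha0
  have hqp : Prime q := hq.prime
  have h1 : (Ideal.span {q}).IsPrime := (Ideal.span_singleton_prime hqp.ne_zero).2 hqp
  have h2 : Ring.KrullDimLE 1 T := by
    rw [Ring.krullDimLE_iff]
    exact_mod_cast hdim
  refine ⟨q, mem_nonZeroDivisors_of_ne_zero hqp.ne_zero, ?_⟩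
  have h3 : (Ideal.span {q}).IsMaximal := by
    have := (Ring.krullDimLE_one_iff_of_noZeroDivisors (R := T)).1 h2
    exact this _ (by rw [Ne, Ideal.span_singleton_eq_bot]; exact hqp.ne_zero) h1
  exact (IsLocalRing.eq_maximalIdeal h3).symm

end Prin

section Main

variable {R : Type u} [CommRing R] [IsDomain R] [IsDiscreteValuationRing R] {ϖ : R} (hϖ : Irreducible ϖ) {X XK : Scheme.{u}}
  (f : X ⟶ Spec (CommRingCat.of R)) [IsSeparated f] [IsLocallyNoetherian X] (hf : Curv2.IsNodalFamily f) {x : X} (S : SecAt f ϖ x)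

omit [IsLocallyNoetherian X] in
theorem ker_comp : RingHom.ker (S.ψ.comp S.φ) = stalkIdeal S.σ.ker x := by
  have hcl := Groth.Agent.Sga7.H543.SecStalk.isClosedImmersion_section S.hσf
  rw [S.hψφ]
  have key : ∀ (z : X) (h : S.σ (closedPoint R : PrimeSpectrum R) = z), RingHom.ker (stk S.σ (closedPoint R : PrimeSpectrum R) z h) = stalkIdeal S.σ.ker z := by
    rintro z rfl
    rw [stk_self]
    exact ker_stalkMap S.σ _
  exact key x S.hσ

theorem hψ (r : R) : S.ψ (S.φ (DualGr.stalkHom f x r)) = DualGr.stalkHom (𝟙 (Spec (CommRingCat.of R))) (closedPoint R : PrimeSpectrum R) r := by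
  rw [← RingHom.comp_apply, S.hψφ, K793.BlMain.stk_stalkHom f S.σ, S.hσf]

variable {l : ℕ} (hth : DualGr.IsThickNode (DualGr.stalkHom f x) (if l = 0 then 0 else ϖ ^ l))

include hϖ hf hth in
theorem isEff_comap (j : XK ⟶ X) [IsOpenImmersion j] (hj : ∀ x : X, x ∈ Set.range j ↔ f x ≠ (closedPoint R : PrimeSpectrum R)) :
    BlowUp.IsEffCartierIdeal (S.σ.ker.comap j) := by
  have hcl := Groth.Agent.Sga7.H543.SecStalk.isClosedImmersion_section S.hσf
  have hNK : IsLocallyNoetherian XK := isLocallyNoetherian_of_isOpenImmersion j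
  rw [isEffCartierIdeal_iff_stalkIdeal]
  intro z
  have hz := (hj (j z)).1 ⟨z, rfl⟩
  suffices h : ∃ g ∈ nonZeroDivisors (X.presheaf.stalk (j z)), stalkIdeal S.σ.ker (j z) = Ideal.span {g} by
    obtain ⟨g, hg, hgI⟩ := h
    have hb : Function.Bijective (j.stalkMap z).hom := (asIso (j.stalkMap z)).commRingCatIsoToRingEquiv.bijective
    exact ⟨(j.stalkMap z).hom g, K793.Extend.map_mem_nonZeroDivisors_of_bijective _ hb hg, by
      rw [stalkIdeal_comap, hgI, Ideal.map_span, Set.image_singleton]⟩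
  by_cases hr : j z ∈ Set.range S.σ
  · obtain ⟨r, hr⟩ := hr
    have hr' : r ≠ (closedPoint R : PrimeSpectrum R) := by
      intro h
      apply hz
      rw [← hr, ← Scheme.Hom.comp_apply, S.hσf, h]
      rfl
    rw [← hr]
    have hreg := S.reg r hr'
    obtain ⟨h1, h2⟩ := Groth.Agent.S2821.result (X.presheaf.stalk (S.σ r))
    have hdim := ringKrullDim_stalk_le f hf (S.σ r) (by rw [hr]; exact hz)
    have hI : stalkIdeal S.σ.ker (S.σ r) = maximalIdeal (X.presheaf.stalk (S.σ r)) := by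
      rw [← ker_stalkMap]
      apply le_antisymm
      · exact le_maximalIdeal (RingHom.ker_ne_top _)
      · intro a ha
        have h3 : (S.σ.stalkMap r).hom a ∈ maximalIdeal ((Spec (CommRingCat.of R)).presheaf.stalk r) :=
          map_nonunit (S.σ.stalkMap r).hom a ha
        rw [K793.Basic.maximalIdeal_stalk, asIdeal_eq_bot hr', Ideal.map_bot] at h3
        exact h3
    rw [hI]
    obtain ⟨q, hq, hqm⟩ := exists_generator hdim (fun hbot => by
      -- the section would be a component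
      have hsp : S.σ r ⤳ x := by
        refine Specializes.trans ?_ (specializes_of_eq S.hσ)
        exact ((PrimeSpectrum.le_iff_specializes r (closedPoint R : PrimeSpectrum R)).1 (IsLocalRing.le_maximalIdeal r.2.ne_top)).map S.σ.continuous
      have h3 : ∀ a ∈ RingHom.ker (S.ψ.comp S.φ), ∃ s, s ∉ (primeOf hsp).asIdeal ∧ s * a ∈ (⊥ : Ideal (X.presheaf.stalk x)) := by
        intro a ha
        rw [ker_comp] at ha
        let _alg := (X.presheaf.stalkSpecializes hsp).hom.toAlgebra
        have hloc := isLocalization_stalkSpecializes hsp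
        have h4 : algebraMap (X.presheaf.stalk x) (X.presheaf.stalk (S.σ r)) a = 0 := by
          have h5 := stalkIdeal_map_stalkSpecializes S.σ.ker hsp
          rw [hI, hbot] at h5
          have h6 : (X.presheaf.stalkSpecializes hsp).hom a ∈ (⊥ : Ideal (X.presheaf.stalk (S.σ r))) := by
            rw [← h5]
            exact Ideal.mem_map_of_mem _ ha
          exact h6
        obtain ⟨⟨s, hs⟩, hsa⟩ := (IsLocalization.map_eq_zero_iff (RingHom.ker (Cyc.specMap x _ hsp)).primeCompl
          (X.presheaf.stalk (S.σ r)) a).1 h4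
        refine ⟨s, ?_, hsa⟩
        rw [primeOf_asIdeal]
        exact hs
      obtain ⟨s, hs, hs'⟩ := K793.NodeDesc.exists_common (primeOf hsp).2 h3
      have h5 := K793.SecAlg.eq_zero_of_mul_ker hϖ (DualGr.stalkHom f x) hth S.φ S.flat S.hloc S.hm _ (stalkHom_id_bijective R) S.ψ (hψ f S)
        S.hmB S.hu S.hv S.hw S.huv (s := s) (fun a ha => hs' a ha)
      rw [h5] at hs
      exact hs (Ideal.zero_mem _))
    exact ⟨q, hq, hqm⟩
  · refine ⟨1, one_mem _, ?_⟩
    rw [Ideal.span_singleton_one, ← notMem_support_iff_stalkIdeal_eq_top]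
    intro h
    apply hr
    have h1 : j z ∈ (S.σ.ker.support : Set X) := h
    rwa [Scheme.Hom.support_ker, S.σ.isClosedEmbedding.isClosed_range.closure_eq] at h1

include hϖ hf hth in
/-- the orders of an extension of the divisor of the section, at the node of the section -/
theorem dvd_at (j : XK ⟶ X) [IsOpenImmersion j] (hj : ∀ x : X, x ∈ Set.range j ↔ f x ≠ (closedPoint R : PrimeSpectrum R))
    {J : X.IdealSheafData} (hJ : BlowUp.IsEffCartierIdeal J) (hJj : J.comap j = S.σ.ker.comap j) {p₁ p₂ : Ideal (X.presheaf.stalk x)}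
    (hmin : (Ideal.span {DualGr.stalkHom f x ϖ}).minimalPrimes = {p₁, p₂}) {n₁ n₂ : ℕ}
    (h1 : OrdI p₁ (DualGr.stalkHom f x ϖ) (stalkIdeal J x) n₁) (h2 : OrdI p₂ (DualGr.stalkHom f x ϖ) (stalkIdeal J x) n₂) :
    (l : ℤ) ∣ ((n₁ : ℤ) - n₂) - 1 ∨ (l : ℤ) ∣ ((n₁ : ℤ) - n₂) + 1 := by
  obtain ⟨g, hg, hgJ⟩ := exists_stalkIdeal_eq_span hJ x
  have hp := peq_of_comap_eq hϖ f j (fun y hy => (hj y).2 hy) hJj x
  rw [hgJ, ← ker_comp f S] at hp
  rw [hgJ] at h1 h2
  have hflat : Flat f := hf.1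
  have hπ := K793.Basic.stalkHom_mem_nonZeroDivisors f x hϖ.ne_zero
  have hp₁ : p₁.IsPrime := by
    have : p₁ ∈ (Ideal.span {DualGr.stalkHom f x ϖ}).minimalPrimes := by rw [hmin]; simp
    exact this.1.1
  have hp₂ : p₂.IsPrime := by
    have : p₂ ∈ (Ideal.span {DualGr.stalkHom f x ϖ}).minimalPrimes := by rw [hmin]; simp
    exact this.1.1
  exact K793.SecAlg.dvd_main hϖ (DualGr.stalkHom f x) hth S.φ S.flat S.hloc S.hm _ (stalkHom_id_bijective R) S.ψ (hψ f S)
    S.hmB S.hu S.hv S.hw S.huv hg hp hmin (ord_of_ordI hp₁ hπ h1) (ord_of_ordI hp₂ hπ h2)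

end Main

section Final

variable (R : Type u) [CommRing R] [IsDomain R] [IsDiscreteValuationRing R] [HenselianLocalRing R] [IsSepClosed (IsLocalRing.ResidueField R)]

theorem main {X : Scheme.{u}} (f : X ⟶ Spec (CommRingCat.of R)) [IsProper f]
    (hf : Curv2.IsNodalFamily f)
    {V E : Type} [Fintype V] [Fintype E] [DecidableEq V] [DecidableEq E]
    (cv : V → Set ↥(f.fiber (IsLocalRing.closedPoint R))) (ce : E → ↥(f.fiber (IsLocalRing.closedPoint R)))
    (ends : E → V × V) (ϖ : R) (hϖ : Irreducible ϖ) (l : E → ℕ)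
    (hΓ : DualGr.IsLabelledDualGraph R f cv ce ends (fun e => if l e = 0 then 0 else ϖ ^ l e))
    (hsf : Formal2.PicPullbackSurjective (Limits.pullback.fst f (Neron.genPt R))) :
    LabGraph.IsCircuitCoprime ends l := by
  have hflat : Flat f := hf.1
  have hlfp : LocallyOfFinitePresentation f := hf.2.1
  have hred := K793.NodalFib.isReduced_fiber f hf (IsLocalRing.closedPoint R)
  have hN : IsLocallyNoetherian X := LocallyOfFiniteType.isLocallyNoetherian f
  have hcX : CompactSpace X := QuasiCompact.compactSpace_of_compactSpace f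
  have hqX : QuasiSeparatedSpace X := by
    have : QuasiSeparatedSpace ↥(Spec (CommRingCat.of R)) := inferInstance
    exact quasiSeparatedSpace_of_quasiSeparated f
  have hoi := K793.FibGeom.isOpenImmersion_fst f
  have hjr := K793.FibGeom.mem_range_iff f
  set j := Limits.pullback.fst f (Neron.genPt R) with hj
  obtain ⟨η, hη, hcv⟩ := K793.FibGeom.exists_genPts hΓ.isDualGraph
  have hend : ∀ e v, ((ends e).1 = v ∨ (ends e).2 = v) ↔ η v ⤳ f.fiberι (IsLocalRing.closedPoint R) (ce e) := fun e v =>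
    (hΓ.isDualGraph.incidence e v).trans (hcv v (ce e))
  have hdata : ∀ e, K793.NodeMin.NodeData (DualGr.stalkHom f (f.fiberι (IsLocalRing.closedPoint R) (ce e)) ϖ) (l e)
      (primeOf ((hend e _).1 (Or.inl rfl))).asIdeal (primeOf ((hend e _).1 (Or.inr rfl))).asIdeal := by
    intro e
    obtain ⟨p₁, p₂, hd⟩ := K793.NodeMin.exists_nodeData R _ (DualGr.stalkHom f (f.fiberι (IsLocalRing.closedPoint R) (ce e))) hϖ (l e) (hΓ.thick e)
    refine K793.FibGeom.nodeLike_of_nodeData hη hϖ hd _ _ fun v hv => ?_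
    rcases (hend e v).2 hv with h | h
    · exact Or.inl h.symm
    · exact Or.inr h.symm
  refine K793.Graph.isCircuitCoprime_of_solvable ends l fun e₀ => ?_
  by_cases hl1 : l e₀ = 1
  · refine ⟨fun _ => 0, fun e => ?_⟩
    by_cases he : e = e₀
    · rw [he, hl1]; simp
    · rw [if_neg he]; simp
  set x := f.fiberι (IsLocalRing.closedPoint R) (ce e₀) with hx
  have hfx : f x = (closedPoint R : PrimeSpectrum R) := Groth.Agent.CycB.FiberStalk.fiberι_mem f _ (ce e₀)
  obtain ⟨S⟩ := K793.SecGeom.exists_secAt hϖ f hf hfx (K793.SecAlg.not_isRegularLocalRing hϖ _ (hΓ.thick e₀) hl1)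
  have hDK := isEff_comap hϖ f hf S (hΓ.thick e₀) j hjr
  obtain ⟨J, hJ, hJj⟩ := K793.PicDiv.exists_ideal_of_surjective X f hsf _ hDK
  -- orders at the generic points
  have hord : ∀ v, ∃ n : ℕ, stalkIdeal J (η v) = Ideal.span {DualGr.stalkHom f (η v) ϖ ^ n} := by
    intro v
    obtain ⟨h1, h2⟩ := hη.isDiscreteValuationRing v
    obtain ⟨g, hg, hgJ⟩ := exists_stalkIdeal_eq_span hJ (η v)
    have hirr : Irreducible (DualGr.stalkHom f (η v) ϖ) := by
      rw [IsDiscreteValuationRing.irreducible_iff_uniformizer]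
      exact hη.maximalIdeal_eq hϖ v
    obtain ⟨n, hn⟩ := IsDiscreteValuationRing.associated_pow_irreducible (nonZeroDivisors.ne_zero hg) hirr
    exact ⟨n, by rw [hgJ]; exact Ideal.span_singleton_eq_span_singleton.2 hn⟩
  choose φ hφ using hord
  have hdvd : ∀ e, e ≠ e₀ → (l e : ℤ) ∣ (φ (ends e).1 : ℤ) - φ (ends e).2 := by
    intro e he
    set y := f.fiberι (IsLocalRing.closedPoint R) (ce e) with hy
    have hfy : f y = (closedPoint R : PrimeSpectrum R) := Groth.Agent.CycB.FiberStalk.fiberι_mem f _ (ce e)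
    obtain ⟨g, hg, hgJ⟩ := exists_stalkIdeal_eq_span hJ y
    have hp := peq_of_comap_eq hϖ f j (fun y hy => (hjr y).2 hy) hJj y
    have hne : S.σ (closedPoint R : PrimeSpectrum R) ≠ y := by
      rw [S.hσ, hx, hy]
      intro h
      exact he (hΓ.isDualGraph.pt_injective ((f.fiberι (closedPoint R)).isEmbedding.injective h)).symm
    rw [hgJ, Groth.Agent.Sga7.H543.SecStalk.stalkIdeal_ker_eq_top S.hσf hfy hne] at hp
    obtain ⟨N, hN⟩ := hp.2 1 trivial
    rw [mul_one] at hN
    obtain ⟨s, hs⟩ := Ideal.mem_span_singleton'.1 hN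
    have hπ := K793.Basic.stalkHom_mem_nonZeroDivisors f y hϖ.ne_zero
    have h1 := K793.Extend.ordI_of_stalk f J ((hend e _).1 (Or.inl rfl)) (hφ (ends e).1)
    have h2 := K793.Extend.ordI_of_stalk f J ((hend e _).1 (Or.inr rfl)) (hφ (ends e).2)
    rw [hgJ] at h1 h2
    exact (hdata e).ord_sub g s N _ _ (by rw [mul_comm]; exact hs) (ord_of_ordI (primeOf _).2 hπ h1) (ord_of_ordI (primeOf _).2 hπ h2)
  have h0 : (l e₀ : ℤ) ∣ ((φ (ends e₀).1 : ℤ) - φ (ends e₀).2) - 1 ∨ (l e₀ : ℤ) ∣ ((φ (ends e₀).1 : ℤ) - φ (ends e₀).2) + 1 :=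
    dvd_at hϖ f hf S (hΓ.thick e₀) j hjr hJ hJj (hdata e₀).min
      (K793.Extend.ordI_of_stalk f J ((hend e₀ _).1 (Or.inl rfl)) (hφ (ends e₀).1))
      (K793.Extend.ordI_of_stalk f J ((hend e₀ _).1 (Or.inr rfl)) (hφ (ends e₀).2))
  rcases h0 with h0 | h0
  · refine ⟨fun v => φ v, fun e => ?_⟩
    by_cases he : e = e₀
    · subst he
      rw [if_pos rfl, ← dvd_neg, neg_sub]
      exact h0
    · rw [if_neg he, zero_sub]
      exact (dvd_neg).2 (hdvd e he)
  · refine ⟨fun v => -φ v, fun e => ?_⟩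
    by_cases he : e = e₀
    · subst he
      rw [if_pos rfl]
      have h1 : (1 : ℤ) - (-(φ (ends e).1 : ℤ) - -(φ (ends e).2 : ℤ)) = ((φ (ends e).1 : ℤ) - φ (ends e).2) + 1 := by ring
      rw [h1]
      exact h0
    · rw [if_neg he]
      have h1 : (0 : ℤ) - (-(φ (ends e).1 : ℤ) - -(φ (ends e).2 : ℤ)) = ((φ (ends e).1 : ℤ) - φ (ends e).2) := by ring
      rw [h1]
      exact hdvd e he

end Final

end K793.SecMain
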