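import Groth.Agent.SemiFact.K793.FibGeom
import Groth.Agent.SemiFact.K793.SecAlg
import Groth.Agent.SemiFact.K793.NodeDef
import Groth.Agent.CycB.FiniteFlat
import Groth.Agent.CalgB.GorFlat

/-!
# Local algebra of vertical divisors on a nodal family
-/

set_option autoImplicit false
universe u

open IsLocalRing

namespace K793.VertAlg

open K793.NodeAlg K793.NodeDesc K793.NodeMin Groth.Agent.CycB.FiniteFlat

section Red

variable {A : Type u} [CommRing A] {π : A}

theorem mem_pow_of_ord (hπ : π ∈ nonZeroDivisors A) (hrad : (Ideal.span {π}).IsRadical) {N : ℕ} {a : A}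
    (h : ∀ P ∈ (Ideal.span {π}).minimalPrimes, ∃ n, N ≤ n ∧ Ord P π a n) : a ∈ Ideal.span {π ^ N} := by
  induction N generalizing a with
  | zero => simp
  | succ N ih =>
    have h1 : a ∈ Ideal.span {π} := by
      rw [← hrad.radical, ← Ideal.sInf_minimalPrimes, Ideal.mem_sInf]
      intro P hP
      have hPp : P.IsPrime := hP.1.1
      obtain ⟨n, hn, ho⟩ := h P hP
      exact ho.mem (hP.1.2 (Ideal.mem_span_singleton_self _)) (by omega)
    obtain ⟨c, rfl⟩ := Ideal.mem_span_singleton'.1 h1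
    have h2 : c ∈ Ideal.span {π ^ N} := by
      refine ih fun P hP => ?_
      have hPp : P.IsPrime := hP.1.1
      obtain ⟨n, hn, ho⟩ := h P hP
      refine ⟨n - 1, by omega, ?_⟩
      refine Ord.cancel (m := 1) hπ ?_
      rw [pow_one, mul_comm, show n - 1 + 1 = n by omega]
      exact ho
    obtain ⟨d, rfl⟩ := Ideal.mem_span_singleton'.1 h2
    exact Ideal.mem_span_singleton'.2 ⟨d, by ring⟩

theorem ord_cofactor (hπ : π ∈ nonZeroDivisors A) {P : Ideal A} (hπP : π ∈ P) {g h : A} {N n : ℕ} (hgh : g * h = π ^ N)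
    (ho : Ord P π g n) : n ≤ N ∧ Ord P π h (N - n) := by
  obtain ⟨s, t, hs, ht, hst⟩ := ho
  have key : t * π ^ n * h = s * π ^ N := by rw [← hst, mul_assoc, hgh]
  have hle : n ≤ N := by
    by_contra hlt
    push Not at hlt
    obtain ⟨k, rfl⟩ := Nat.exists_eq_add_of_lt hlt
    have h3 : (t * π ^ (k + 1) * h - s) * π ^ N = 0 := by
      have : π ^ (N + k + 1) = π ^ (k + 1) * π ^ N := by rw [← pow_add]; congr 1; omega
      rw [this] at key
      linear_combination key
    have h4 := (mul_right_mem_nonZeroDivisors_eq_zero_iff (pow_mem hπ N)).1 h3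
    refine hs ?_
    rw [← sub_eq_zero.1 h4]
    refine Ideal.mul_mem_right _ _ (Ideal.mul_mem_left _ _ (Ideal.pow_mem_of_mem _ hπP _ (Nat.succ_pos k)))
  refine ⟨hle, t, s, ht, hs, ?_⟩
  obtain ⟨k, rfl⟩ := Nat.exists_eq_add_of_le hle
  rw [show n + k - n = k by omega]
  have h3 : (t * h - s * π ^ k) * π ^ n = 0 := by
    rw [pow_add] at key
    linear_combination key
  exact sub_eq_zero.1 ((mul_right_mem_nonZeroDivisors_eq_zero_iff (pow_mem hπ n)).1 h3)

/-- divisors of powers of `π` with the same orders agree -/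
theorem mem_span_of_ord (hπ : π ∈ nonZeroDivisors A) (hrad : (Ideal.span {π}).IsRadical) {g h g' : A} {N : ℕ} (hgh : g * h = π ^ N)
    (H : ∀ P ∈ (Ideal.span {π}).minimalPrimes, ∃ n m, n ≤ m ∧ Ord P π g n ∧ Ord P π g' m) : g' ∈ Ideal.span {g} := by
  have h1 : g' * h ∈ Ideal.span {π ^ N} := by
    refine mem_pow_of_ord hπ hrad fun P hP => ?_
    have hPp : P.IsPrime := hP.1.1
    obtain ⟨n, m, hnm, h1, h2⟩ := H P hP
    obtain ⟨h3, h4⟩ := ord_cofactor hπ (hP.1.2 (Ideal.mem_span_singleton_self _)) hgh h1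
    exact ⟨m + (N - n), by omega, h2.mul h4⟩
  obtain ⟨c, hc⟩ := Ideal.mem_span_singleton'.1 h1
  have hh : h ∈ nonZeroDivisors A := by
    have h2 : g * h ∈ nonZeroDivisors A := hgh ▸ pow_mem hπ N
    exact (mul_mem_nonZeroDivisors.1 h2).2
  refine Ideal.mem_span_singleton'.2 ⟨c, ?_⟩
  have h3 : (c * g - g') * h = 0 := by rw [← hgh] at hc; linear_combination hc
  exact sub_eq_zero.1 ((mul_right_mem_nonZeroDivisors_eq_zero_iff hh).1 h3)

theorem isUnit_of_ord (hπ : π ∈ nonZeroDivisors A) (hrad : (Ideal.span {π}).IsRadical) {g h : A} {N : ℕ} (hgh : g * h = π ^ N)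
    (H : ∀ P ∈ (Ideal.span {π}).minimalPrimes, Ord P π g 0) : IsUnit g := by
  have h1 : (1 : A) ∈ Ideal.span {g} := by
    refine mem_span_of_ord hπ hrad hgh fun P hP => ⟨0, 0, le_rfl, H P hP, ?_⟩
    have hPp : P.IsPrime := hP.1.1
    rw [ord_zero_iff]
    exact (Ideal.ne_top_iff_one P).1 hPp.ne_top
  rw [Ideal.mem_span_singleton] at h1
  exact isUnit_of_dvd_one h1

end Red

section RLen

theorem rlen_quot {R A C : Type u} [CommRing R] [CommRing A] [CommRing C] (φ : R →+* A) (ψ : A →+* C) (hψ : Function.Surjective ψ)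
    {I : Ideal A} (hI : RingHom.ker ψ = I) : rlen ((Ideal.Quotient.mk I).comp φ) = rlen (ψ.comp φ) := by
  subst hI
  have h1 : ψ.comp φ = ((RingHom.quotientKerEquivOfSurjective hψ : A ⧸ RingHom.ker ψ ≃+* C) : A ⧸ RingHom.ker ψ →+* C).comp
      ((Ideal.Quotient.mk (RingHom.ker ψ)).comp φ) := by
    ext r
    rfl
  rw [h1, rlen_equiv_comp]

theorem rlen_eq_zero {R A : Type u} [CommRing R] [CommRing A] (φ : R →+* A) (h : Subsingleton A) : rlen φ = 0 := by
  unfold rlen
  let i1 : Algebra R A := φ.toAlgebra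
  exact Module.length_eq_zero_iff.2 h

/-- length over the base of a local artinian quotient with the same residue field -/
theorem rlen_of_residue {R A : Type u} [CommRing R] [CommRing A] [IsLocalRing R] [IsLocalRing A] (φ : R →+* A) [IsLocalHom φ]
    (hs : ∀ a : A, ∃ r : R, a - φ r ∈ maximalIdeal A) : rlen φ = Module.length A A := by
  rw [rlen_isLocalHom]
  have h1 : Function.Surjective (ResidueField.map φ) := by
    intro b
    obtain ⟨b, rfl⟩ := residue_surjective b
    obtain ⟨r, hr⟩ := hs b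
    refine ⟨residue R r, ?_⟩
    rw [ResidueField.map_residue, ← sub_eq_zero, ← map_sub, residue_eq_zero_iff, ← neg_mem_iff, neg_sub]
    exact hr
  have h2 : rlen (ResidueField.map φ) = 1 := by
    have h3 := rlen_comp_surjective (ResidueField.map φ) h1 (RingHom.id (ResidueField A))
    rw [RingHom.id_comp] at h3
    rw [h3]
    unfold rlen
    let i1 : Algebra (ResidueField A) (ResidueField A) := (RingHom.id (ResidueField A)).toAlgebra
    exact Module.length_eq_one (ResidueField A) (ResidueField A)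
  rw [h2, mul_one]

theorem rlen_branch {B T : Type u} [CommRing B] [IsLocalRing B] [IsNoetherianRing B] [CommRing T] (q : B →+* T) (hq : Function.Surjective q) {P : Ideal B} (hP : RingHom.ker q = P)
    (hker : P.IsPrime) {y : B} (hy : y ∉ P) (hm : maximalIdeal B = P ⊔ Ideal.span {y}) (k : ℕ) :
    rlen (Ideal.Quotient.mk (P ⊔ Ideal.span {y ^ k})) = k := by
  subst hP
  have hnt : Nontrivial T := ⟨⟨q y, 0, fun h => hy h⟩⟩
  have hTl : IsLocalRing T := IsLocalRing.of_surjective' q hq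
  have hTN : IsNoetherianRing T := isNoetherianRing_of_surjective B T q hq
  have hql : IsLocalHom q := IsLocalHom.of_surjective q hq
  have hTd : IsDomain T := by
    have : NoZeroDivisors T := ⟨by
      intro a b hab
      obtain ⟨a, rfl⟩ := hq a
      obtain ⟨b, rfl⟩ := hq b
      exact hker.mem_or_mem (show a * b ∈ RingHom.ker q by rw [RingHom.mem_ker, map_mul, hab])⟩
    exact NoZeroDivisors.to_isDomain T
  have hyT : maximalIdeal T = Ideal.span {q y} := by
    have h1 : (maximalIdeal B).map q = maximalIdeal T := by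
      apply le_antisymm
      · rw [Ideal.map_le_iff_le_comap]
        intro z hz
        exact (IsLocalRing.mem_maximalIdeal _).2 fun hu => hz (isUnit_of_map_unit q z hu)
      · intro z hz
        obtain ⟨z, rfl⟩ := hq z
        refine Ideal.mem_map_of_mem _ ?_
        exact (IsLocalRing.mem_maximalIdeal _).2 fun hu => hz (hu.map q)
    rw [← h1, hm, Ideal.map_sup, Ideal.map_span, Set.image_singleton, sup_eq_right]
    refine (Ideal.map_le_iff_le_comap.2 fun z hz => ?_)
    rw [Ideal.mem_comap, (show q z = 0 from hz)]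
    exact Ideal.zero_mem _
  obtain ⟨hd, hdvr⟩ := K793.FibGeom.exists_dvr hyT (mem_nonZeroDivisors_of_ne_zero hy)
  have h2 := IsDiscreteValuationRing.length_quotient_pow_maximalIdeal (R := T) k
  have h3 : RingHom.ker ((Ideal.Quotient.mk (maximalIdeal T ^ k)).comp q) = RingHom.ker q ⊔ Ideal.span {y ^ k} := by
    have h4 : RingHom.ker ((Ideal.Quotient.mk (maximalIdeal T ^ k)).comp q) = (maximalIdeal T ^ k).comap q := by
      ext z
      rw [RingHom.mem_ker, Ideal.mem_comap]
      exact Ideal.Quotient.eq_zero_iff_mem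
    rw [h4, hyT, Ideal.span_singleton_pow, ← map_pow, ← Set.image_singleton, ← Ideal.map_span, Ideal.comap_map_of_surjective' _ hq, sup_comm]
  have h4 := rlen_quot (RingHom.id B) ((Ideal.Quotient.mk (maximalIdeal T ^ k)).comp q) (Ideal.Quotient.mk_surjective.comp hq) h3
  rw [RingHom.comp_id, RingHom.comp_id] at h4
  rw [h4, rlen_comp_surjective q hq]
  exact h2

end RLen

section Node

variable {S A B : Type u} [CommRing S] [CommRing A] [CommRing B] [IsLocalRing A] [IsLocalRing B] [Algebra S B]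
    [Algebra A B] [IsNoetherianRing A] [IsNoetherianRing B] [IsLocalHom (algebraMap A B)] [Module.FaithfullyFlat A B]
    {ϖ : S} {x y : B} {a : S} (h : IsNode ϖ x y a) {π₀ : A} (hπ : algebraMap A B π₀ = algebraMap S B ϖ)

include h hπ

theorem exists_generator_of_vert {l : ℕ} (ha : algebraMap S B a = if l = 0 then 0 else algebraMap S B ϖ ^ l) {j : Ideal A} {o₁ o₂ N : ℕ}
    (hN : π₀ ^ N ∈ j) (hs : Sat j) (h1 : OrdI ((Ideal.span {x, algebraMap S B ϖ}).comap (algebraMap A B)) π₀ j o₁)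
    (h2 : OrdI ((Ideal.span {y, algebraMap S B ϖ}).comap (algebraMap A B)) π₀ j o₂) (hl : (l : ℤ) ∣ (o₁ : ℤ) - o₂) :
    ∃ g ∈ nonZeroDivisors A, j = Ideal.span {g} := by
  have hp₁ := h.prime₁
  have hp₂ := h.prime₂
  obtain ⟨g, hg, hgj⟩ := h.exists_eq_span_of_zmod (j := j.map (algebraMap A B)) (sat_map hs) (b := 1) (one_mem _)
    (⟨fun b _ => ⟨0, by simp⟩, fun b _ => ⟨N, Ideal.mul_mem_right _ _ (by
      rw [← hπ, ← map_pow]; exact Ideal.mem_map_of_mem _ hN)⟩⟩)
    (hπ ▸ ordI_map h.prime₁ rfl h1) (hπ ▸ ordI_map h.prime₂ rfl h2) (n₁ := 0) (n₂ := 0)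
    (ord_zero_iff.2 ((Ideal.ne_top_iff_one _).1 hp₁.ne_top)) (ord_zero_iff.2 ((Ideal.ne_top_iff_one _).1 hp₂.ne_top)) (l := l) (by
      by_cases hl0 : l = 0
      · exact Or.inl hl0
      · exact Or.inr (by rw [ha, if_neg hl0])) (by
      have : ((0 : ℕ) - (o₁ : ℤ)) - ((0 : ℕ) - (o₂ : ℤ)) = -((o₁ : ℤ) - o₂) := by push_cast; ring
      rw [this]
      exact (dvd_neg).2 hl)
  exact exists_generator_of_map hg hgj

omit [IsLocalRing A] [IsNoetherianRing A] [IsNoetherianRing B] [IsLocalHom (algebraMap A B)] in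
theorem inf_eq : (Ideal.span {x, algebraMap S B ϖ}).comap (algebraMap A B) ⊓ (Ideal.span {y, algebraMap S B ϖ}).comap (algebraMap A B) =
    Ideal.span {π₀} := by
  apply le_antisymm
  · rw [← Ideal.comap_inf, ← Ideal.comap_map_eq_self_of_faithfullyFlat (B := B) (Ideal.span {π₀}), Ideal.map_span, Set.image_singleton, hπ]
    exact Ideal.comap_mono h.inf
  · rw [Ideal.span_singleton_le_iff_mem]
    exact ⟨by rw [SetLike.mem_coe, Ideal.mem_comap, hπ]; exact Ideal.subset_span (by simp),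
      by rw [SetLike.mem_coe, Ideal.mem_comap, hπ]; exact Ideal.subset_span (by simp)⟩

omit [IsLocalRing A] [IsNoetherianRing A] [IsNoetherianRing B] [IsLocalHom (algebraMap A B)] in
theorem isRadical : (Ideal.span {π₀}).IsRadical := by
  rw [← inf_eq h hπ]
  have hp₁ := h.prime₁.comap (algebraMap A B)
  have hp₂ := h.prime₂.comap (algebraMap A B)
  exact hp₁.isRadical.inf hp₂.isRadical

omit [IsLocalRing A] [IsNoetherianRing A] [IsNoetherianRing B] [IsLocalHom (algebraMap A B)] in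
theorem map_comap_eq (hne : (Ideal.span {x, algebraMap S B ϖ}).comap (algebraMap A B) ≠
      (Ideal.span {y, algebraMap S B ϖ}).comap (algebraMap A B)) :
    ((Ideal.span {x, algebraMap S B ϖ}).comap (algebraMap A B)).map (algebraMap A B) = Ideal.span {x, algebraMap S B ϖ} := by
  refine le_antisymm Ideal.map_comap_le fun c hc => ?_
  have hp₁ := h.prime₁.comap (algebraMap A B)
  obtain ⟨s, hs2, hs1⟩ : ∃ s ∈ (Ideal.span {y, algebraMap S B ϖ}).comap (algebraMap A B),
      s ∉ (Ideal.span {x, algebraMap S B ϖ}).comap (algebraMap A B) := by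
    by_contra hcon
    push Not at hcon
    apply hne
    have hmin := (comap_mem_minimalPrimes h hπ).2 (comap_mem_minimalPrimes h.symm hπ).1 hcon
    exact le_antisymm hmin hcon
  obtain ⟨b, hb⟩ := h.exists_eq_mul (g := algebraMap A B s * c) (Ideal.mul_mem_left _ _ hc) (Ideal.mul_mem_right _ _ hs2)
  rw [← hπ] at hb
  refine Groth.Agent.CalgB.GorFlat.mem_map_colon π₀ s b c hb _ fun w hw => ?_
  have h1 : s * w ∈ (Ideal.span {x, algebraMap S B ϖ}).comap (algebraMap A B) := by
    refine Ideal.span_le.2 ?_ hw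
    rw [Set.singleton_subset_iff, SetLike.mem_coe, Ideal.mem_comap, hπ]
    exact Ideal.subset_span (by simp)
  exact (hp₁.mem_or_mem h1).resolve_left hs1

omit [IsNoetherianRing A] [IsLocalHom (algebraMap A B)] in
theorem rlen_node {R : Type u} [CommRing R] [IsLocalRing R] (φ : R →+* A) [IsLocalHom φ] (hφ : ∀ a : A, ∃ r : R, a - φ r ∈ maximalIdeal A)
    (hm : (maximalIdeal A).map (algebraMap A B) = maximalIdeal B) (h0 : ∀ b : B, ∃ a : A, algebraMap A B a - b ∈ maximalIdeal B)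
    {l : ℕ} (ha : algebraMap S B a = if l = 0 then 0 else algebraMap S B ϖ ^ l)
    (hne : (Ideal.span {x, algebraMap S B ϖ}).comap (algebraMap A B) ≠ (Ideal.span {y, algebraMap S B ϖ}).comap (algebraMap A B))
    {g g' : A} {N n : ℕ} (hgg : g * g' = π₀ ^ N) (hπ₀ : π₀ ∈ nonZeroDivisors A)
    (h1 : Ord ((Ideal.span {x, algebraMap S B ϖ}).comap (algebraMap A B)) π₀ g 0)
    (h2 : Ord ((Ideal.span {y, algebraMap S B ϖ}).comap (algebraMap A B)) π₀ g n) :
    (rlen ((Ideal.Quotient.mk ((Ideal.span {x, algebraMap S B ϖ}).comap (algebraMap A B) ⊔ Ideal.span {g})).comp φ)).toNat = n / l := by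
  have hp₁ := h.prime₁
  have hp₂ := h.prime₂
  have hB1 := ord_map (B := B) (P := Ideal.span {x, algebraMap S B ϖ}) hπ rfl h1
  have hB2 := ord_map (B := B) (P := Ideal.span {y, algebraMap S B ϖ}) hπ rfl h2
  have hgB : algebraMap A B g * algebraMap A B g' = algebraMap S B ϖ ^ N := by rw [← map_mul, hgg, map_pow, hπ]
  by_cases hn : n = 0
  · subst hn
    have hu : IsUnit g := by
      refine isUnit_of_ord hπ₀ (isRadical h hπ) hgg fun P hP => ?_
      rw [minimalPrimes_eq h hπ] at hP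
      rcases hP with hP | hP
      · rw [hP]; exact h1
      · rw [Set.mem_singleton_iff] at hP; rw [hP]; exact h2
    have htop : (Ideal.span {x, algebraMap S B ϖ}).comap (algebraMap A B) ⊔ Ideal.span {g} = ⊤ := by
      rw [Ideal.span_singleton_eq_top.2 hu, sup_top_eq]
    rw [rlen_eq_zero _ (Ideal.Quotient.subsingleton_iff.2 htop), Nat.zero_div]
    rfl
  have hdvd := h.dvd_ord_sub ha hgB hB1 hB2
  have hl : l ≠ 0 := by
    rintro rfl
    simp at hdvd
    exact hn hdvd
  rw [if_neg hl] at ha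
  obtain ⟨k, w, hw, hnk, hgk⟩ := h.symm.eq_mul_of_ord_zero ha hgB hB2 hB1
  have hk : k ≠ 0 := by
    rintro rfl
    exact hn (by rw [hnk, mul_zero])
  have hnl : n / l = k := by rw [hnk]; exact Nat.mul_div_cancel_left k (Nat.pos_of_ne_zero hl)
  rw [hnl]
  let J : Ideal B := Ideal.span {x, algebraMap S B ϖ} ⊔ Ideal.span {y ^ k}
  have hyP : Ideal.span {y ^ k} ≤ maximalIdeal B := by
    rw [Ideal.span_singleton_le_iff_mem]
    exact Ideal.pow_mem_of_mem _ h.y_mem_max _ (Nat.pos_of_ne_zero hk)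
  have hJm : J ≤ maximalIdeal B := sup_le h.P₁_le hyP
  have hJ1 : J ≠ ⊤ := fun h0 => (Ideal.IsPrime.ne_top (I := maximalIdeal B) inferInstance) (top_le_iff.1 (h0 ▸ hJm))
  have hlC : IsLocalRing (B ⧸ J) := isLocalRing_quotient J hJ1
  let ψ : A →+* B ⧸ J := (Ideal.Quotient.mk J).comp (algebraMap A B)
  have hJe : J = ((Ideal.span {x, algebraMap S B ϖ}).comap (algebraMap A B) ⊔ Ideal.span {g}).map (algebraMap A B) := by
    rw [Ideal.map_sup, map_comap_eq h hπ hne, Ideal.map_span, Set.image_singleton, hgk, Ideal.span_singleton_mul_right_unit hw]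
  have hψk : RingHom.ker ψ = (Ideal.span {x, algebraMap S B ϖ}).comap (algebraMap A B) ⊔ Ideal.span {g} := by
    have h3 : RingHom.ker ψ = J.comap (algebraMap A B) := by
      ext z
      rw [RingHom.mem_ker, Ideal.mem_comap]
      exact Ideal.Quotient.eq_zero_iff_mem
    rw [h3, hJe, Ideal.comap_map_eq_self_of_faithfullyFlat]
  obtain ⟨M, hM⟩ := h.exists_pow_le (c := J) (n := 1) (by
      rw [pow_one]; exact Ideal.mem_sup_left (Ideal.subset_span (by simp))) (s₁ := y ^ k) (fun h3 => h.notMem₁ (hp₁.mem_of_pow_mem _ h3))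
    (Ideal.mem_sup_right (Ideal.mem_span_singleton_self _)) (s₂ := x) h.notMem₂ (Ideal.mem_sup_left (Ideal.subset_span (by simp)))
  have hψs : Function.Surjective ψ := by
    intro c
    obtain ⟨b, rfl⟩ := Ideal.Quotient.mk_surjective c
    obtain ⟨a', ha'⟩ := K793.SecAlg.exists_sub_mem_pow (algebraMap A B) hm h0 M b
    refine ⟨a', ?_⟩
    change Ideal.Quotient.mk J (algebraMap A B a') = Ideal.Quotient.mk J b
    rw [← sub_eq_zero, ← map_sub]
    exact Ideal.Quotient.eq_zero_iff_mem.2 (hM ha')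
  have hψl : IsLocalHom ψ := IsLocalHom.of_surjective ψ hψs
  have hψφ : IsLocalHom (ψ.comp φ) := RingHom.isLocalHom_comp ψ φ
  rw [rlen_quot φ ψ hψs hψk, rlen_of_residue (ψ.comp φ) (fun c => by
    obtain ⟨a', rfl⟩ := hψs c
    obtain ⟨r, hr⟩ := hφ a'
    refine ⟨r, ?_⟩
    change ψ a' - ψ (φ r) ∈ _
    rw [← map_sub]
    exact map_nonunit ψ _ hr)]
  have h4 := rlen_branch (Ideal.Quotient.mk (Ideal.span {x, algebraMap S B ϖ})) Ideal.Quotient.mk_surjective Ideal.mk_ker hp₁
    (y := y) h.notMem₁ (by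
      rw [h.max]
      apply le_antisymm
      · rw [Ideal.span_le]
        rintro z (rfl | rfl | rfl)
        · exact Ideal.mem_sup_left (Ideal.subset_span (by simp))
        · exact Ideal.mem_sup_right (Ideal.subset_span (by simp))
        · exact Ideal.mem_sup_left (Ideal.subset_span (by simp))
      · refine sup_le (Ideal.span_mono ?_) (Ideal.span_mono ?_)
        · intro z hz
          rcases hz with hz | hz
          · rw [hz]; simp
          · rw [Set.mem_singleton_iff] at hz; rw [hz]; simp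
        · intro z hz
          rw [Set.mem_singleton_iff] at hz; rw [hz]; simp) k
  have h5 : rlen (Ideal.Quotient.mk J) = Module.length (B ⧸ J) (B ⧸ J) := by
    have h6 := rlen_comp_surjective (Ideal.Quotient.mk J) Ideal.Quotient.mk_surjective (RingHom.id (B ⧸ J))
    rw [RingHom.id_comp] at h6
    rw [h6]
    rfl
  have h7 : rlen (Ideal.Quotient.mk J) = k := h4
  rw [← h5, h7]
  rfl

end Node

/-- The local structure at a node of thickness `l` with branches `p₁, p₂`: vertical ideals and lengths. -/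
structure VertData {R A : Type u} [CommRing R] [CommRing A] [IsLocalRing A] (φ : R →+* A) (π₀ : A) (l : ℕ) (p₁ p₂ : Ideal A) : Prop where
  node : NodeData π₀ l p₁ p₂
  vert : ∀ (j : Ideal A) (o₁ o₂ N : ℕ), π₀ ^ N ∈ j → Sat j → OrdI p₁ π₀ j o₁ → OrdI p₂ π₀ j o₂ → (l : ℤ) ∣ (o₁ : ℤ) - o₂ →
    ∃ g ∈ nonZeroDivisors A, j = Ideal.span {g}
  len₁ : p₁ ≠ p₂ → ∀ (g g' : A) (N n : ℕ), g * g' = π₀ ^ N → Ord p₁ π₀ g 0 → Ord p₂ π₀ g n →
    (rlen ((Ideal.Quotient.mk (p₁ ⊔ Ideal.span {g})).comp φ)).toNat = n / l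
  len₂ : p₂ ≠ p₁ → ∀ (g g' : A) (N n : ℕ), g * g' = π₀ ^ N → Ord p₂ π₀ g 0 → Ord p₁ π₀ g n →
    (rlen ((Ideal.Quotient.mk (p₂ ⊔ Ideal.span {g})).comp φ)).toNat = n / l

theorem VertData.symm {R A : Type u} [CommRing R] [CommRing A] [IsLocalRing A] {φ : R →+* A} {π₀ : A} {l : ℕ} {p₁ p₂ : Ideal A}
    (h : VertData φ π₀ l p₁ p₂) : VertData φ π₀ l p₂ p₁ where
  node := h.node.symm
  vert := fun j o₁ o₂ N hN hs h1 h2 hl => h.vert j o₂ o₁ N hN hs h2 h1 (by rw [← dvd_neg, neg_sub]; exact hl)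
  len₁ := h.len₂
  len₂ := h.len₁

open K793.NodeSer K793.NodeThick K934.SerNode in
theorem exists_isNode (R A : Type u) [CommRing R] [IsDomain R] [IsDiscreteValuationRing R] [CommRing A] [IsLocalRing A]
    [IsNoetherianRing A] (φ : R →+* A) {ϖ : R} (hϖ : Irreducible ϖ) (l : ℕ)
    (h : DualGr.IsThickNode φ (if l = 0 then 0 else ϖ ^ l)) :
    ∃ (_ : Algebra (Curv2.cpl R) (Curv2.cpl A)) (x y : Curv2.cpl A) (a : Curv2.cpl R),
      algebraMap (Curv2.cpl R) (Curv2.cpl A) a =
        (if l = 0 then 0 else algebraMap (Curv2.cpl R) (Curv2.cpl A) (algebraMap R (Curv2.cpl R) ϖ) ^ l) ∧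
      (∀ r, algebraMap (Curv2.cpl R) (Curv2.cpl A) (algebraMap R (Curv2.cpl R) r) = algebraMap A (Curv2.cpl A) (φ r)) ∧
      IsNode (algebraMap R (Curv2.cpl R) ϖ) x y a := by
  obtain ⟨e, he⟩ := h
  obtain ⟨hd, hdvr⟩ := isDiscreteValuationRing_cpl R
  let Δ : Curv2.cpl R := algebraMap R (Curv2.cpl R) (if l = 0 then 0 else ϖ ^ l)
  let e2 : DualGr.nodeRing R (if l = 0 then 0 else ϖ ^ l) ≃+* NN Δ := Ideal.quotEquivOfEq (srel_eq _).symm
  let e3 : NN Δ ≃+* Curv2.cpl A := (e.trans e2).symm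
  let alg : Algebra (Curv2.cpl R) (Curv2.cpl A) := (e3.toRingHom.comp (algebraMap (Curv2.cpl R) (NN Δ))).toAlgebra
  have hΔ : Δ ∈ Ideal.span {algebraMap R (Curv2.cpl R) ϖ} := by
    simp only [Δ]
    split_ifs with hl
    · rw [map_zero]; exact Ideal.zero_mem _
    · rw [map_pow]
      exact Ideal.pow_mem_of_mem _ (Ideal.mem_span_singleton_self _) _ (Nat.pos_of_ne_zero hl)
  have hloc : IsLocalRing (NN Δ) := e3.symm.isLocalRing
  have h1 := isNode_of_ringEquiv e3 (fun s => rfl) (isNode_NN (irreducible_cpl R hϖ) Δ hΔ)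
  refine ⟨alg, e3 (xx Δ 0), e3 (xx Δ 1), Δ, ?_, ?_, h1⟩
  · simp only [Δ]
    split_ifs with hl
    · rw [map_zero, map_zero]
    · rw [map_pow, map_pow]
  · intro r
    change e3 (algebraMap (Curv2.cpl R) (NN Δ) (algebraMap R (Curv2.cpl R) r)) = _
    rw [RingEquiv.symm_apply_eq]
    change _ = e2 (e (algebraMap A (Curv2.cpl A) (φ r)))
    rw [he]
    rfl

theorem exists_vertData (R A : Type u) [CommRing R] [IsDomain R] [IsDiscreteValuationRing R] [CommRing A] [IsLocalRing A]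
    [IsNoetherianRing A] (φ : R →+* A) [IsLocalHom φ] {ϖ : R} (hϖ : Irreducible ϖ) (hreg : φ ϖ ∈ nonZeroDivisors A) (l : ℕ)
    (h : DualGr.IsThickNode φ (if l = 0 then 0 else ϖ ^ l)) : ∃ p₁ p₂ : Ideal A, VertData φ (φ ϖ) l p₁ p₂ := by
  obtain ⟨alg, x, y, a, ha, hπ, hn⟩ := exists_isNode R A φ hϖ l h
  obtain ⟨hd, hdvr⟩ := K793.NodeThick.isDiscreteValuationRing_cpl R
  have hN : IsNoetherianRing (Curv2.cpl A) := Groth.Agent.Ega4A.CplQuot.isNoetherianRing_cpl A
  have hF : Module.FaithfullyFlat A (Curv2.cpl A) := Groth.Agent.Ega4A.CplQuot.faithfullyFlat_cpl A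
  have hϖ' := K793.NodeThick.irreducible_cpl R hϖ
  have hc : IsAdicComplete (Ideal.span {algebraMap R (Curv2.cpl R) ϖ}) (Curv2.cpl R) := by
    rw [← hϖ'.maximalIdeal_eq]
    infer_instance
  have hm : (maximalIdeal A).map (algebraMap A (Curv2.cpl A)) = maximalIdeal (Curv2.cpl A) := AdicCompletion.maximalIdeal_eq_map.symm
  have h0 : ∀ b : Curv2.cpl A, ∃ a : A, algebraMap A (Curv2.cpl A) a - b ∈ maximalIdeal (Curv2.cpl A) := by
    intro b
    obtain ⟨a, ha⟩ := K793.NodeDef.exists_sub_mem_pow A 1 b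
    rw [pow_one] at ha
    exact ⟨a, by rw [← neg_mem_iff, neg_sub]; exact ha⟩
  have hφ : ∀ a : A, ∃ r : R, a - φ r ∈ maximalIdeal A := by
    intro a
    obtain ⟨s, hs⟩ := hn.surj (algebraMap A (Curv2.cpl A) a)
    obtain ⟨r, hr⟩ := K793.NodeDef.exists_sub_mem_pow R 1 s
    rw [pow_one] at hr
    refine ⟨r, ?_⟩
    have h1 : algebraMap A (Curv2.cpl A) (a - φ r) ∈ maximalIdeal (Curv2.cpl A) := by
      have h2 : algebraMap (Curv2.cpl R) (Curv2.cpl A) (s - algebraMap R (Curv2.cpl R) r) ∈ maximalIdeal (Curv2.cpl A) := by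
        rw [hϖ'.maximalIdeal_eq] at hr
        obtain ⟨c, hc⟩ := Ideal.mem_span_singleton'.1 hr
        rw [← hc, map_mul]
        exact Ideal.mul_mem_left _ _ hn.π_mem_max
      have h3 := Ideal.add_mem _ hs h2
      rw [map_sub (algebraMap (Curv2.cpl R) (Curv2.cpl A)), hπ, sub_add_sub_cancel, ← map_sub] at h3
      exact h3
    exact (IsLocalRing.mem_maximalIdeal _).2 fun hu => h1 (hu.map _)
  refine ⟨_, _, K793.NodeMin.nodeData_of_isNode hn (hπ ϖ).symm hϖ' ha, ?_, ?_, ?_⟩
  · intro j o₁ o₂ N hN hs h1 h2 hl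
    exact exists_generator_of_vert hn (hπ ϖ).symm ha hN hs h1 h2 hl
  · intro hne g g' N n hgg h1 h2
    exact rlen_node hn (hπ ϖ).symm φ hφ hm h0 ha hne hgg hreg h1 h2
  · intro hne g g' N n hgg h1 h2
    exact rlen_node hn.symm (hπ ϖ).symm φ hφ hm h0 ha hne hgg hreg h1 h2

end K793.VertAlg
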