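import Groth.Agent.SemiFact.K793.VertUniq
import Groth.Agent.SemiFact.K793.ChainStep
import Groth.Agent.VarietyB.DegFin
import Groth.Agent.S1535
import Groth.Agent.CycA.DivMult2
import Groth.Agent.Sga5.H844.FinLen

/-!
# Degrees of vertical Cartier divisors on the components of the special fibre
-/

set_option autoImplicit false
universe u
open CategoryTheory CategoryTheory.Limits AlgebraicGeometry IsLocalRing

namespace K793.VertDeg

open Groth.Agent.Divis.CartierBasic Groth.Agent.Divis.CartierStalk Groth.Agent.CycB.LocQuot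
  Groth.Agent.Divis.StalkPrime Groth.Agent.Divis.StalkAssoc Groth.Agent.Divis.MapOpen
open K793.NodeAlg K793.NodeDesc K793.NodeMin K793.Extend K793.VertAlg K793.FibGeom K793.VertUniq
open Groth.Agent.CycB.FiniteFlat Groth.Agent.Dix.InterNum Groth.Agent.Dix.InterSurf

section H0

variable {k : Type u} [Field k]

theorem h0_eq_finsum_rlen {Z : Scheme.{u}} (g : Z ⟶ Spec (CommRingCat.of k)) [IsFinite g] :
    h0 g = ∑ᶠ z : Z, (rlen (DualGr.stalkHom g z)).toNat := by
  have haff : IsAffine Z := isAffine_of_isAffineHom g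
  have hU : IsAffineOpen (⊤ : Z.Opens) := isAffineOpen_top Z
  let _ : Algebra k Γ(Z, ⊤) := (glo g).toAlgebra
  have hfin : Module.Finite k Γ(Z, ⊤) := by
    have h1 : (g.appTop).hom.Finite := g.finite_appTop
    have h2 : (Scheme.ΓSpecIso (CommRingCat.of k)).inv.hom.Finite :=
      RingHom.Finite.of_surjective _
        (ConcreteCategory.bijective_of_isIso (Scheme.ΓSpecIso (CommRingCat.of k)).inv).2
    exact h1.comp h2
  have h3 : h0 g = Module.finrank k Γ(Z, ⊤) := rfl
  rw [h3, ← sum_rlen_algebra]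
  let φ : Z → PrimeSpectrum Γ(Z, ⊤) := fun z => hU.primeIdealOf ⟨z, trivial⟩
  have hφ : Function.Bijective φ := by
    constructor
    · intro z z' h
      have h4 := congrArg hU.fromSpec h
      simpa [φ, hU.fromSpec_primeIdealOf] using h4
    · intro p
      refine ⟨hU.fromSpec p, ?_⟩
      have h5 : hU.fromSpec (φ (hU.fromSpec p)) = hU.fromSpec p := hU.fromSpec_primeIdealOf _
      exact hU.fromSpec.isOpenEmbedding.injective h5
  rw [← finsum_comp_equiv (Equiv.ofBijective φ hφ)]
  refine finsum_congr fun z => ?_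
  congr 1
  let zz : (⊤ : Z.Opens) := ⟨z, trivial⟩
  let _ : Algebra Γ(Z, ⊤) (Z.presheaf.stalk z) := TopCat.Presheaf.algebra_section_stalk Z.presheaf zz
  have hloc : IsLocalization.AtPrime (Z.presheaf.stalk z) (φ z).asIdeal := hU.isLocalization_stalk zz
  have h4 := rlen_equiv_comp ((algebraMap Γ(Z, ⊤) (Localization.AtPrime (φ z).asIdeal)).comp (algebraMap k Γ(Z, ⊤)))
    (IsLocalization.algEquiv (φ z).asIdeal.primeCompl (Localization.AtPrime (φ z).asIdeal) (Z.presheaf.stalk z)).toRingEquiv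
  refine h4.symm.trans ?_
  congr 1
  ext r
  change (IsLocalization.algEquiv (φ z).asIdeal.primeCompl (Localization.AtPrime (φ z).asIdeal) (Z.presheaf.stalk z))
    (algebraMap Γ(Z, ⊤) (Localization.AtPrime (φ z).asIdeal) (algebraMap k Γ(Z, ⊤) r)) = _
  rw [AlgEquiv.commutes]
  rfl

theorem finsum_comp_injective {α β : Type*} (i : α → β) (hi : Function.Injective i) (F : β → ℕ) (h : ∀ b, b ∉ Set.range i → F b = 0) :
    ∑ᶠ a, F (i a) = ∑ᶠ b, F b := by
  have h2 : Function.support F ⊆ Set.range i := by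
    intro b hb
    by_contra h3
    exact hb (h b h3)
  rw [← finsum_mem_univ F, finsum_mem_inter_support_eq _ Set.univ (Set.range i)
      (by rw [Set.univ_inter, Set.inter_eq_right.2 h2]), finsum_mem_range hi]

end H0

section Hz

variable {R : Type u} [CommRing R] [IsDomain R] [IsDiscreteValuationRing R] {X : Scheme.{u}} (f : X ⟶ Spec (CommRingCat.of R))

/-- the length of the intersection, computed at the points -/
theorem hz_eq (Γ : ArSurf.VertComp R (Over.mk f)) (D : X.IdealSheafData)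
    (hfin : IsFinite ((D.comap Γ.ι).subschemeι ≫ Γ.curve.hom)) :
    hz Γ D = ∑ᶠ x : X, (rlen ((Ideal.Quotient.mk (stalkIdeal (Γ.ι.ker ⊔ D) x)).comp (DualGr.stalkHom f x))).toNat := by
  unfold hz
  rw [h0_eq_finsum_rlen]
  let i : (D.comap Γ.ι).subscheme ⟶ X := (D.comap Γ.ι).subschemeι ≫ Γ.ι
  have hi : IsClosedImmersion i := inferInstance
  have hker : i.ker = Γ.ι.ker ⊔ D := by
    change (D.comap Γ.ι).map Γ.ι = _
    exact map_comap_of_closed Γ.ι D
  have hw : i ≫ f = ((D.comap Γ.ι).subschemeι ≫ Γ.curve.hom) ≫ Spec.map (CommRingCat.ofHom (residue R)) := by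
    rw [Category.assoc, Category.assoc]
    congr 1
    exact Γ.w
  rw [← finsum_comp_injective i i.isClosedEmbedding.injective]
  · refine finsum_congr fun z => ?_
    congr 1
    have h1 : (DualGr.stalkHom ((D.comap Γ.ι).subschemeι ≫ Γ.curve.hom) z).comp (residue R) =
        (i.stalkMap z).hom.comp (DualGr.stalkHom f (i z)) := by
      ext r
      rw [RingHom.comp_apply, RingHom.comp_apply, ← K793.NodeFam.stalkHom_comp, hw]
      exact (K793.ChainStep.stalkHom_specMap _ (residue R) z r).symm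
    rw [← rlen_comp_surjective (residue R) residue_surjective, h1]
    refine (rlen_quot _ (i.stalkMap z).hom (i.stalkMap_surjective z) ?_).symm
    rw [← hker]
    exact ker_stalkMap i z
  · intro x hx
    have h1 : stalkIdeal (Γ.ι.ker ⊔ D) x = ⊤ := by
      rw [← notMem_support_iff_stalkIdeal_eq_top, ← hker]
      intro h
      apply hx
      have h1 : x ∈ (i.ker.support : Set X) := h
      rwa [Scheme.Hom.support_ker, i.isClosedEmbedding.isClosed_range.closure_eq] at h1
    rw [rlen_eq_zero _ (Ideal.Quotient.subsingleton_iff.2 h1)]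
    rfl

end Hz

section Local

variable {R : Type u} [CommRing R] [IsDomain R] [IsDiscreteValuationRing R] {ϖ : R} (hϖ : Irreducible ϖ) {X : Scheme.{u}}
  {f : X ⟶ Spec (CommRingCat.of R)} {V : Type} {η : V → X} (hη : IsGenPts f η)

/-- the branches at a point are given by the components through it -/
theorem vertData_of {ϖ : R} (hη : IsGenPts f η) (hϖ : Irreducible ϖ) {x : X} {l : ℕ}
    {p₁ p₂ : Ideal (X.presheaf.stalk x)} (hd : VertData (DualGr.stalkHom f x) (DualGr.stalkHom f x ϖ) l p₁ p₂) {a b : V}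
    (ha : η a ⤳ x) (hb : η b ⤳ x) (hab : ∀ v, η v ⤳ x → v = a ∨ v = b) :
    VertData (DualGr.stalkHom f x) (DualGr.stalkHom f x ϖ) l (primeOf ha).asIdeal (primeOf hb).asIdeal := by
  have h1 := hη.minimalPrimes_eq hϖ x
  rw [hd.node.min] at h1
  have h2 : ({p₁, p₂} : Set (Ideal (X.presheaf.stalk x))) = {(primeOf ha).asIdeal, (primeOf hb).asIdeal} := by
    rw [h1]
    ext q
    constructor
    · rintro ⟨v, hv, rfl⟩
      rcases hab v hv with rfl | rfl
      · left; rfl
      · right; rfl
    · rintro (rfl | rfl)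
      · exact ⟨a, ha, rfl⟩
      · exact ⟨b, hb, rfl⟩
  rcases Set.pair_eq_pair_iff.1 h2 with ⟨rfl, rfl⟩ | ⟨rfl, rfl⟩
  · exact hd
  · exact hd.symm

theorem stalkIdeal_ptIdeal_eq {v : V} {x : X} (hv : η v ⤳ x) : stalkIdeal (IntMult.ptIdeal (η v)) x = (primeOf hv).asIdeal := by
  rw [primeOf_asIdeal]
  exact Groth.Agent.CycA.StalkIdeal.stalkIdeal_ptIdeal hv

include hη in
theorem primeOf_ne {v w : V} (hvw : v ≠ w) {x : X} (hv : η v ⤳ x) (hw : η w ⤳ x) : (primeOf hv).asIdeal ≠ (primeOf hw).asIdeal := by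
  intro h
  have h1 : primeOf hv = primeOf hw := PrimeSpectrum.ext h
  rw [primeOf_inj] at h1
  exact hvw (hη.inj v w (specializes_of_eq h1))

include hϖ hη in
theorem stalkIdeal_eq_top_of_forall [IsReduced (f.fiber (closedPoint R))] [Flat f] {J : X.IdealSheafData} {φ : V → ℕ}
    (hJ : IsVert f ϖ η J φ) {x : X} (h : ∀ v, η v ⤳ x → φ v = 0) : stalkIdeal J x = ⊤ := by
  by_cases hx : f x = (closedPoint R : PrimeSpectrum R)
  · obtain ⟨g, g', N, hg, hgI, hgg, ho⟩ := hJ.exists_local hϖ x
    rw [hgI, Ideal.span_singleton_eq_top]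
    refine isUnit_of_ord (Basic.stalkHom_mem_nonZeroDivisors f x hϖ.ne_zero) (isRadical_span hϖ hx) hgg fun P hP => ?_
    rw [hη.minimalPrimes_eq hϖ x] at hP
    obtain ⟨v, hv, rfl⟩ := hP
    have := ho v hv
    rwa [h v hv] at this
  · exact hJ.top x hx

include hϖ hη in
/-- the local contribution of a node -/
theorem local_node [IsReduced (f.fiber (closedPoint R))] [Flat f] [DecidableEq V] {J : X.IdealSheafData} {φ : V → ℕ}
    (hJ : IsVert f ϖ η J φ) {x : X} {a b : V} (ha : η a ⤳ x) (hb : η b ⤳ x) (hab : ∀ v, η v ⤳ x → v = a ∨ v = b) {l : ℕ}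
    (hd : VertData (DualGr.stalkHom f x) (DualGr.stalkHom f x ϖ) l (primeOf ha).asIdeal (primeOf hb).asIdeal) (v : V) (hv0 : φ v = 0) :
    (rlen ((Ideal.Quotient.mk (stalkIdeal (IntMult.ptIdeal (η v) ⊔ J) x)).comp (DualGr.stalkHom f x))).toNat =
      (if a = v then φ b / l else 0) + (if b = v then φ a / l else 0) := by
  by_cases hvx : η v ⤳ x
  · obtain ⟨g, g', N, hg, hgI, hgg, ho⟩ := hJ.exists_local hϖ x
    rw [stalkIdeal_sup, hgI, stalkIdeal_ptIdeal_eq hvx]
    by_cases hab' : a = b
    · -- a loop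
      subst hab'
      obtain rfl : v = a := by simpa using hab v hvx
      have h1 : stalkIdeal J x = ⊤ := stalkIdeal_eq_top_of_forall hϖ hη hJ fun w hw => by
        obtain rfl : w = v := by simpa using hab w hw
        exact hv0
      rw [← hgI, h1, sup_top_eq, rlen_eq_zero _ (Ideal.Quotient.subsingleton_iff.2 rfl), if_pos rfl, hv0, Nat.zero_div]
      rfl
    rcases hab v hvx with hva | hvb
    · subst hva
      rw [if_pos rfl, if_neg (fun h => hab' h.symm), add_zero]
      have h1 := ho v ha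
      rw [hv0] at h1
      exact hd.len₁ (primeOf_ne hη hab' ha hb) g g' N (φ b) hgg h1 (ho b hb)
    · subst hvb
      rw [if_pos rfl, if_neg hab', zero_add]
      have h1 := ho v hb
      rw [hv0] at h1
      exact hd.len₂ (primeOf_ne hη (fun h => hab' h.symm) hb ha) g g' N (φ a) hgg h1 (ho a ha)
  · have h1 : stalkIdeal (IntMult.ptIdeal (η v)) x = ⊤ := Groth.Agent.CycA.StalkIdeal.stalkIdeal_ptIdeal_eq_top hvx
    rw [stalkIdeal_sup, h1, top_sup_eq, rlen_eq_zero _ (Ideal.Quotient.subsingleton_iff.2 rfl), if_neg (by rintro rfl; exact hvx ha),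
      if_neg (by rintro rfl; exact hvx hb)]
    rfl

include hϖ hη in
theorem local_smooth [IsReduced (f.fiber (closedPoint R))] [Flat f] {J : X.IdealSheafData} {φ : V → ℕ}
    (hJ : IsVert f ϖ η J φ) {x : X} (hx : ∀ a b : V, η a ⤳ x → η b ⤳ x → a = b) (v : V) (hv0 : φ v = 0) :
    (rlen ((Ideal.Quotient.mk (stalkIdeal (IntMult.ptIdeal (η v) ⊔ J) x)).comp (DualGr.stalkHom f x))).toNat = 0 := by
  have h1 : stalkIdeal (IntMult.ptIdeal (η v) ⊔ J) x = ⊤ := by
    by_cases hvx : η v ⤳ x
    · have h1 : stalkIdeal J x = ⊤ := stalkIdeal_eq_top_of_forall hϖ hη hJ fun w hw => by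
        rw [hx w v hw hvx]; exact hv0
      rw [stalkIdeal_sup, h1, sup_top_eq]
    · have h1 : stalkIdeal (IntMult.ptIdeal (η v)) x = ⊤ := Groth.Agent.CycA.StalkIdeal.stalkIdeal_ptIdeal_eq_top hvx
      rw [stalkIdeal_sup, h1, top_sup_eq]
  rw [rlen_eq_zero _ (Ideal.Quotient.subsingleton_iff.2 h1)]
  rfl

include hϖ hη in
/-- a smooth point of the special fibre lies on one component -/
theorem unique_gen [LocallyOfFinitePresentation f] [Flat f] (z : f.fiber (closedPoint R))
    (hz : z ∉ DualGr.nonsmoothPts (f.fiberToSpecResidueField (closedPoint R))) {a b : V}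
    (ha : η a ⤳ f.fiberι (closedPoint R) z) (hb : η b ⤳ f.fiberι (closedPoint R) z) : a = b := by
  set x := f.fiberι (closedPoint R) z with hx
  have hlfp : LocallyOfFinitePresentation (f.fiberToSpecResidueField (closedPoint R)) :=
    MorphismProperty.pullback_snd _ _ inferInstance
  have h1 : z ∈ (f.fiberToSpecResidueField (closedPoint R)).smoothLocus := not_not.1 hz
  let U := (f.fiberToSpecResidueField (closedPoint R)).smoothLocus
  have hsm : Smooth (U.ι ≫ f.fiberToSpecResidueField (closedPoint R)) := by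
    rw [← Scheme.Hom.smoothLocus_eq_top_iff, ← Scheme.Hom.preimage_smoothLocus_eq]
    ext y
    simp only [Scheme.Opens.ι_preimage_self, U]
  let _ : (U : Scheme.{u}).Over (Spec (CommRingCat.of ((Spec (CommRingCat.of R)).residueField (closedPoint R)))) :=
    ⟨U.ι ≫ f.fiberToSpecResidueField (closedPoint R)⟩
  have h3 : IsRegularLocalRing ((U : Scheme.{u}).presheaf.stalk ⟨z, h1⟩) :=
    @Groth.Agent.S1535.result ((Spec (CommRingCat.of R)).residueField (closedPoint R)) _ U _ hsm ⟨z, h1⟩
  have h4 : IsRegularLocalRing ((f.fiber (closedPoint R)).presheaf.stalk z) :=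
    IsRegularLocalRing.of_ringEquiv ((asIso (U.ι.stalkMap ⟨z, h1⟩)).commRingCatIsoToRingEquiv.symm)
  have h5 : IsDomain ((f.fiber (closedPoint R)).presheaf.stalk z) := (Groth.Agent.S2821.result _).1
  have hxc : f x = (closedPoint R : PrimeSpectrum R) := Groth.Agent.CycB.FiberStalk.fiberι_mem f (closedPoint R) z
  have h6 : RingHom.ker ((f.fiberι (closedPoint R)).stalkMap z).hom = Ideal.span {DualGr.stalkHom f x ϖ} := by
    rw [Groth.Agent.CycB.FiberStalk.ker_stalkMap_fiberι, K793.Basic.fibIdeal_eq_span f x hϖ hxc]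
  have h7 : (Ideal.span {DualGr.stalkHom f x ϖ}).IsPrime := by
    rw [← h6]
    exact RingHom.ker_isPrime _
  have h8 := hη.minimalPrimes_eq hϖ x
  rw [Ideal.minimalPrimes_eq_subsingleton_self] at h8
  have h9 : ∀ {v : V} (hv : η v ⤳ x), (primeOf hv).asIdeal = Ideal.span {DualGr.stalkHom f x ϖ} := by
    intro v hv
    have : (primeOf hv).asIdeal ∈ ({Ideal.span {DualGr.stalkHom f x ϖ}} : Set (Ideal (X.presheaf.stalk x))) := by
      rw [h8]
      exact ⟨v, hv, rfl⟩
    exact this
  by_contra hne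
  exact primeOf_ne hη hne ha hb ((h9 ha).trans (h9 hb).symm)

end Local

end K793.VertDeg
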