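import Groth.Agent.SemiFact.K793.VertAlg

/-!
# Vertical Cartier divisors with given orders
-/

set_option autoImplicit false
universe u
open CategoryTheory CategoryTheory.Limits AlgebraicGeometry IsLocalRing

namespace K793.VertExt

open Groth.Agent.Divis.CartierBasic Groth.Agent.Divis.CartierStalk Groth.Agent.CycB.LocQuot
  Groth.Agent.Divis.StalkPrime Groth.Agent.Divis.StalkAssoc Groth.Agent.Divis.MapOpen
open K793.NodeAlg K793.NodeDesc K793.NodeMin K793.Extend K793.VertAlg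

section Main

variable {R : Type u} [CommRing R] [IsDomain R] [IsDiscreteValuationRing R] {X XK : Scheme.{u}}
  (f : X ⟶ Spec (CommRingCat.of R)) [Flat f] [IsLocallyNoetherian X] (j : XK ⟶ X) [IsOpenImmersion j]

/-- **Vertical divisors with given orders.** -/
theorem exists_vert (hj : ∀ x : X, x ∈ Set.range j ↔ f x ≠ (closedPoint R : PrimeSpectrum R))
    {ϖ : R} (hϖ : Irreducible ϖ) {V E : Type} [Fintype V] (η : V → X)
    (hη : ∀ v, f (η v) = (closedPoint R : PrimeSpectrum R)) (hinj : ∀ v w, η v ⤳ η w → v = w)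
    (hmax : ∀ v, maximalIdeal (X.presheaf.stalk (η v)) = Ideal.span {DualGr.stalkHom f (η v) ϖ})
    (pt : E → X)
    (hufd : ∀ x, f x = (closedPoint R : PrimeSpectrum R) → (∀ e, pt e ≠ x) → (∀ v, η v ≠ x) →
      ∃ _ : IsDomain (X.presheaf.stalk x), UniqueFactorizationMonoid (X.presheaf.stalk x))
    (ends : E → V × V) (h1 : ∀ e, η (ends e).1 ⤳ pt e) (h2 : ∀ e, η (ends e).2 ⤳ pt e) (l : E → ℕ)
    (hnode : ∀ e, ∀ (jj : Ideal (X.presheaf.stalk (pt e))) (o₁ o₂ N : ℕ), DualGr.stalkHom f (pt e) ϖ ^ N ∈ jj → Sat jj →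
      OrdI (primeOf (h1 e)).asIdeal (DualGr.stalkHom f (pt e) ϖ) jj o₁ →
      OrdI (primeOf (h2 e)).asIdeal (DualGr.stalkHom f (pt e) ϖ) jj o₂ →
      (l e : ℤ) ∣ (o₁ : ℤ) - o₂ → ∃ g ∈ nonZeroDivisors _, jj = Ideal.span {g})
    (φ : V → ℕ) (hφ : ∀ e, (l e : ℤ) ∣ (φ (ends e).1 : ℤ) - φ (ends e).2) :
    ∃ J : X.IdealSheafData, BlowUp.IsEffCartierIdeal J ∧ J.comap j = ⊤ ∧
      ∀ v, stalkIdeal J (η v) = Ideal.span {DualGr.stalkHom f (η v) ϖ ^ φ v} := by
  have hNK : IsLocallyNoetherian XK := isLocallyNoetherian_of_isOpenImmersion j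
  have hπ0 : ∀ x, DualGr.stalkHom f x ϖ ∈ nonZeroDivisors (X.presheaf.stalk x) := fun x =>
    Basic.stalkHom_mem_nonZeroDivisors f x hϖ.ne_zero
  have hπu : ∀ x, IsUnit (DualGr.stalkHom f x ϖ) ↔ x ∈ Set.range j := fun x =>
    (Basic.isUnit_stalkHom_iff_ne f x hϖ).trans (hj x).symm
  have hηj : ∀ v, η v ∉ Set.range j := fun v hv => (hj _).1 hv (hη v)
  -- stalks of the vertical ideals
  have hP1 : ∀ v, ∀ y ∈ Set.range j, stalkIdeal (IntMult.ptIdeal (η v)) y = ⊤ := by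
    intro v y hy
    exact Groth.Agent.CycA.StalkIdeal.stalkIdeal_ptIdeal_eq_top fun hs =>
      hηj v (hs.mem_open j.isOpenEmbedding.isOpen_range hy)
  have hP2 : ∀ v w, v ≠ w → stalkIdeal (IntMult.ptIdeal (η v)) (η w) = ⊤ := by
    intro v w hvw
    exact Groth.Agent.CycA.StalkIdeal.stalkIdeal_ptIdeal_eq_top fun hs => hvw (hinj v w hs)
  have hP3 : ∀ v, stalkIdeal (IntMult.ptIdeal (η v)) (η v) = Ideal.span {DualGr.stalkHom f (η v) ϖ} := by
    intro v
    rw [← hmax v, ← ker_refl (η v)]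
    exact Groth.Agent.CycA.StalkIdeal.stalkIdeal_ptIdeal (specializes_refl (η v))
  have hP4 : ∀ v x, DualGr.stalkHom f x ϖ ∈ stalkIdeal (IntMult.ptIdeal (η v)) x := by
    intro v x
    by_cases hx : η v ⤳ x
    · have h3 : stalkIdeal (IntMult.ptIdeal (η v)) x = RingHom.ker (Cyc.specMap x (η v) hx) :=
        Groth.Agent.CycA.StalkIdeal.stalkIdeal_ptIdeal hx
      rw [h3, mem_ker_specMap_iff, stalkSpecializes_stalkHom, hπu]
      exact hηj v
    · have h3 : stalkIdeal (IntMult.ptIdeal (η v)) x = ⊤ :=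
        Groth.Agent.CycA.StalkIdeal.stalkIdeal_ptIdeal_eq_top hx
      rw [h3]
      trivial
  let J' : X.IdealSheafData := ∏ v, IntMult.ptIdeal (η v) ^ φ v
  have hJ' : ∀ x, stalkIdeal J' x = ∏ v, stalkIdeal (IntMult.ptIdeal (η v)) x ^ φ v := by
    intro x
    rw [Groth.Agent.Sga7.H543.SecStalk.stalkIdeal_prod]
    simp only [stalkIdeal_pow]
  have hJ'K : ∀ y ∈ Set.range j, stalkIdeal J' y = ⊤ := by
    intro y hy
    rw [hJ', ← Ideal.one_eq_top]
    exact Finset.prod_eq_one fun v _ => by rw [hP1 v y hy, Ideal.top_pow, Ideal.one_eq_top]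
  have hJ'η : ∀ w, stalkIdeal J' (η w) = Ideal.span {DualGr.stalkHom f (η w) ϖ ^ φ w} := by
    intro w
    rw [hJ']
    have : ∀ v ∈ Finset.univ, v ≠ w → stalkIdeal (IntMult.ptIdeal (η v)) (η w) ^ φ v = 1 := by
      intro v _ hvw
      rw [hP2 v w hvw, Ideal.top_pow, Ideal.one_eq_top]
    rw [Finset.prod_eq_single w this (fun h => (h (Finset.mem_univ _)).elim), hP3, Ideal.span_singleton_pow]
  have hle' : ∀ x, DualGr.stalkHom f x ϖ ^ (∑ v, φ v) ∈ stalkIdeal J' x := by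
    intro x
    rw [hJ', ← Ideal.span_singleton_le_iff_mem, ← Ideal.span_singleton_pow, ← Finset.prod_pow_eq_pow_sum]
    refine Finset.prod_le_prod' fun v _ => ?_
    refine Ideal.pow_right_mono ?_ _
    rw [Ideal.span_singleton_le_iff_mem]
    exact hP4 v x
  -- the open set where `J'` is invertible
  let U : X.Opens := ⟨{x | ∃ g ∈ nonZeroDivisors (X.presheaf.stalk x), stalkIdeal J' x = Ideal.span {g}}, by
    rw [isOpen_iff_forall_mem_open]
    rintro x ⟨g, hg, hgJ⟩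
    obtain ⟨W, hxW, t, ht, hW⟩ := exists_generator_of_stalkIdeal J' x g hg hgJ
    refine ⟨W.1, ?_, W.1.2, hxW⟩
    intro y hy
    refine ⟨X.presheaf.germ W.1 y hy t, ?_, by rw [stalkIdeal_eq J' W hy, hW, Ideal.map_span, Set.image_singleton]⟩
    let := X.presheaf.algebra_section_stalk (⟨y, hy⟩ : W.1)
    have := W.2.isLocalization_stalk ⟨y, hy⟩
    exact IsLocalization.map_nonZeroDivisors_le (W.2.primeIdealOf ⟨y, hy⟩).asIdeal.primeCompl
      (X.presheaf.stalk y) ⟨t, ht, rfl⟩⟩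
  have hjU : ∀ y ∈ Set.range j, y ∈ U := by
    intro y hy
    exact ⟨1, one_mem _, by rw [hJ'K y hy, Ideal.span_singleton_one]⟩
  have hηU : ∀ v, η v ∈ U := fun v => ⟨_, pow_mem (hπ0 _) _, hJ'η v⟩
  let D' := J'.comap U.ι
  have hD' : BlowUp.IsEffCartierIdeal D' := by
    rw [isEffCartierIdeal_iff_stalkIdeal]
    intro z
    obtain ⟨g, hg, hgJ⟩ := z.2
    have hb : Function.Bijective (U.ι.stalkMap z).hom := (asIso (U.ι.stalkMap z)).commRingCatIsoToRingEquiv.bijective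
    refine ⟨(U.ι.stalkMap z).hom g, map_mem_nonZeroDivisors_of_bijective _ hb hg, ?_⟩
    rw [stalkIdeal_comap]
    change (stalkIdeal J' z.1).map _ = _
    rw [hgJ, Ideal.map_span, Set.image_singleton]
    rfl
  let J : X.IdealSheafData := D'.map U.ι
  have hJU : ∀ x ∈ U, stalkIdeal J x = stalkIdeal J' x := by
    intro x hx
    exact stalkIdeal_eq_of_comap_eq U.ι (comap_map D' U.ι) ⟨x, hx⟩
  have hJ'J : J' ≤ J := Scheme.IdealSheafData.le_map_comap _ _
  have hJK : J.comap j = ⊤ := by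
    apply ext_stalkIdeal
    intro z
    rw [stalkIdeal_comap, hJU _ (hjU _ ⟨z, rfl⟩), hJ'K _ ⟨z, rfl⟩, Ideal.map_top, stalkIdeal_top]
  refine ⟨J, ?_, hJK, fun v => (hJU _ (hηU v)).trans (hJ'η v)⟩
  rw [isEffCartierIdeal_iff_stalkIdeal]
  intro x
  by_cases hxU : x ∈ U
  · rw [hJU x hxU]
    exact hxU
  have hxr : x ∉ Set.range U.ι := by
    rw [Scheme.Opens.range_ι]
    exact hxU
  have hxc : f x = (closedPoint R : PrimeSpectrum R) := by
    by_contra h
    exact hxU (hjU x ((hj x).2 h))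
  by_cases hxe : ∃ e, pt e = x
  · obtain ⟨e, rfl⟩ := hxe
    exact hnode e (stalkIdeal J (pt e)) (φ (ends e).1) (φ (ends e).2) (∑ v, φ v) (stalkIdeal_mono hJ'J _ (hle' _))
      (sat_point U.ι D' (pt e) hxr) (ordI_of_stalk f J (h1 e) ((hJU _ (hηU _)).trans (hJ'η _)))
      (ordI_of_stalk f J (h2 e) ((hJU _ (hηU _)).trans (hJ'η _))) (hφ e)
  · push Not at hxe
    obtain ⟨hdom, hU⟩ := hufd x hxc hxe (fun v hv => hxU (hv ▸ hηU v))
    exact exists_generator_of_ufd U.ι D' hD' x hxr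

end Main

end K793.VertExt
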