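import Groth.Agent.SemiFact.K793.VertExt
import Groth.Agent.SemiFact.K793.SecMain
import Groth.Agent.Sga7.H543.SpecFib
import Groth.Agent.Models.H39.InterProper

/-!
# Vertical Cartier divisors are determined by their orders
-/

set_option autoImplicit false
universe u
open CategoryTheory CategoryTheory.Limits AlgebraicGeometry IsLocalRing

namespace K793.VertUniq

open Groth.Agent.Divis.CartierBasic Groth.Agent.Divis.CartierStalk Groth.Agent.CycB.LocQuot
  Groth.Agent.Divis.StalkPrime Groth.Agent.Divis.StalkAssoc Groth.Agent.Divis.MapOpen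
open K793.NodeAlg K793.NodeDesc K793.NodeMin K793.Extend K793.VertAlg K793.FibGeom

variable {R : Type u} [CommRing R] [IsDomain R] [IsDiscreteValuationRing R] {ϖ : R} (hϖ : Irreducible ϖ) {X XK : Scheme.{u}}
  (f : X ⟶ Spec (CommRingCat.of R)) (j : XK ⟶ X) [IsOpenImmersion j] {V : Type} {η : V → X}

omit [IsDomain R] [IsDiscreteValuationRing R] in
theorem stalkIdeal_prin (t : R) (x : X) :
    stalkIdeal (Groth.Agent.Dix.VertForm.prin (Over.mk f) t) x = Ideal.span {DualGr.stalkHom f x t} := by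
  unfold Groth.Agent.Dix.VertForm.prin
  refine (Groth.Agent.Sga7.H543.SpecFib.stalkIdeal_ofIdealTop _ x).trans ?_
  rw [Ideal.map_span, Set.image_singleton]
  rfl

/-- A vertical Cartier divisor with its orders at the generic points of the special fibre -/
structure IsVert (ϖ : R) (η : V → X) (J : X.IdealSheafData) (φ : V → ℕ) : Prop where
  eff : BlowUp.IsEffCartierIdeal J
  top : ∀ x : X, f x ≠ (closedPoint R : PrimeSpectrum R) → stalkIdeal J x = ⊤
  ord : ∀ v, stalkIdeal J (η v) = Ideal.span {DualGr.stalkHom f (η v) ϖ ^ φ v}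

variable {f}

theorem isVert_of_comap (hjr : ∀ x : X, x ∈ Set.range j ↔ f x ≠ (closedPoint R : PrimeSpectrum R)) {J : X.IdealSheafData} {φ : V → ℕ}
    (hJ : BlowUp.IsEffCartierIdeal J) (hj : J.comap j = ⊤) (h : ∀ v, stalkIdeal J (η v) = Ideal.span {DualGr.stalkHom f (η v) ϖ ^ φ v}) :
    IsVert f ϖ η J φ := by
  refine ⟨hJ, fun x hx => ?_, h⟩
  obtain ⟨z, rfl⟩ := (hjr x).2 hx
  have h1 : J.comap j = (⊤ : X.IdealSheafData).comap j := by rw [hj, Scheme.IdealSheafData.comap_top]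
  rw [stalkIdeal_eq_of_comap_eq j h1 z, stalkIdeal_top]

include hϖ in
theorem IsVert.exists_local {J : X.IdealSheafData} {φ : V → ℕ} (h : IsVert f ϖ η J φ) [Flat f] (x : X) :
    ∃ (g g' : X.presheaf.stalk x) (N : ℕ), g ∈ nonZeroDivisors (X.presheaf.stalk x) ∧ stalkIdeal J x = Ideal.span {g} ∧
      g * g' = DualGr.stalkHom f x ϖ ^ N ∧ ∀ (v : V) (hv : η v ⤳ x), Ord (primeOf hv).asIdeal (DualGr.stalkHom f x ϖ) g (φ v) := by
  obtain ⟨g, hg, hgJ⟩ := exists_stalkIdeal_eq_span h.eff x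
  have hπ := K793.Basic.stalkHom_mem_nonZeroDivisors f x hϖ.ne_zero
  have hrad : DualGr.stalkHom f x ϖ ∈ (stalkIdeal J x).radical := by
    rw [← Ideal.sInf_minimalPrimes, Ideal.mem_sInf]
    intro P hP
    have hPp : P.IsPrime := hP.1.1
    by_contra hne
    have hs := ptOf_specializes (⟨P, hPp⟩ : PrimeSpectrum (X.presheaf.stalk x))
    have hy : f (ptOf (⟨P, hPp⟩ : PrimeSpectrum (X.presheaf.stalk x))) ≠ (closedPoint R : PrimeSpectrum R) := by
      rw [Ne, ← K793.FibGeom.asIdeal_mem_iff hϖ hs, primeOf_ptOf]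
      exact hne
    have h1 := h.top _ hy
    have h2 : stalkIdeal J (ptOf (⟨P, hPp⟩ : PrimeSpectrum (X.presheaf.stalk x))) ≤ maximalIdeal _ := by
      rw [← mem_support_iff_stalkIdeal_le]
      exact (fromSpecStalk_mem_support_iff J x ⟨P, hPp⟩).2 hP.1.2
    rw [h1] at h2
    exact (Ideal.IsPrime.ne_top (I := maximalIdeal _) inferInstance) (top_le_iff.1 h2)
  obtain ⟨N, hN⟩ := hrad
  rw [hgJ] at hN
  obtain ⟨g', hg'⟩ := Ideal.mem_span_singleton'.1 hN
  refine ⟨g, g', N, hg, hgJ, by rw [mul_comm]; exact hg', fun v hv => ?_⟩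
  have h3 := K793.Extend.ordI_of_stalk f J hv (h.ord v)
  rw [hgJ] at h3
  exact K793.SecMain.ord_of_ordI (primeOf hv).2 hπ h3

include hϖ in
theorem isRadical_span [IsReduced (f.fiber (closedPoint R))] {x : X} (hx : f x = (closedPoint R : PrimeSpectrum R)) :
    (Ideal.span {DualGr.stalkHom f x ϖ}).IsRadical := by
  have hr := Basic.isReduced_quot f x hϖ hx
  exact Ideal.isRadical_iff_quotient_reduced _ |>.2 hr

include hϖ in
theorem IsVert.le {I J : X.IdealSheafData} {φ ψ : V → ℕ} (hη : IsGenPts f η) [IsReduced (f.fiber (closedPoint R))] [Flat f]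
    (h : IsVert f ϖ η I φ) (h' : IsVert f ϖ η J ψ) (hle : ∀ v, φ v ≤ ψ v) : J ≤ I := by
  refine le_of_stalkIdeal fun x => ?_
  by_cases hx : f x = (closedPoint R : PrimeSpectrum R)
  · obtain ⟨g, g', N, hg, hgI, hgg, ho⟩ := h.exists_local hϖ x
    obtain ⟨p, p', M, hp, hpJ, hpp, ho'⟩ := h'.exists_local hϖ x
    rw [hgI, hpJ, Ideal.span_singleton_le_iff_mem]
    refine mem_span_of_ord (Basic.stalkHom_mem_nonZeroDivisors f x hϖ.ne_zero) (isRadical_span hϖ hx) hgg fun P hP => ?_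
    rw [hη.minimalPrimes_eq hϖ x] at hP
    obtain ⟨v, hv, rfl⟩ := hP
    exact ⟨φ v, ψ v, hle v, ho v hv, ho' v hv⟩
  · rw [h.top x hx]
    exact le_top

include hϖ in
theorem IsVert.ext {I J : X.IdealSheafData} {φ : V → ℕ} (hη : IsGenPts f η) [IsReduced (f.fiber (closedPoint R))] [Flat f]
    (h : IsVert f ϖ η I φ) (h' : IsVert f ϖ η J φ) : I = J :=
  le_antisymm (h'.le hϖ hη h fun _ => le_rfl) (h.le hϖ hη h' fun _ => le_rfl)

theorem IsVert.mul {I J : X.IdealSheafData} {φ ψ : V → ℕ} (h : IsVert f ϖ η I φ) (h' : IsVert f ϖ η J ψ) :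
    IsVert f ϖ η (I * J) (fun v => φ v + ψ v) := by
  refine ⟨Groth.Agent.Divis.EffCartier.isEff_mul h.eff h'.eff, fun x hx => ?_, fun v => ?_⟩
  · rw [stalkIdeal_mul, h.top x hx, h'.top x hx, Ideal.top_mul]
  · rw [stalkIdeal_mul, h.ord v, h'.ord v, Ideal.span_singleton_mul_span_singleton, pow_add]

include hϖ in
theorem isVert_prin [Flat f] (n : ℕ) : IsVert f ϖ η (Groth.Agent.Dix.VertForm.prin (Over.mk f) (ϖ ^ n)) (fun _ => n) := by
  have hfl : Flat (Over.mk f).hom := (inferInstance : Flat f)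
  refine ⟨Groth.Agent.Dix.VertForm.isEff_prin (X := Over.mk f) (pow_ne_zero n hϖ.ne_zero), fun x hx => ?_, fun v => ?_⟩
  · rw [stalkIdeal_prin, map_pow]
    exact Ideal.span_singleton_eq_top.2 (((Basic.isUnit_stalkHom_iff_ne f x hϖ).2 hx).pow n)
  · rw [stalkIdeal_prin, map_pow]

include hϖ in
/-- the orders of a vertical divisor form a Cartier labelling -/
theorem IsVert.dvd [Flat f] {J : X.IdealSheafData} {φ : V → ℕ} (h : IsVert f ϖ η J φ) {x : X} {v w : V} (hv : η v ⤳ x) (hw : η w ⤳ x)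
    {l : ℕ} (hd : NodeData (DualGr.stalkHom f x ϖ) l (primeOf hv).asIdeal (primeOf hw).asIdeal) :
    (l : ℤ) ∣ (φ v : ℤ) - φ w := by
  obtain ⟨g, g', N, hg, hgI, hgg, ho⟩ := h.exists_local hϖ x
  exact hd.ord_sub g g' N _ _ hgg (ho v hv) (ho w hw)

end K793.VertUniq
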